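import Groth.Agent.Lib.LocalCoh.Filtered
import Groth.Agent.Lib.LocalCoh.Resolution
import Groth.Agent.Lib.LocalCoh.Transfer
import Mathlib.Algebra.Colimit.Finiteness
import Mathlib.Algebra.Category.ModuleCat.Limits

/-!
Module level interface to the long exact sequence of local cohomology.
-/

universe u

open CategoryTheory CategoryTheory.Limits
open Groth.Agent.Lib.LocalCoh

namespace Groth.Agent.Lib.LCFin.Seq

variable {R : Type u} [CommRing R] (I : Ideal R)
variable {M N P : Type u} [AddCommGroup M] [Module R M] [AddCommGroup N] [Module R N]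
  [AddCommGroup P] [Module R P]

/-- The map on local cohomology induced by a linear map. -/
noncomputable def Hmap (i : ℕ) (f : M →ₗ[R] N) : LocCoh.H I i M →ₗ[R] LocCoh.H I i N :=
  ((localCohomology I i).map (ModuleCat.ofHom f)).hom

lemma Hmap_comp (i : ℕ) (g : N →ₗ[R] P) (f : M →ₗ[R] N) :
    Hmap I i (g ∘ₗ f) = Hmap I i g ∘ₗ Hmap I i f :=
  congrArg ModuleCat.Hom.hom ((localCohomology I i).map_comp (ModuleCat.ofHom f) (ModuleCat.ofHom g))

lemma Hmap_id (i : ℕ) : Hmap I i (LinearMap.id : M →ₗ[R] M) = LinearMap.id :=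
  congrArg ModuleCat.Hom.hom ((localCohomology I i).map_id (ModuleCat.of R M))

lemma Hmap_lsmul (i : ℕ) (r : R) (x : LocCoh.H I i M) :
    Hmap I i (LinearMap.lsmul R M r) x = r • x :=
  lc_map_smul_id I i (ModuleCat.of R M) r x

variable (f : M →ₗ[R] N) (g : N →ₗ[R] P)

/-- The short complex of two composable maps. -/
abbrev ses (h : Function.Exact f g) : ShortComplex (ModuleCat.{u} R) :=
  ShortComplex.mk (ModuleCat.ofHom f) (ModuleCat.ofHom g)
    (by ext x; exact h.apply_apply_eq_zero x)

variable {f g} (hf : Function.Injective f) (hg : Function.Surjective g) (h : Function.Exact f g)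
include hf hg

lemma ses_shortExact : (ses f g h).ShortExact where
  exact := (ShortComplex.ShortExact.moduleCat_exact_iff_function_exact _).2 h
  mono_f := (ModuleCat.mono_iff_injective _).2 hf
  epi_g := (ModuleCat.epi_iff_surjective _).2 hg

/-- The connecting map. -/
noncomputable def δ (i : ℕ) : LocCoh.H I i P →ₗ[R] LocCoh.H I (i + 1) M :=
  ((lcDeltaSeq I).δ (ses_shortExact hf hg h) i).hom

include h

lemma exact_map_map (i : ℕ) : Function.Exact (Hmap I i f) (Hmap I i g) :=
  (lcDeltaSeq I).exact₂ (ses_shortExact hf hg h) i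

lemma exact_map_δ (i : ℕ) : Function.Exact (Hmap I i g) (δ I hf hg h i) :=
  (lcDeltaSeq I).exact₃ (ses_shortExact hf hg h) i

lemma exact_δ_map (i : ℕ) : Function.Exact (δ I hf hg h i) (Hmap I (i + 1) f) :=
  (lcDeltaSeq I).exact₁ (ses_shortExact hf hg h) i

lemma injective_map_zero : Function.Injective (Hmap I 0 f) :=
  (lcDeltaSeq I).mono₀ (ses_shortExact hf hg h)

lemma subsingleton_mid (i : ℕ) (hM : Subsingleton (LocCoh.H I i M))
    (hP : Subsingleton (LocCoh.H I i P)) : Subsingleton (LocCoh.H I i N) := by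
  refine subsingleton_of_forall_eq 0 fun x => ?_
  obtain ⟨y, rfl⟩ := (exact_map_map I hf hg h i x).1 (hP.elim _ _)
  rw [hM.elim y 0, map_zero]

lemma subsingleton_right (i : ℕ) (hN : Subsingleton (LocCoh.H I i N))
    (hM : Subsingleton (LocCoh.H I (i + 1) M)) : Subsingleton (LocCoh.H I i P) := by
  refine subsingleton_of_forall_eq 0 fun x => ?_
  obtain ⟨y, rfl⟩ := (exact_map_δ I hf hg h i x).1 (hM.elim _ _)
  rw [hN.elim y 0, map_zero]

lemma subsingleton_left (i : ℕ) (hP : Subsingleton (LocCoh.H I i P))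
    (hN : Subsingleton (LocCoh.H I (i + 1) N)) : Subsingleton (LocCoh.H I (i + 1) M) := by
  refine subsingleton_of_forall_eq 0 fun x => ?_
  obtain ⟨y, rfl⟩ := (exact_δ_map I hf hg h i x).1 (hN.elim _ _)
  rw [hP.elim y 0, map_zero]

omit hf hg h

/-- Over a Noetherian ring every class comes from a finitely generated submodule. -/
theorem exists_fg_rep [IsNoetherianRing R] (i : ℕ) (x : LocCoh.H I i M) :
    ∃ (S : Submodule R M) (_ : S.FG) (y : LocCoh.H I i S), Hmap I i S.subtype y = x := by
  classical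
  let ι := {S : Submodule R M // S.FG}
  let G : ι → Type u := fun S => S.1
  let φ := Module.fgSystem R M
  have : Nonempty ι := ⟨⟨⊥, Submodule.fg_bot⟩⟩
  have : IsDirectedOrder ι := inferInstance
  have hT : PreservesColimitsOfShape ι (localCohomology I i) :=
    lc_preservesColimitsOfShape (J := ι) I i
  let c := ModuleCat.directLimitCocone G φ
  have hc := isColimitOfPreserves (localCohomology I i) (ModuleCat.directLimitIsColimit G φ)
  let e := Module.fgSystem.equiv R M
  obtain ⟨S, y, hy⟩ := Concrete.isColimit_exists_rep _ hc (Hmap I i e.symm.toLinearMap x)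
  refine ⟨S.1, S.2, y, ?_⟩
  let o : S.1 →ₗ[R] Module.DirectLimit G φ := Module.DirectLimit.of R ι G φ S
  have h1 : e.toLinearMap ∘ₗ o = S.1.subtype := Module.fgSystem.equiv_comp_of S
  rw [← h1, Hmap_comp, LinearMap.comp_apply]
  refine (congrArg (Hmap I i e.toLinearMap) hy).trans ?_
  rw [← LinearMap.comp_apply, ← Hmap_comp, LinearEquiv.comp_symm, Hmap_id]
  rfl

/-- Vanishing on finitely generated modules implies vanishing. -/
theorem subsingleton_of_forall_fg [IsNoetherianRing R] (i : ℕ)
    (hfg : ∀ (N : Type u) [AddCommGroup N] [Module R N] [Module.Finite R N],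
      Subsingleton (LocCoh.H I i N)) : Subsingleton (LocCoh.H I i M) := by
  refine subsingleton_of_forall_eq 0 fun x => ?_
  obtain ⟨S, hS, y, rfl⟩ := exists_fg_rep I i x
  have := Module.Finite.iff_fg.2 hS
  rw [(hfg S).elim y 0, map_zero]

end Groth.Agent.Lib.LCFin.Seq
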