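import Groth.Agent.Lib.LocalCoh.Basic
import Groth.Agent.Lib.LCFin.Seq
import Mathlib.Algebra.Homology.DerivedCategory.Ext.ExactSequences
import Mathlib.Algebra.Homology.DerivedCategory.Ext.EnoughProjectives
import Mathlib.Algebra.Category.ModuleCat.Projective
import Mathlib.Algebra.Module.FinitePresentation
import Mathlib.Algebra.Module.LocalizedModule.Exact
import Mathlib.RingTheory.Localization.BaseChange

/-!
`Ext` of finite modules commutes with localization.
-/

universe u

open CategoryTheory
open Groth.Agent.Lib.LocalCoh Groth.Agent.Lib.LCFin.Seq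

namespace Groth.Agent.Lib.LCFin.ExtLoc

section Conn

variable {R : Type u} [CommRing R] {K F M : Type u} [AddCommGroup K] [Module R K] [AddCommGroup F]
  [Module R F] [AddCommGroup M] [Module R M] {ι : K →ₗ[R] F} {π : F →ₗ[R] M}
  (hι : Function.Injective ι) (hπ : Function.Surjective π) (hex : Function.Exact ι π)
  (N : Type u) [AddCommGroup N] [Module R N]

/-- The connecting map of `Ext(-, N)`. -/
noncomputable def extConn (j : ℕ) :
    Abelian.Ext (ModuleCat.of R K) (ModuleCat.of R N) j →ₗ[R]
      Abelian.Ext (ModuleCat.of R M) (ModuleCat.of R N) (j + 1) where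
  toFun h := (ses_shortExact hι hπ hex).extClass.comp h (add_comm 1 j)
  map_add' _ _ := Abelian.Ext.comp_add ..
  map_smul' _ _ := Abelian.Ext.comp_smul ..

lemma extConn_surjective (hF : Module.Projective R F) (j : ℕ) :
    Function.Surjective (extConn hι hπ hex N j) := fun x => by
  have : Projective (ModuleCat.of R F) := (IsProjective.iff_projective F).1 hF
  have h0 : (Abelian.Ext.mk₀ (ModuleCat.ofHom π)).comp x (zero_add (j + 1)) = 0 :=
    Abelian.Ext.eq_zero_of_projective _
  exact Abelian.Ext.contravariant_sequence_exact₃ (ses_shortExact hι hπ hex) _ x h0 (add_comm 1 j)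

lemma extConn_eq_zero_iff (j : ℕ) (h : Abelian.Ext (ModuleCat.of R K) (ModuleCat.of R N) j) :
    extConn hι hπ hex N j h = 0 ↔ ∃ g : Abelian.Ext (ModuleCat.of R F) (ModuleCat.of R N) j,
      (Abelian.Ext.mk₀ (ModuleCat.ofHom ι)).comp g (zero_add j) = h := by
  constructor
  · exact fun h0 => Abelian.Ext.contravariant_sequence_exact₁ (ses_shortExact hι hπ hex) _ h
      (add_comm 1 j) h0
  · rintro ⟨g, rfl⟩
    exact ShortComplex.ShortExact.extClass_comp_assoc (ses_shortExact hι hπ hex) _
      (h := add_comm 1 j)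

lemma extConn_succ_injective (hF : Module.Projective R F) (j : ℕ) :
    Function.Injective (extConn hι hπ hex N (j + 1)) := by
  have : Projective (ModuleCat.of R F) := (IsProjective.iff_projective F).1 hF
  rw [← LinearMap.ker_eq_bot, Submodule.eq_bot_iff]
  intro h h0
  obtain ⟨g, rfl⟩ := (extConn_eq_zero_iff hι hπ hex N (j + 1) h).1 h0
  rw [Abelian.Ext.eq_zero_of_projective g, Abelian.Ext.comp_zero]

/-- `Ext^0` is `Hom`. -/
noncomputable def homEquiv (M N : Type u) [AddCommGroup M] [Module R M] [AddCommGroup N]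
    [Module R N] : Abelian.Ext (ModuleCat.of R M) (ModuleCat.of R N) 0 ≃ₗ[R] (M →ₗ[R] N) :=
  e₀.trans ModuleCat.homLinearEquiv

omit hι hπ hex in
lemma homEquiv_precomp (g : Abelian.Ext (ModuleCat.of R F) (ModuleCat.of R N) 0) :
    homEquiv K N ((Abelian.Ext.mk₀ (ModuleCat.ofHom ι)).comp g (zero_add 0)) = homEquiv F N g ∘ₗ ι :=
  congrArg ModuleCat.Hom.hom (e₀_mk₀_comp (ModuleCat.ofHom ι) g)

end Conn

/-- An additive map exhibiting its target as the localization of its source. -/
structure IsLocalizing {R : Type u} [CommRing R] (S : Submonoid R) {A B : Type u} [AddCommGroup A]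
    [Module R A] [AddCommGroup B] [Module (Localization S) B] (ψ : A →+ B) : Prop where
  map_smul : ∀ (r : R) (a : A), ψ (r • a) = algebraMap R (Localization S) r • ψ a
  surj : ∀ b : B, ∃ (a : A) (s : S), algebraMap R (Localization S) s.1 • b = ψ a
  eq_zero : ∀ a : A, ψ a = 0 → ∃ s : S, s.1 • a = 0

variable {R : Type u} [CommRing R] (S : Submonoid R)

theorem IsLocalizing.nonempty_equiv {A B : Type u} [AddCommGroup A] [Module R A] [AddCommGroup B]
    [Module (Localization S) B] {ψ : A →+ B} (h : IsLocalizing S ψ) :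
    Nonempty (LocalizedModule S A ≃ₗ[Localization S] B) := by
  letI : Module R B := Module.compHom B (algebraMap R (Localization S))
  haveI : IsScalarTower R (Localization S) B := ⟨fun r s b => by
    rw [Algebra.smul_def, mul_smul]; rfl⟩
  let f : A →ₗ[R] B := { toFun := ψ, map_add' := ψ.map_add, map_smul' := h.map_smul }
  haveI : IsLocalizedModule S f := by
    refine ⟨fun s => (Module.End.isUnit_iff _).2 ?_, fun b => ?_, fun {a a'} e => ?_⟩
    · have hu := IsLocalization.map_units (Localization S) s
      refine ⟨fun x y e => hu.smul_left_cancel.1 e, fun y => ⟨(hu.unit⁻¹ : (Localization S)ˣ) • y, ?_⟩⟩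
      show algebraMap R (Localization S) s.1 • ((hu.unit⁻¹ : (Localization S)ˣ) • y) = y
      rw [Units.smul_def, ← mul_smul, IsUnit.mul_val_inv, one_smul]
    · obtain ⟨a, s, e⟩ := h.surj b
      exact ⟨(a, s), e⟩
    · obtain ⟨s, hs⟩ := h.eq_zero (a - a') (by
        rw [map_sub, sub_eq_zero]; exact e)
      exact ⟨s, by rw [← sub_eq_zero, ← smul_sub]; exact hs⟩
  exact ⟨(IsLocalizedModule.iso S f).extendScalarsOfIsLocalization S (Localization S)⟩

/-- Localization maps descend along compatible surjections. -/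
theorem IsLocalizing.exists_descend {A B : Type u} [AddCommGroup A] [Module R A] [AddCommGroup B]
    [Module R B] {A' B' : Type u} [AddCommGroup A'] [Module (Localization S) A'] [AddCommGroup B']
    [Module (Localization S) B'] {ψ : A →+ A'} (hψ : IsLocalizing S ψ) (c : A →ₗ[R] B)
    (c' : A' →ₗ[Localization S] B') (hc : Function.Surjective c) (hc' : Function.Surjective c')
    (hker : ∀ x, c' (ψ x) = 0 ↔ ∃ t : S, c (t.1 • x) = 0) :
    ∃ φ : B →+ B', IsLocalizing S φ := by
  have hwd : ∀ x y, c x = c y → c' (ψ x) = c' (ψ y) := fun x y e => by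
    rw [← sub_eq_zero, ← map_sub, ← map_sub]
    exact (hker _).2 ⟨1, by rw [OneMemClass.coe_one, one_smul, map_sub, sub_eq_zero]; exact e⟩
  choose σ hσ using hc
  have hval : ∀ x, c' (ψ (σ (c x))) = c' (ψ x) := fun x => hwd _ _ (hσ _)
  refine ⟨{ toFun := fun y => c' (ψ (σ y)), map_zero' := ?_, map_add' := fun a b => ?_ }, ?_, ?_, ?_⟩
  · rw [← map_zero c, hval, map_zero, map_zero]
  · rw [hwd (σ (a + b)) (σ a + σ b) (by rw [map_add, hσ, hσ, hσ]), map_add, map_add]
  · intro r a
    show c' (ψ (σ (r • a))) = algebraMap R (Localization S) r • c' (ψ (σ a))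
    rw [hwd (σ (r • a)) (r • σ a) (by rw [_root_.map_smul, hσ, hσ]), hψ.map_smul, _root_.map_smul]
  · intro b
    obtain ⟨z, rfl⟩ := hc' b
    obtain ⟨a, t, ha⟩ := hψ.surj z
    refine ⟨c a, t, ?_⟩
    show _ = c' (ψ (σ (c a)))
    rw [hval, ← _root_.map_smul, ha]
  · intro a ha
    obtain ⟨t, ht⟩ := (hker (σ a)).1 ha
    exact ⟨t, by rw [← hσ a, ← _root_.map_smul]; exact ht⟩

section Kernel

variable (N : Type u) [AddCommGroup N] [Module R N] {K F M : Type u} [AddCommGroup K] [Module R K]
  [AddCommGroup F] [Module R F] [AddCommGroup M] [Module R M] {ι : K →ₗ[R] F} {π : F →ₗ[R] M}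
  (hι : Function.Injective ι) (hπ : Function.Surjective π) (hex : Function.Exact ι π)
  {K' F' M' N' : Type u} [AddCommGroup K'] [Module (Localization S) K'] [AddCommGroup F']
  [Module (Localization S) F'] [AddCommGroup M'] [Module (Localization S) M'] [AddCommGroup N']
  [Module (Localization S) N'] {ι' : K' →ₗ[Localization S] F'} {π' : F' →ₗ[Localization S] M'}
  (hι' : Function.Injective ι') (hπ' : Function.Surjective π') (hex' : Function.Exact ι' π')

include hι hπ hex hι' hπ' hex'

theorem ker_compat_zero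
    {ψK : Abelian.Ext (ModuleCat.of R K) (ModuleCat.of R N) 0 →+
      Abelian.Ext (ModuleCat.of (Localization S) K') (ModuleCat.of (Localization S) N') 0}
    (hψK : IsLocalizing S ψK)
    {ψF : Abelian.Ext (ModuleCat.of R F) (ModuleCat.of R N) 0 →+
      Abelian.Ext (ModuleCat.of (Localization S) F') (ModuleCat.of (Localization S) N') 0}
    (hψF : IsLocalizing S ψF)
    (hcomm : ∀ g, ψK ((Abelian.Ext.mk₀ (ModuleCat.ofHom ι)).comp g (zero_add 0)) =
      (Abelian.Ext.mk₀ (ModuleCat.ofHom ι')).comp (ψF g) (zero_add 0))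
    (x : Abelian.Ext (ModuleCat.of R K) (ModuleCat.of R N) 0) :
    extConn hι' hπ' hex' N' 0 (ψK x) = 0 ↔ ∃ t : S, extConn hι hπ hex N 0 (t.1 • x) = 0 := by
  constructor
  · intro h0
    obtain ⟨g, hg⟩ := (extConn_eq_zero_iff hι' hπ' hex' _ 0 _).1 h0
    obtain ⟨a, t, ha⟩ := hψF.surj g
    have : ψK ((Abelian.Ext.mk₀ (ModuleCat.ofHom ι)).comp a (zero_add 0) - t.1 • x) = 0 := by
      rw [map_sub, hψK.map_smul, hcomm, ← ha, Abelian.Ext.comp_smul, hg, sub_self]
    obtain ⟨t', ht'⟩ := hψK.eq_zero _ this
    refine ⟨t' * t, (extConn_eq_zero_iff hι hπ hex N 0 _).2 ⟨t'.1 • a, ?_⟩⟩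
    rw [smul_sub, sub_eq_zero] at ht'
    rw [Abelian.Ext.comp_smul, ht', Submonoid.coe_mul, mul_smul]
  · rintro ⟨t, ht⟩
    obtain ⟨g, hg⟩ := (extConn_eq_zero_iff hι hπ hex N 0 _).1 ht
    have h1 : algebraMap R (Localization S) t.1 • extConn hι' hπ' hex' N' 0 (ψK x) = 0 := by
      rw [← map_smul, ← hψK.map_smul, ← hg, hcomm]
      exact (extConn_eq_zero_iff hι' hπ' hex' _ 0 _).2 ⟨_, rfl⟩
    exact (IsLocalization.map_units (Localization S) t).smul_eq_zero.1 h1

theorem ker_compat_succ (hF : Module.Projective R F) (hF' : Module.Projective (Localization S) F')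
    (j : ℕ) {ψK : Abelian.Ext (ModuleCat.of R K) (ModuleCat.of R N) (j + 1) →+
      Abelian.Ext (ModuleCat.of (Localization S) K') (ModuleCat.of (Localization S) N') (j + 1)}
    (hψK : IsLocalizing S ψK)
    (x : Abelian.Ext (ModuleCat.of R K) (ModuleCat.of R N) (j + 1)) :
    extConn hι' hπ' hex' N' (j + 1) (ψK x) = 0 ↔
      ∃ t : S, extConn hι hπ hex N (j + 1) (t.1 • x) = 0 := by
  constructor
  · intro h0
    have h1 : ψK x = 0 := extConn_succ_injective hι' hπ' hex' N' hF' j (h0.trans (map_zero _).symm)
    obtain ⟨t, ht⟩ := hψK.eq_zero x h1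
    exact ⟨t, by rw [ht, map_zero]⟩
  · rintro ⟨t, ht⟩
    have h1 : t.1 • x = 0 := extConn_succ_injective hι hπ hex N hF j (ht.trans (map_zero _).symm)
    have h2 := congrArg ψK h1
    rw [hψK.map_smul, map_zero] at h2
    rw [(IsLocalization.map_units (Localization S) t).smul_eq_zero.1 h2, map_zero]

end Kernel

variable [IsNoetherianRing R] (N : Type u) [AddCommGroup N] [Module R N]

/-- `Ext` of a finite module commutes with localization. -/
theorem exists_isLocalizing : ∀ (j : ℕ) (M : Type u) [AddCommGroup M] [Module R M] [Module.Finite R M],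
    ∃ ψ : Abelian.Ext (ModuleCat.of R M) (ModuleCat.of R N) j →+
      Abelian.Ext (ModuleCat.of (Localization S) (LocalizedModule S M))
        (ModuleCat.of (Localization S) (LocalizedModule S N)) j, IsLocalizing S ψ := by
  -- degree zero
  have zero : ∀ (M : Type u) [AddCommGroup M] [Module R M] [Module.Finite R M],
      ∃ ψ : Abelian.Ext (ModuleCat.of R M) (ModuleCat.of R N) 0 →+
        Abelian.Ext (ModuleCat.of (Localization S) (LocalizedModule S M))
          (ModuleCat.of (Localization S) (LocalizedModule S N)) 0, IsLocalizing S ψ ∧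
        ∀ x, homEquiv _ _ (ψ x) = LocalizedModule.map S (homEquiv M N x) := by
    intro M _ _ _
    haveI : Module.FinitePresentation R M := Module.finitePresentation_of_finite R M
    let L := LocalizedModule.map S (M := M) (N := N)
    let ψ : Abelian.Ext (ModuleCat.of R M) (ModuleCat.of R N) 0 →+
        Abelian.Ext (ModuleCat.of (Localization S) (LocalizedModule S M))
          (ModuleCat.of (Localization S) (LocalizedModule S N)) 0 :=
      (homEquiv (R := Localization S) _ _).symm.toAddMonoidHom.comp
        (L.toAddMonoidHom.comp (homEquiv M N).toAddMonoidHom)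
    have hψ : ∀ x, ψ x = (homEquiv (R := Localization S) _ _).symm (L (homEquiv M N x)) := fun _ => rfl
    refine ⟨ψ, ⟨fun r x => ?_, fun b => ?_, fun a ha => ?_⟩, fun x => by
      rw [hψ, LinearEquiv.apply_symm_apply]⟩
    · rw [hψ, hψ, LinearEquiv.map_smul, LinearMap.map_smul, ← LinearEquiv.map_smul]
      congr 1
      exact (algebraMap_smul (Localization S) r _).symm
    · obtain ⟨⟨φ, s⟩, e⟩ := IsLocalizedModule.surj S L (homEquiv (R := Localization S) _ _ b)
      refine ⟨(homEquiv M N).symm φ, s, (homEquiv (R := Localization S) _ _).injective ?_⟩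
      rw [map_smul, hψ, LinearEquiv.apply_symm_apply, LinearEquiv.apply_symm_apply, ← e,
        algebraMap_smul]
      rfl
    · rw [hψ, LinearEquiv.map_eq_zero_iff] at ha
      obtain ⟨s, hs⟩ := IsLocalizedModule.exists_of_eq (S := S) (f := L)
        (x₁ := homEquiv M N a) (x₂ := 0) (by rw [ha, map_zero])
      exact ⟨s, (homEquiv M N).injective (by rw [map_smul, map_zero, ← Submonoid.smul_def, hs, smul_zero])⟩
  intro j
  induction j with
  | zero =>
    intro M _ _ _
    obtain ⟨ψ, h, -⟩ := zero M
    exact ⟨ψ, h⟩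
  | succ j ih =>
    intro M _ _ _
    obtain ⟨s, π, hπ⟩ := Module.Finite.exists_fin' R M
    let K := LinearMap.ker π
    have hι := Submodule.injective_subtype K
    have hex : Function.Exact K.subtype π := LinearMap.exact_subtype_ker_map π
    have hι' : Function.Injective (LocalizedModule.map S K.subtype) :=
      LocalizedModule.map_injective S _ hι
    have hπ' : Function.Surjective (LocalizedModule.map S π) := LocalizedModule.map_surjective S _ hπ
    have hex' : Function.Exact (LocalizedModule.map S K.subtype) (LocalizedModule.map S π) :=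
      LocalizedModule.map_exact S _ _ hex
    have hP : Module.Projective (Localization S) (LocalizedModule S (Fin s → R)) :=
      Module.Projective.of_equiv (LocalizedModule.equivTensorProduct S (Fin s → R)).symm
    have hPR : Module.Projective R (Fin s → R) := inferInstance
    cases j with
    | zero =>
      obtain ⟨ψK, hψK, hK⟩ := zero K
      obtain ⟨ψF, hψF, hF⟩ := zero (Fin s → R)
      refine hψK.exists_descend S (extConn hι hπ hex N 0) (extConn hι' hπ' hex' _ 0)
        (extConn_surjective hι hπ hex N hPR 0) (extConn_surjective hι' hπ' hex' _ hP 0)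
        (ker_compat_zero S N hι hπ hex hι' hπ' hex' hψK hψF fun g => (homEquiv _ _).injective ?_)
      rw [hK, homEquiv_precomp, homEquiv_precomp, hF]
      refine LinearMap.ext fun z => ?_
      induction z using LocalizedModule.induction_on with
      | h m t => simp [LocalizedModule.map_mk]
    | succ j =>
      obtain ⟨ψK, hψK⟩ := ih K
      exact hψK.exists_descend S (extConn hι hπ hex N (j + 1)) (extConn hι' hπ' hex' _ (j + 1))
        (extConn_surjective hι hπ hex N hPR _) (extConn_surjective hι' hπ' hex' _ hP _)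
        (ker_compat_succ S N hι hπ hex hι' hπ' hex' hPR hP j hψK)

/-- Localization of `Ext`. -/
theorem nonempty_equiv (j : ℕ) (M : Type u) [AddCommGroup M] [Module R M] [Module.Finite R M] :
    Nonempty (LocalizedModule S (Abelian.Ext (ModuleCat.of R M) (ModuleCat.of R N) j)
      ≃ₗ[Localization S] Abelian.Ext (ModuleCat.of (Localization S) (LocalizedModule S M))
        (ModuleCat.of (Localization S) (LocalizedModule S N)) j) := by
  obtain ⟨ψ, h⟩ := exists_isLocalizing S N j M
  exact h.nonempty_equiv

end Groth.Agent.Lib.LCFin.ExtLoc
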