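import Groth.Agent.Lib.LCFin.CanonBasic
import Groth.Agent.Lib.Depth.LocalCoh
import Groth.Agent.Lib.Depth.CM
import Groth.Agent.Lib.LocalCoh.Transfer

/-!
Canonical modules of Cohen–Macaulay modules: regular sequences and endomorphisms.
-/

universe u

open CategoryTheory IsLocalRing RingTheory.Sequence
open scoped Pointwise
open Groth.Agent.Lib.LocalCoh Groth.Agent.Lib.LCFin.Seq Groth.Agent.Lib.LCFin.Cd
  Groth.Agent.Lib.InjHull Groth.Agent.Lib.LCFin.CanonBasic

namespace Groth.Agent.Lib.LCFin.CanonEnd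

variable {R : Type u} [CommRing R] [IsNoetherianRing R] [IsLocalRing R] {E : Type u}
  [AddCommGroup E] [Module R E] {f : ResidueField R →ₗ[R] E}

local notation "𝔪" => IsLocalRing.maximalIdeal R

section Basic

variable {K : Type u} [AddCommGroup K] [Module R K] [Module.Finite R K]
  {Q : Type u} [AddCommGroup Q] [Module R Q] [Module.Finite R Q] {d : ℕ}

theorem mem_associatedPrimes_iff (hf : InjHull.IsInjectiveHull f)
    (hCM : LocCoh.IsCohenMacaulayModule R Q) (hd : Module.supportDim R Q = d)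
    (e : (K →ₗ[R] E) ≃ₗ[R] LocCoh.H 𝔪 d Q) :
    associatedPrimes R K = associatedPrimes R Q := by
  rw [associatedPrimes_eq hf hd.le e]
  ext p
  constructor
  · rintro ⟨hp, hle, hdim⟩
    refine Module.associatedPrimes.minimalPrimes_annihilator_subset_associatedPrimes R Q
      ⟨⟨hp, hle⟩, fun q ⟨hq, hQq⟩ hqp => ?_⟩
    by_contra hne
    have h1 := Depth.Assoc.ringKrullDim_quotient_add_one_le_of_lt (lt_of_le_not_ge hqp hne : q < p)
    have h2 : ringKrullDim (R ⧸ q) ≤ d := by
      rw [← hd, Module.supportDim_eq_ringKrullDim_quotient_annihilator]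
      exact ringKrullDim_le_of_surjective (Ideal.Quotient.factor hQq)
        (Ideal.Quotient.factor_surjective _)
    have := h1.trans h2
    rw [hdim] at this
    exact absurd this (not_le.2 (by exact_mod_cast d.lt_succ_self))
  · intro hp
    refine ⟨hp.isPrime, ?_, (Depth.CM.ringKrullDim_quotient_eq hCM hp).trans hd⟩
    have h := IsAssociatedPrime.annihilator_le hp
    rwa [Submodule.annihilator_top] at h

theorem isSMulRegular_iff (hf : InjHull.IsInjectiveHull f)
    (hCM : LocCoh.IsCohenMacaulayModule R Q) (hd : Module.supportDim R Q = d)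
    (e : (K →ₗ[R] E) ≃ₗ[R] LocCoh.H 𝔪 d Q) (a : R) : IsSMulRegular Q a ↔ IsSMulRegular K a := by
  have h1 := biUnion_associatedPrimes_eq_compl_regular R Q
  have h2 := biUnion_associatedPrimes_eq_compl_regular R K
  rw [mem_associatedPrimes_iff hf hCM hd e] at h2
  have h3 := h1.symm.trans h2
  exact not_iff_not.1 (Set.ext_iff.1 h3 a)

/-- Reduction by a regular element. -/
theorem exists_quot (hf : InjHull.IsInjectiveHull f)
    (hCM : LocCoh.IsCohenMacaulayModule R Q) (hd : Module.supportDim R Q = d)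
    (e : (K →ₗ[R] E) ≃ₗ[R] LocCoh.H 𝔪 d Q) {a : R} (ha : a ∈ 𝔪) (hreg : IsSMulRegular Q a) :
    ∃ d' : ℕ, d = d' + 1 ∧ LocCoh.IsCohenMacaulayModule R (QuotSMulTop a Q) ∧
      Module.supportDim R (QuotSMulTop a Q) = d' ∧
      Nonempty (((QuotSMulTop a K) →ₗ[R] E) ≃ₗ[R] LocCoh.H 𝔪 d' (QuotSMulTop a Q)) := by
  have : Nontrivial Q := by
    by_contra h
    rw [not_nontrivial_iff_subsingleton] at h
    rw [Module.supportDim_eq_bot_of_subsingleton] at hd
    simp at hd
  have hnt : Nontrivial (QuotSMulTop a Q) :=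
    Submodule.Quotient.nontrivial_iff.2 (by
      rw [← Submodule.ideal_span_singleton_smul]
      exact Ne.symm (Submodule.top_ne_ideal_smul_of_le_jacobson_annihilator
        ((Ideal.span_singleton_le_iff_mem _).2 ((IsLocalRing.maximalIdeal_le_jacobson _) ha))))
  have hsum := Module.supportDim_quotSMulTop_succ_eq_supportDim hreg ha
  obtain ⟨k, hk⟩ := Depth.CM.supportDim_eq_nat (R := R) (QuotSMulTop a Q)
  rw [hk, hd] at hsum
  obtain rfl : k + 1 = d := by exact_mod_cast hsum
  refine ⟨k, rfl, (Depth.CM.isCohenMacaulayModule_quotSMulTop_iff ha hreg).2 hCM, hk, ?_⟩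
  have hlow : Subsingleton (LocCoh.H 𝔪 k Q) := by
    refine (Depth.LocalCoh.le_idealDepth_iff_H 𝔪 Q (k + 1)).1 ?_ k k.lt_succ_self
    have h' : ((LocCoh.depth R Q : ℕ∞) : WithBot ℕ∞) = (((k + 1 : ℕ) : ℕ∞) : WithBot ℕ∞) :=
      Eq.trans (Eq.symm hCM) (by exact_mod_cast hd)
    exact (WithBot.coe_injective h').ge
  obtain ⟨T, hT, hinj⟩ := exists_torsion_map hf e hd.le (a := a) fun p hp hle hdim hap => by
    have : p ∈ associatedPrimes R K := by
      rw [associatedPrimes_eq hf hd.le e]
      exact ⟨hp, hle, hdim⟩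
    rw [mem_associatedPrimes_iff hf hCM hd e] at this
    have hmem : a ∈ ⋃ q ∈ associatedPrimes R Q, (q : Set R) := Set.mem_iUnion₂_of_mem this hap
    rw [biUnion_associatedPrimes_eq_compl_regular] at hmem
    exact hmem hreg
  exact ⟨(LinearEquiv.ofBijective T ⟨hinj hlow, hT⟩).symm⟩

end Basic

/-- Regular sequences on a Cohen–Macaulay module and on its canonical module. -/
theorem regular_iff (hf : InjHull.IsInjectiveHull f) : ∀ (as : List R), (∀ a ∈ as, a ∈ 𝔪) →
    ∀ (d : ℕ) (K Q : Type u) [AddCommGroup K] [Module R K] [Module.Finite R K] [AddCommGroup Q]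
      [Module R Q] [Module.Finite R Q], LocCoh.IsCohenMacaulayModule R Q →
      Module.supportDim R Q = d → ((K →ₗ[R] E) ≃ₗ[R] LocCoh.H 𝔪 d Q) →
      (IsWeaklyRegular Q as ↔ IsWeaklyRegular K as) ∧ (IsWeaklyRegular Q as →
        Nonempty (((K ⧸ (Ideal.ofList as • (⊤ : Submodule R K))) →ₗ[R] E) ≃ₗ[R]
          LocCoh.H 𝔪 (d - as.length) (Q ⧸ (Ideal.ofList as • (⊤ : Submodule R Q))))) := by
  intro as
  induction as with
  | nil =>
    intro _ d K Q _ _ _ _ _ _ _ _ e
    refine ⟨iff_of_true (IsWeaklyRegular.nil R Q) (IsWeaklyRegular.nil R K), fun _ => ?_⟩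
    have hb : ∀ (X : Type u) [AddCommGroup X] [Module R X],
        (Ideal.ofList ([] : List R) • (⊤ : Submodule R X)) = ⊥ := fun X _ _ => by
      rw [Ideal.ofList_nil, Submodule.bot_smul]
    exact ⟨((LinearEquiv.congrLeft E R (Submodule.quotEquivOfEqBot _ (hb K))).trans e).trans
      (lcLinearEquiv 𝔪 d (Submodule.quotEquivOfEqBot _ (hb Q))).symm⟩
  | cons a as ih =>
    intro hmem d K Q _ _ _ _ _ _ hCM hd e
    rw [List.forall_mem_cons] at hmem
    rw [isWeaklyRegular_cons_iff, isWeaklyRegular_cons_iff]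
    by_cases hreg : IsSMulRegular Q a
    · obtain ⟨d', rfl, hCM', hd', ⟨e'⟩⟩ := exists_quot hf hCM hd e hmem.1 hreg
      obtain ⟨h1, h2⟩ := ih hmem.2 d' (QuotSMulTop a K) (QuotSMulTop a Q) hCM' hd' e'
      refine ⟨and_congr (isSMulRegular_iff hf hCM hd e a) h1, fun h => ?_⟩
      obtain ⟨e''⟩ := h2 h.2
      rw [List.length_cons, Nat.add_sub_add_right]
      exact ⟨(LinearEquiv.congrLeft E R (Submodule.quotOfListConsSMulTopEquivQuotSMulTopInner K a as)).trans
        (e''.trans (lcLinearEquiv 𝔪 _ (Submodule.quotOfListConsSMulTopEquivQuotSMulTopInner Q a as)).symm)⟩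
    · exact ⟨iff_of_false (fun h => hreg h.1)
        (fun h => hreg ((isSMulRegular_iff hf hCM hd e a).2 h.1)), fun h => absurd h.1 hreg⟩

/-- Endomorphisms of a canonical module are scalars. -/
theorem exists_eq_smul (hf : InjHull.IsInjectiveHull f) :
    ∀ (d : ℕ) (K Q : Type u) [AddCommGroup K] [Module R K] [Module.Finite R K] [AddCommGroup Q]
      [Module R Q] [Module.Finite R Q], LocCoh.IsCohenMacaulayModule R Q →
      Module.supportDim R Q = d → ((K →ₗ[R] E) ≃ₗ[R] LocCoh.H 𝔪 d Q) →
      (∃ q : Q, Submodule.span R {q} = ⊤) →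
      (∀ g : K →ₗ[R] K, ∃ r : R, ∀ x, g x = r • x) ∧
        Module.annihilator R K ≤ Module.annihilator R Q := by
  intro d
  induction d with
  | zero =>
    intro K Q _ _ _ _ _ _ _ hd e ⟨q, hq⟩
    let e₀ : (K →ₗ[R] E) ≃ₗ[R] Q := e.trans (((lcZeroIso 𝔪).app (ModuleCat.of R Q)).toLinearEquiv.trans
      (LinearEquiv.ofTop _ (Nonvanishing.torsionSub_eq_top Q (by rw [hd, Nat.cast_zero]))))
    refine ⟨fun g => ?_, fun r hr => ?_⟩
    · let h : Q →ₗ[R] Q := e₀.toLinearMap ∘ₗ LinearMap.lcomp R E g ∘ₗ e₀.symm.toLinearMap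
      obtain ⟨r, hr⟩ := Submodule.mem_span_singleton.1 (hq.ge (Submodule.mem_top : h q ∈ ⊤))
      have hh : ∀ z, h z = r • z := fun z => by
        obtain ⟨c, rfl⟩ := Submodule.mem_span_singleton.1 (hq.ge (Submodule.mem_top : z ∈ ⊤))
        rw [map_smul, ← hr, smul_comm]
      refine ⟨r, fun x => ?_⟩
      rw [← sub_eq_zero]
      refine Matlis.eq_zero_of_forall_dual hf fun φ => ?_
      have h1 := hh (e₀ φ)
      have h2 : LinearMap.lcomp R E g φ = r • φ := by
        apply e₀.injective
        rw [map_smul, ← h1]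
        simp [h]
      rw [map_sub, map_smul, sub_eq_zero]
      exact LinearMap.congr_fun h2 x
    · rw [Matlis.annihilator_dual hf K, Module.mem_annihilator] at hr
      rw [Module.mem_annihilator]
      intro z
      obtain ⟨φ, rfl⟩ := e₀.surjective z
      rw [← map_smul, hr φ, map_zero]
  | succ d ih =>
    intro K Q _ _ _ _ _ _ hCM hd e ⟨q, hq⟩
    have hdepth : ((d + 1 : ℕ) : ℕ∞) ≤ LocCoh.idealDepth 𝔪 Q := by
      have h' : ((LocCoh.depth R Q : ℕ∞) : WithBot ℕ∞) = (((d + 1 : ℕ) : ℕ∞) : WithBot ℕ∞) :=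
        Eq.trans (Eq.symm hCM) (by exact_mod_cast hd)
      exact (WithBot.coe_injective h').ge
    have : Nontrivial Q := by
      by_contra h
      rw [not_nontrivial_iff_subsingleton] at h
      rw [Module.supportDim_eq_bot_of_subsingleton] at hd
      exact WithBot.bot_ne_coe (show (⊥ : WithBot ℕ∞) = (((d + 1 : ℕ) : ℕ∞) : WithBot ℕ∞) from hd)
    obtain ⟨a, ha, hreg, -⟩ := Depth.Basic.exists_isSMulRegular_of_succ_le
      (Depth.Basic.smul_top_ne_top (Ideal.IsPrime.ne_top' (I := 𝔪))) hdepth
    obtain ⟨d', hdd', hCM', hd', ⟨e'⟩⟩ := exists_quot hf hCM hd e ha hreg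
    obtain rfl : d = d' := by omega
    have hregK := (isSMulRegular_iff hf hCM hd e a).1 hreg
    obtain ⟨h1, h2⟩ := ih (QuotSMulTop a K) (QuotSMulTop a Q) hCM' hd' e' ⟨Submodule.mkQ _ q, by
      rw [← Set.image_singleton, ← Submodule.map_span, hq, Submodule.map_top, Submodule.range_mkQ]⟩
    have hjac : Ideal.span {a} ≤ Ideal.jacobson ⊥ :=
      (Ideal.span_singleton_le_iff_mem _).2 (IsLocalRing.maximalIdeal_le_jacobson _ ha)
    refine ⟨fun g => ?_, ?_⟩
    · have key : (⊤ : Submodule R (K →ₗ[R] K)) ≤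
          Submodule.span R {LinearMap.id} ⊔ Ideal.span {a} • ⊤ := by
        intro g _
        obtain ⟨r, hr⟩ := h1 (QuotSMulTop.map a g)
        have hmem : ∀ x, g x - r • x ∈ a • (⊤ : Submodule R K) := fun x => by
          rw [← Submodule.Quotient.eq, Submodule.Quotient.mk_smul]
          exact hr (Submodule.Quotient.mk x)
        choose y hy using fun x => (Submodule.mem_smul_pointwise_iff_exists _ _ _).1 (hmem x)
        let g₁ : K →ₗ[R] K :=
          { toFun := y
            map_add' := fun u v => hregK (by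
              show a • y (u + v) = a • (y u + y v)
              rw [smul_add, (hy _).2, (hy _).2, (hy _).2, map_add, smul_add]
              abel)
            map_smul' := fun c u => hregK (by
              show a • y (c • u) = a • (c • y u)
              rw [smul_comm a c, (hy _).2, (hy _).2, map_smul, smul_sub, smul_comm r c]) }
        rw [Submodule.mem_sup]
        refine ⟨r • LinearMap.id, Submodule.smul_mem _ _ (Submodule.mem_span_singleton_self _),
          a • g₁, Submodule.smul_mem_smul (Ideal.mem_span_singleton_self a) Submodule.mem_top, ?_⟩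
        refine LinearMap.ext fun x => ?_
        show r • x + a • y x = g x
        rw [(hy x).2]
        abel
      obtain ⟨r, hr⟩ := Submodule.mem_span_singleton.1
        (Submodule.le_of_le_smul_of_le_jacobson_bot (IsNoetherian.noetherian _) hjac key
          (Submodule.mem_top : g ∈ ⊤))
      exact ⟨r, fun x => by rw [← hr]; rfl⟩
    · refine Submodule.le_of_le_smul_of_le_jacobson_bot (IsNoetherian.noetherian _) hjac fun r hr => ?_
      have hr' : r ∈ Module.annihilator R (QuotSMulTop a K) :=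
        (Submodule.mkQ (a • (⊤ : Submodule R K))).annihilator_le_of_surjective
          (Submodule.mkQ_surjective _) hr
      have h3 := Module.mem_annihilator.1 (h2 hr') (Submodule.Quotient.mk q)
      rw [← Submodule.Quotient.mk_smul, Submodule.Quotient.mk_eq_zero] at h3
      obtain ⟨q', -, hq'⟩ := (Submodule.mem_smul_pointwise_iff_exists _ _ _).1 h3
      obtain ⟨s, rfl⟩ := Submodule.mem_span_singleton.1 (hq.ge (Submodule.mem_top : q' ∈ ⊤))
      have h4 : r - a * s ∈ Module.annihilator R Q := by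
        rw [Module.mem_annihilator]
        intro z
        obtain ⟨c, rfl⟩ := Submodule.mem_span_singleton.1 (hq.ge (Submodule.mem_top : z ∈ ⊤))
        rw [smul_comm, sub_smul, mul_smul, hq', sub_self, smul_zero]
      have h5 : s ∈ Module.annihilator R K := by
        rw [Module.mem_annihilator]
        intro x
        refine hregK ?_
        show a • s • x = a • 0
        have h6 := Module.mem_annihilator.1 (annihilator_le hf e.symm.toLinearMap e.symm.surjective h4) x
        rw [sub_smul, Module.mem_annihilator.1 hr x, zero_sub, neg_eq_zero, mul_smul] at h6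
        rw [h6, smul_zero]
      rw [Submodule.mem_sup]
      exact ⟨r - a * s, h4, a * s,
        Submodule.smul_mem_smul (Ideal.mem_span_singleton_self a) h5, sub_add_cancel r _⟩

end Groth.Agent.Lib.LCFin.CanonEnd
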