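import Groth.Agent.Lib.LCFin.CanonBasic
import Mathlib.RingTheory.Filtration

/-!
Finite modules with isomorphic Matlis duals are isomorphic.
-/

universe u

open Groth.Agent.Lib.InjHull

namespace Groth.Agent.Lib.LCFin.CanonUnique

variable {R : Type u} [CommRing R] [IsNoetherianRing R] [IsLocalRing R]

local notation "𝔪" => IsLocalRing.maximalIdeal R

/-- A module mapping onto all reductions of `K'` surjects onto `K'`. -/
theorem exists_surjective (K K' : Type u) [AddCommGroup K] [Module R K] [Module.Finite R K]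
    [AddCommGroup K'] [Module R K'] [Module.Finite R K']
    (h : ∀ t : ℕ, ∃ σ : K →ₗ[R] K' ⧸ 𝔪 ^ t • (⊤ : Submodule R K'), Function.Surjective σ) :
    ∃ g : K →ₗ[R] K', Function.Surjective g := by
  classical
  obtain ⟨b, π, hπ⟩ := Module.Finite.exists_fin' R K
  obtain ⟨a, A, hA⟩ := Submodule.fg_iff_exists_fin_generating_family.1
    (IsNoetherian.noetherian (LinearMap.ker π))
  let Ψ : (Fin b → K') →ₗ[R] (Fin a → K') :=
    LinearMap.pi fun i => ∑ j, A i j • LinearMap.proj j
  have hΨ : ∀ v i, Ψ v i = ∑ j, A i j • v j := fun v i => by simp [Ψ]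
  obtain ⟨c, hc⟩ := (𝔪).exists_pow_inf_eq_pow_smul (LinearMap.range Ψ)
  obtain ⟨σ, hσ⟩ := h (c + 1)
  choose v hv using fun j => Submodule.Quotient.mk_surjective _ (σ (π (Pi.single j 1)))
  have hΨv : Ψ v ∈ 𝔪 ^ (c + 1) • (⊤ : Submodule R (Fin a → K')) := by
    have hi : ∀ i, Ψ v i ∈ 𝔪 ^ (c + 1) • (⊤ : Submodule R K') := fun i => by
      have h0 : σ (π (A i)) = 0 := by
        rw [LinearMap.mem_ker.1 (show A i ∈ LinearMap.ker π from hA ▸ Submodule.subset_span ⟨i, rfl⟩),
          map_zero]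
      rw [pi_eq_sum_univ' (A i), map_sum, map_sum] at h0
      rw [← Submodule.Quotient.mk_eq_zero, ← Submodule.mkQ_apply, hΨ, map_sum, ← h0]
      refine Finset.sum_congr rfl fun j _ => ?_
      rw [map_smul, Submodule.mkQ_apply, hv, map_smul, map_smul]
    rw [← Finset.univ_sum_single (Ψ v)]
    refine Submodule.sum_mem _ fun i _ => ?_
    have := Submodule.mem_map_of_mem (f := LinearMap.single R (fun _ : Fin a => K') i) (hi i)
    rw [Submodule.map_smul''] at this
    exact Submodule.smul_mono le_rfl le_top this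
  have hmem : Ψ v ∈ 𝔪 • LinearMap.range Ψ := by
    have := hc (c + 1) (by omega)
    rw [show c + 1 - c = 1 by omega, pow_one] at this
    exact Submodule.smul_mono le_rfl inf_le_right (this.le ⟨hΨv, v, rfl⟩)
  rw [LinearMap.range_eq_map, ← Submodule.map_smul''] at hmem
  obtain ⟨w, hw, hwv⟩ := hmem
  let g₀ : (Fin b → R) →ₗ[R] K' := Fintype.linearCombination R (v - w)
  have hg₀ : ∀ x, π x = 0 → g₀ x = 0 := fun x hx => by
    have hle : LinearMap.ker π ≤ LinearMap.ker g₀ := by
      rw [← hA, Submodule.span_le]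
      rintro _ ⟨i, rfl⟩
      show g₀ (A i) = 0
      have h1 : Ψ (v - w) i = 0 := by rw [map_sub, hwv, sub_self, Pi.zero_apply]
      rw [hΨ] at h1
      rw [← h1]
      exact Fintype.linearCombination_apply R _ _
    exact hle hx
  obtain ⟨g, hg⟩ := Duality.exists_factor π hπ g₀ hg₀
  refine ⟨g, LinearMap.range_eq_top.1 (top_le_iff.1 ?_)⟩
  refine Submodule.le_of_le_smul_of_le_jacobson_bot (Module.Finite.fg_top (R := R) (M := K'))
    (IsLocalRing.maximalIdeal_le_jacobson ⊥) fun y _ => ?_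
  obtain ⟨k, hk⟩ := hσ (Submodule.Quotient.mk y)
  obtain ⟨x, rfl⟩ := hπ k
  have hdiff : y - g (π x) ∈ 𝔪 • (⊤ : Submodule R K') := by
    have hy : (Submodule.Quotient.mk y : K' ⧸ 𝔪 ^ (c + 1) • (⊤ : Submodule R K')) =
        Submodule.Quotient.mk (∑ j, x j • v j) := by
      rw [← hk]
      conv_lhs => rw [pi_eq_sum_univ' x]
      rw [map_sum, map_sum, ← Submodule.mkQ_apply, map_sum]
      refine Finset.sum_congr rfl fun j _ => ?_
      rw [map_smul, map_smul, map_smul, Submodule.mkQ_apply, hv]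
    rw [Submodule.Quotient.eq] at hy
    have h2 : y - g (π x) = (y - ∑ j, x j • v j) + ∑ j, x j • w j := by
      rw [hg, show g₀ x = ∑ j, x j • (v - w) j from Fintype.linearCombination_apply R _ _]
      simp only [Pi.sub_apply, smul_sub, Finset.sum_sub_distrib]
      abel
    rw [h2]
    refine add_mem (Submodule.smul_mono (Ideal.pow_le_self (by omega)) le_rfl hy)
      (Submodule.sum_mem _ fun j _ => Submodule.smul_mem _ _ ?_)
    have := Submodule.mem_map_of_mem (f := LinearMap.proj (φ := fun _ : Fin b => K') j) hw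
    rw [Submodule.map_smul''] at this
    exact Submodule.smul_mono le_rfl le_top this
  rw [Submodule.mem_sup]
  exact ⟨g (π x), ⟨_, rfl⟩, _, hdiff, by abel⟩

variable {E : Type u} [AddCommGroup E] [Module R E] {f : IsLocalRing.ResidueField R →ₗ[R] E}
  {K K' : Type u} [AddCommGroup K] [Module R K] [Module.Finite R K]
  [AddCommGroup K'] [Module R K'] [Module.Finite R K']

theorem mem_range_lcomp_iff (t : ℕ) (φ : K →ₗ[R] E) :
    φ ∈ LinearMap.range (LinearMap.lcomp R E (𝔪 ^ t • (⊤ : Submodule R K)).mkQ) ↔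
      ∀ r ∈ 𝔪 ^ t, r • φ = 0 := by
  constructor
  · rintro ⟨u, rfl⟩ r hr
    refine LinearMap.ext fun x => ?_
    show r • u (Submodule.Quotient.mk x) = 0
    rw [← map_smul, ← Submodule.Quotient.mk_smul, (Submodule.Quotient.mk_eq_zero _).2
      (Submodule.smul_mem_smul hr Submodule.mem_top), map_zero]
  · intro h
    refine ⟨(𝔪 ^ t • (⊤ : Submodule R K)).liftQ φ (Submodule.smul_le.2 fun r hr x _ => ?_), rfl⟩
    rw [LinearMap.mem_ker, map_smul]
    exact LinearMap.congr_fun (h r hr) x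

theorem nonempty_quot_equiv (hf : InjHull.IsInjectiveHull f)
    (e : (K →ₗ[R] E) ≃ₗ[R] (K' →ₗ[R] E)) (t : ℕ) :
    Nonempty ((K ⧸ 𝔪 ^ t • (⊤ : Submodule R K)) ≃ₗ[R] (K' ⧸ 𝔪 ^ t • (⊤ : Submodule R K'))) := by
  have hinj : ∀ (X : Type u) [AddCommGroup X] [Module R X] (S : Submodule R X),
      Function.Injective (LinearMap.lcomp R E S.mkQ) := fun X _ _ S u v h => LinearMap.ext fun x => by
    obtain ⟨x, rfl⟩ := Submodule.Quotient.mk_surjective _ x
    exact LinearMap.congr_fun h x
  obtain ⟨ε⟩ := Duality.nonempty_equiv_of_range_eq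
    (e.toLinearMap ∘ₗ LinearMap.lcomp R E (𝔪 ^ t • (⊤ : Submodule R K)).mkQ)
    (LinearMap.lcomp R E (𝔪 ^ t • (⊤ : Submodule R K')).mkQ)
    (e.injective.comp (hinj _ _)) (hinj _ _) (by
      ext ψ
      rw [LinearMap.range_comp, Submodule.mem_map, mem_range_lcomp_iff]
      constructor
      · rintro ⟨φ, hφ, rfl⟩ r hr
        rw [LinearEquiv.coe_coe, ← map_smul, (mem_range_lcomp_iff t φ).1 hφ r hr, map_zero]
      · intro h
        refine ⟨e.symm ψ, (mem_range_lcomp_iff t _).2 fun r hr => ?_, e.apply_symm_apply ψ⟩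
        rw [← map_smul, h r hr, map_zero])
  have hlen : ∀ (X : Type u) [AddCommGroup X] [Module R X] [Module.Finite R X],
      IsFiniteLength R (X ⧸ 𝔪 ^ t • (⊤ : Submodule R X)) := fun X _ _ _ =>
    Complete.isFiniteLength_of_pow_smul 𝔪 t _ fun x c hc => by
      obtain ⟨x, rfl⟩ := Submodule.Quotient.mk_surjective _ x
      rw [← Submodule.Quotient.mk_smul, Submodule.Quotient.mk_eq_zero]
      exact Submodule.smul_mem_smul hc Submodule.mem_top
  exact ⟨(LinearEquiv.ofBijective _ (Matlis.applyₗ_bijective hf (hlen K))).trans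
    ((LinearEquiv.congrLeft E R ε).trans
      (LinearEquiv.ofBijective _ (Matlis.applyₗ_bijective hf (hlen K'))).symm)⟩

/-- Finite modules with isomorphic Matlis duals are isomorphic. -/
theorem nonempty_equiv (hf : InjHull.IsInjectiveHull f)
    (e : (K →ₗ[R] E) ≃ₗ[R] (K' →ₗ[R] E)) : Nonempty (K ≃ₗ[R] K') := by
  obtain ⟨g, hg⟩ := exists_surjective K K' fun t => by
    obtain ⟨ε⟩ := nonempty_quot_equiv hf e t
    exact ⟨ε.toLinearMap ∘ₗ Submodule.mkQ _, ε.surjective.comp (Submodule.mkQ_surjective _)⟩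
  obtain ⟨g', hg'⟩ := exists_surjective K' K fun t => by
    obtain ⟨ε⟩ := nonempty_quot_equiv hf e.symm t
    exact ⟨ε.toLinearMap ∘ₗ Submodule.mkQ _, ε.surjective.comp (Submodule.mkQ_surjective _)⟩
  have hbij := OrzechProperty.bijective_of_surjective_endomorphism (g' ∘ₗ g) (hg'.comp hg)
  exact ⟨LinearEquiv.ofBijective g ⟨Function.Injective.of_comp (f := g') hbij.1, hg⟩⟩

end Groth.Agent.Lib.LCFin.CanonUnique
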