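import Groth.Agent.Lib.LCFin.Top
import Groth.Agent.Lib.Depth.LocalCoh
import Groth.Agent.Lib.Depth.CM
import Groth.Agent.Lib.Goren.Basic
import Groth.Agent.Lib.Goren.Artin
import Groth.Agent.Lib.InjHull.Recognize

/-!
Local cohomology of a Gorenstein local ring.
-/

universe u

open CategoryTheory Pointwise
open Groth.Agent.Lib.LocalCoh Groth.Agent.Lib.LCFin.Seq Groth.Agent.Lib.LCFin.Cd

namespace Groth.Agent.Lib.LCFin.Gorenstein

variable {R : Type u} [CommRing R]

/-- Splitting off an injective submodule. -/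
theorem exists_retraction {A B : Type u} [AddCommGroup A] [Module R A] [AddCommGroup B] [Module R B]
    {f : A →ₗ[R] B} (hf : Function.Injective f) (hA : Module.Injective R A) :
    ∃ r : B →ₗ[R] A, r ∘ₗ f = LinearMap.id := by
  obtain ⟨r, hr⟩ := hA.out f hf LinearMap.id
  exact ⟨r, LinearMap.ext hr⟩

/-- A direct summand of an injective module is injective. -/
theorem injective_of_retraction {A B : Type u} [AddCommGroup A] [Module R A] [AddCommGroup B]
    [Module R B] {f : A →ₗ[R] B} {r : B →ₗ[R] A} (h : r ∘ₗ f = LinearMap.id)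
    (hB : Module.Injective R B) : Module.Injective R A := by
  refine ⟨fun X Y _ _ _ _ s hs g => ?_⟩
  obtain ⟨l, hl⟩ := hB.out s hs (f ∘ₗ g)
  exact ⟨r ∘ₗ l, fun x => by
    rw [LinearMap.comp_apply, hl, ← LinearMap.comp_apply, ← LinearMap.comp_assoc, h]
    rfl⟩

/-- The quotient of an injective module by an injective submodule is injective. -/
theorem injective_of_exact {A B C : Type u} [AddCommGroup A] [Module R A] [AddCommGroup B]
    [Module R B] [AddCommGroup C] [Module R C] {f : A →ₗ[R] B} {g : B →ₗ[R] C}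
    (hf : Function.Injective f) (hg : Function.Surjective g) (h : Function.Exact f g)
    (hA : Module.Injective R A) (hB : Module.Injective R B) : Module.Injective R C := by
  obtain ⟨r, hr⟩ := exists_retraction hf hA
  obtain ⟨s, hs⟩ : ∃ s : C →ₗ[R] B, g ∘ₗ s = LinearMap.id := by
    have hker : LinearMap.ker g ≤ LinearMap.ker (LinearMap.id - f ∘ₗ r) := by
      intro x hx
      obtain ⟨a, rfl⟩ := (h x).1 hx
      rw [LinearMap.mem_ker, LinearMap.sub_apply, LinearMap.id_apply, LinearMap.comp_apply,
        ← LinearMap.comp_apply r f, hr, LinearMap.id_apply, sub_self]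
    refine ⟨(Submodule.liftQ _ _ hker) ∘ₗ (g.quotKerEquivOfSurjective hg).symm.toLinearMap, ?_⟩
    refine LinearMap.ext fun c => ?_
    obtain ⟨b, rfl⟩ := hg c
    rw [LinearMap.comp_apply, LinearMap.comp_apply, LinearEquiv.coe_coe,
      show (g.quotKerEquivOfSurjective hg).symm (g b) = Submodule.Quotient.mk b from
        (LinearEquiv.symm_apply_eq _).2 rfl, Submodule.liftQ_apply, LinearMap.sub_apply, map_sub,
      LinearMap.comp_apply, h.apply_apply_eq_zero, sub_zero]
    rfl
  exact injective_of_retraction hs hB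

variable [IsNoetherianRing R]

omit [IsNoetherianRing R] in
lemma injective_congr {A B : Type u} [AddCommGroup A] [Module R A] [AddCommGroup B] [Module R B]
    (e : A ≃ₗ[R] B) (hA : Module.Injective R A) : Module.Injective R B :=
  injective_of_retraction (f := e.symm.toLinearMap) (r := e.toLinearMap) e.comp_symm hA

/-- With finite injective dimension `d` and injective local cohomology below `d`, the local
cohomology in degree `d` is injective. -/
theorem injective_H (I : Ideal R) : ∀ (d : ℕ) (M : Type u) [AddCommGroup M] [Module R M],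
    HasInjectiveDimensionLT (ModuleCat.of R M) (d + 1) →
    (∀ i < d, Module.Injective R (LocCoh.H I i M)) → Module.Injective R (LocCoh.H I d M) := by
  intro d
  induction d with
  | zero =>
    intro M _ _ hM _
    have hMi : Module.Injective R M :=
      (Module.injective_iff_injective_object R M).2 (injective_iff_hasInjectiveDimensionLT_one.2 hM)
    exact injective_congr ((lcZeroIso I).app (ModuleCat.of R M)).toLinearEquiv.symm
      (injective_torsionSub I M)
  | succ d ih =>
    intro M _ _ hM hlow
    let E := Injective.under (ModuleCat.of R M)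
    let f := (Injective.ι (ModuleCat.of R M)).hom
    have hf : Function.Injective f := (ModuleCat.mono_iff_injective _).1 inferInstance
    have hEi : CategoryTheory.Injective (ModuleCat.of R E) :=
      inferInstanceAs (CategoryTheory.Injective E)
    let g : E →ₗ[R] (E ⧸ LinearMap.range f) := (LinearMap.range f).mkQ
    have hg : Function.Surjective g := Submodule.mkQ_surjective _
    have hex : Function.Exact f g := f.exact_map_mkQ_range
    have hQ : HasInjectiveDimensionLT (ModuleCat.of R (E ⧸ LinearMap.range f)) (d + 1) :=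
      have h1 : HasInjectiveDimensionLT (ModuleCat.of R E) 1 :=
        injective_iff_hasInjectiveDimensionLT_one.1 hEi
      (ses_shortExact hf hg hex).hasInjectiveDimensionLT_X₃ (d + 1)
        (hasInjectiveDimensionLT_of_ge (ModuleCat.of R E) 1 _ (by omega)) hM
    -- cohomology of the cokernel
    have hQlow : ∀ i < d + 1, i ≠ 0 → Nonempty (LocCoh.H I i (E ⧸ LinearMap.range f) ≃ₗ[R]
        LocCoh.H I (i + 1) M) := by
      intro i _ hi
      obtain ⟨j, rfl⟩ := Nat.exists_eq_succ_of_ne_zero hi
      have h1 : Subsingleton (LocCoh.H I (j + 1) E) := lc_subsingleton_of_injective I E j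
      have h2 : Subsingleton (LocCoh.H I (j + 1 + 1) E) := lc_subsingleton_of_injective I E (j + 1)
      refine ⟨LinearEquiv.ofBijective (δ I hf hg hex (j + 1)) ⟨?_, fun x => ?_⟩⟩
      · rw [← LinearMap.ker_eq_bot, Submodule.eq_bot_iff]
        intro x hx
        obtain ⟨w, rfl⟩ := (exact_map_δ I hf hg hex (j + 1) x).1 hx
        rw [h1.elim w 0, map_zero]
      · exact (exact_δ_map I hf hg hex (j + 1) x).1 (h2.elim _ _)
    have hE0 : Module.Injective R (LocCoh.H I 0 E) := by
      have : Module.Injective R E := Module.injective_module_of_injective_object R E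
      exact injective_congr ((lcZeroIso I).app (ModuleCat.of R E)).toLinearEquiv.symm
        (injective_torsionSub I E)
    have hM0 : Module.Injective R (LocCoh.H I 0 M) := hlow 0 d.succ_pos
    -- the image of `Γ E` in `Γ Q`
    let K := LinearMap.range (Hmap I 0 g)
    have hK : Module.Injective R K :=
      injective_of_exact (f := Hmap I 0 f) (g := (Hmap I 0 g).rangeRestrict)
        (injective_map_zero I hf hg hex) (Hmap I 0 g).surjective_rangeRestrict
        (fun x => (Subtype.ext_iff.trans ((exact_map_map I hf hg hex 0) x))) hM0 hE0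
    have hex0 : Function.Exact K.subtype (δ I hf hg hex 0) := fun x =>
      ((exact_map_δ I hf hg hex 0) x).trans ⟨fun h => ⟨⟨x, h⟩, rfl⟩, fun ⟨z, hz⟩ => hz ▸ z.2⟩
    have hδ : Function.Surjective (δ I hf hg hex 0) := fun x =>
      (exact_δ_map I hf hg hex 0 x).1 ((lc_subsingleton_of_injective I E 0).elim _ _)
    cases d with
    | zero =>
      have hQ0 : Module.Injective R (LocCoh.H I 0 (E ⧸ LinearMap.range f)) :=
        ih _ hQ fun i hi => absurd hi (by omega)
      exact injective_of_exact (Submodule.injective_subtype K) hδ hex0 hK hQ0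
    | succ d =>
      obtain ⟨e⟩ := hQlow (d + 1) (by omega) (by omega)
      refine injective_congr e (ih _ hQ fun i hi => ?_)
      rcases Nat.eq_zero_or_pos i with rfl | hpos
      · -- the extension splits
        obtain ⟨r, hr⟩ := exists_retraction (Submodule.injective_subtype K) hK
        have h1 : Module.Injective R (LocCoh.H I 1 M) := hlow 1 (by omega)
        let Φ : LocCoh.H I 0 (E ⧸ LinearMap.range f) →ₗ[R] (K × LocCoh.H I 1 M) :=
          r.prod (δ I hf hg hex 0)
        have hΦ : Function.Bijective Φ := by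
          refine ⟨(injective_iff_map_eq_zero Φ).2 fun x hx => ?_, fun ⟨a, b⟩ => ?_⟩
          · obtain ⟨k, rfl⟩ := (hex0 x).1 (congrArg Prod.snd hx)
            have hk : r (K.subtype k) = 0 := congrArg Prod.fst hx
            rw [← LinearMap.comp_apply, hr, LinearMap.id_apply] at hk
            rw [hk, map_zero]
          · obtain ⟨x, rfl⟩ := hδ b
            refine ⟨x + K.subtype (a - r x), Prod.ext ?_ ?_⟩
            · show r (x + K.subtype (a - r x)) = a
              rw [map_add, ← LinearMap.comp_apply r K.subtype, hr, LinearMap.id_apply]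
              abel
            · show δ I hf hg hex 0 (x + K.subtype (a - r x)) = δ I hf hg hex 0 x
              rw [map_add, hex0.apply_apply_eq_zero, add_zero]
        refine injective_congr (LinearEquiv.ofBijective Φ hΦ).symm ⟨fun X Y _ _ _ _ s hs φ => ?_⟩
        obtain ⟨a, ha⟩ := hK.out s hs (LinearMap.fst R _ _ ∘ₗ φ)
        obtain ⟨b, hb⟩ := h1.out s hs (LinearMap.snd R _ _ ∘ₗ φ)
        exact ⟨a.prod b, fun x => Prod.ext (ha x) (hb x)⟩
      · obtain ⟨e'⟩ := hQlow i (by omega) (by omega)
        exact injective_congr e'.symm (hlow (i + 1) (by omega))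

variable [IsLocalRing R]

local notation "𝔪" => IsLocalRing.maximalIdeal R

/-- The quotient by an element, as a short exact sequence. -/
lemma exact_lsmul_mkQ {M : Type u} [AddCommGroup M] [Module R M] (x : R) :
    Function.Exact (LinearMap.lsmul R M x) (x • (⊤ : Submodule R M)).mkQ := by
  intro z
  rw [Submodule.mkQ_apply, Submodule.Quotient.mk_eq_zero, Submodule.mem_smul_pointwise_iff_exists]
  simp

/-- The local cohomology of `M/xM` is the `x`-torsion of that of `M`. -/
theorem exists_delta_bijective (M : Type u) [AddCommGroup M] [Module R M] {x : R}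
    (hreg : IsSMulRegular M x) (n : ℕ) (h : Subsingleton (LocCoh.H 𝔪 n M)) :
    ∃ e : LocCoh.H 𝔪 n (QuotSMulTop x M) →ₗ[R] LocCoh.H 𝔪 (n + 1) M, Function.Injective e ∧
      ∀ z, z ∈ LinearMap.range e ↔ x • z = 0 := by
  let f := LinearMap.lsmul R M x
  let g := (x • (⊤ : Submodule R M)).mkQ
  have hg : Function.Surjective g := Submodule.mkQ_surjective _
  refine ⟨δ 𝔪 (f := f) (g := g) hreg hg (exact_lsmul_mkQ x) n, ?_, fun z => ?_⟩
  · rw [← LinearMap.ker_eq_bot, Submodule.eq_bot_iff]
    intro w hw
    obtain ⟨y, rfl⟩ := (exact_map_δ 𝔪 (f := f) (g := g) hreg hg (exact_lsmul_mkQ x) n w).1 hw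
    rw [h.elim y 0, map_zero]
  · rw [← Hmap_lsmul]
    exact (exact_δ_map 𝔪 (f := f) (g := g) hreg hg (exact_lsmul_mkQ x) n z).symm

omit [IsNoetherianRing R] [IsLocalRing R] in
/-- An isomorphism out of a restriction of scalars, as a semilinear bijection. -/
theorem exists_addEquiv_of_iso {B : Type u} [CommRing B] (f : R →+* B) (X : ModuleCat.{u} B)
    (Y : ModuleCat.{u} R) (i : (ModuleCat.restrictScalars f).obj X ≅ Y) :
    ∃ e : X ≃+ Y, ∀ (r : R) z, e (f r • z) = r • e z :=
  ⟨i.toLinearEquiv.toAddEquiv, fun r z => i.toLinearEquiv.map_smul r z⟩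

omit [IsNoetherianRing R] [IsLocalRing R] in
lemma quotSMulTop_eq (x : R) : (x • (⊤ : Submodule R R)) = Ideal.span {x} := by
  ext y
  rw [Submodule.mem_smul_pointwise_iff_exists, Ideal.mem_span_singleton']
  simp [mul_comm]

/-- Local cohomology of `R/(x)` does not depend on the ring. -/
theorem exists_quotient_addEquiv {x : R} (hx : x ∈ 𝔪) (n : ℕ) [IsLocalRing (R ⧸ Ideal.span {x})] :
    ∃ e : LocCoh.H (IsLocalRing.maximalIdeal (R ⧸ Ideal.span {x})) n (R ⧸ Ideal.span {x}) ≃+
        LocCoh.H 𝔪 n (QuotSMulTop x R),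
      ∀ (r : R) z, e (Ideal.Quotient.mk (Ideal.span {x}) r • z) = r • e z := by
  let B := R ⧸ Ideal.span {x}
  have hm : (𝔪).map (algebraMap R B) = IsLocalRing.maximalIdeal B :=
    IsLocalRing.map_maximalIdeal_of_surjective _ Ideal.Quotient.mk_surjective
  obtain ⟨e⟩ := nonempty_lcRestrictIso B 𝔪 (ModuleCat.of B B) n
  rw [hm] at e
  let e' := e ≪≫ (localCohomology 𝔪 n).mapIso ((resObjIso B B) ≪≫
    ((Submodule.quotEquivOfEq _ _ (quotSMulTop_eq x).symm).toModuleIso :
      ModuleCat.of R B ≅ ModuleCat.of R (QuotSMulTop x R)))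
  exact exists_addEquiv_of_iso (algebraMap R B) _ _ e'

omit [IsNoetherianRing R] in
/-- Comparing socles along a semilinear map with image a torsion submodule. -/
theorem isSimpleModule_socle_transfer {x : R} (hx : x ∈ 𝔪) [IsLocalRing (R ⧸ Ideal.span {x})]
    {A B : Type u} [AddCommGroup A] [Module (R ⧸ Ideal.span {x}) A] [AddCommGroup B] [Module R B]
    (φ : A →+ B) (hlin : ∀ (r : R) z, φ (Ideal.Quotient.mk (Ideal.span {x}) r • z) = r • φ z)
    (hinj : Function.Injective φ) (hrange : ∀ z, (∃ a, φ a = z) ↔ x • z = 0)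
    (h : IsSimpleModule (R ⧸ Ideal.span {x})
      (LocCoh.torsionBy (IsLocalRing.maximalIdeal (R ⧸ Ideal.span {x})) A)) :
    IsSimpleModule R (LocCoh.torsionBy 𝔪 B) := by
  have : IsLocalHom (Ideal.Quotient.mk (Ideal.span {x})) :=
    IsLocalHom.of_surjective _ Ideal.Quotient.mk_surjective
  rw [isSimpleModule_iff_toSpanSingleton_surjective] at h ⊢
  obtain ⟨hnt, h⟩ := h
  have hto : ∀ a : A, a ∈ LocCoh.torsionBy (IsLocalRing.maximalIdeal (R ⧸ Ideal.span {x})) A →
      φ a ∈ LocCoh.torsionBy 𝔪 B := by
    intro a ha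
    rw [Submodule.mem_torsionBySet_iff] at ha ⊢
    intro c
    rw [← hlin]
    refine (congrArg φ (ha ⟨_, ?_⟩)).trans φ.map_zero
    exact (IsLocalRing.mem_maximalIdeal _).2 (by
      rw [mem_nonunits_iff]
      exact fun hu => (IsLocalRing.mem_maximalIdeal _).1 c.2 (IsLocalHom.map_nonunit _ hu))
  have hfrom : ∀ b : B, b ∈ LocCoh.torsionBy 𝔪 B →
      ∃ a ∈ LocCoh.torsionBy (IsLocalRing.maximalIdeal (R ⧸ Ideal.span {x})) A, φ a = b := by
    intro b hb
    rw [Submodule.mem_torsionBySet_iff] at hb
    obtain ⟨a, rfl⟩ := (hrange b).2 (hb ⟨x, hx⟩)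
    refine ⟨a, (Submodule.mem_torsionBySet_iff _ _).2 fun c => hinj ?_, rfl⟩
    obtain ⟨c, hc⟩ := c
    obtain ⟨r, rfl⟩ := Ideal.Quotient.mk_surjective c
    show φ (Ideal.Quotient.mk (Ideal.span {x}) r • a) = φ 0
    rw [hlin, map_zero]
    refine hb ⟨r, (IsLocalRing.mem_maximalIdeal r).2 fun hu =>
      (IsLocalRing.mem_maximalIdeal _).1 hc (hu.map _)⟩
  refine ⟨?_, fun u hu v => ?_⟩
  · obtain ⟨⟨a, ha⟩, hne⟩ := exists_ne (0 : LocCoh.torsionBy
      (IsLocalRing.maximalIdeal (R ⧸ Ideal.span {x})) A)
    exact ⟨⟨φ a, hto a ha⟩, 0, fun e => hne (Subtype.ext (hinj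
      ((congrArg Subtype.val e).trans φ.map_zero.symm)))⟩
  · obtain ⟨a, ha, hau⟩ := hfrom u.1 u.2
    obtain ⟨b, hb, hbv⟩ := hfrom v.1 v.2
    have hane : (⟨a, ha⟩ : LocCoh.torsionBy
        (IsLocalRing.maximalIdeal (R ⧸ Ideal.span {x})) A) ≠ 0 := fun e => hu (Subtype.ext (by
      rw [← hau, show a = 0 from congrArg Subtype.val e, map_zero]; rfl))
    obtain ⟨c, hc⟩ := h _ hane ⟨b, hb⟩
    obtain ⟨r, rfl⟩ := Ideal.Quotient.mk_surjective c
    refine ⟨r, Subtype.ext ?_⟩
    show r • u.1 = v.1
    rw [← hau, ← hlin, ← hbv]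
    exact congrArg φ (congrArg Subtype.val hc)

theorem subsingleton_H_of_lt [LocCoh.IsCohenMacaulayLocalRing R] {d : ℕ}
    (hd : ringKrullDim R = d) {i : ℕ} (hi : i < d) : Subsingleton (LocCoh.H 𝔪 i R) := by
  refine (Depth.LocalCoh.le_idealDepth_iff_H 𝔪 R d).1 ?_ i hi
  have h := hd.symm.trans (Depth.CM.ringKrullDim_eq_depth (R := R))
  have h' : ((d : ℕ∞) : WithBot ℕ∞) = ((LocCoh.depth R R : ℕ∞) : WithBot ℕ∞) := by exact_mod_cast h
  exact (WithBot.coe_injective h').le

/-- The socle of the top local cohomology of a Gorenstein local ring is simple. -/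
theorem isSimpleModule_socle (d : ℕ) : ∀ (R : Type u) [CommRing R] [LocCoh.IsGorensteinLocalRing R],
    ringKrullDim R = d →
    IsSimpleModule R
      (LocCoh.torsionBy (IsLocalRing.maximalIdeal R) (LocCoh.H (IsLocalRing.maximalIdeal R) d R)) := by
  induction d with
  | zero =>
    intro R _ _ hd
    have : Ring.KrullDimLE 0 R := Ring.krullDimLE_iff.2 (by rw [hd])
    have : IsArtinianRing R := IsNoetherianRing.isArtinianRing_of_krullDimLE_zero
    have h := (Goren.Artin.isGorensteinLocalRing_iff_socle (A := R)).1 inferInstance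
    have htop : DRing.torsionSub (IsLocalRing.maximalIdeal R) R = ⊤ :=
      Nonvanishing.torsionSub_eq_top R ((Module.supportDim_self_eq_ringKrullDim R).trans hd).le
    let e : LocCoh.H (IsLocalRing.maximalIdeal R) 0 R ≃ₗ[R] R :=
      ((lcZeroIso _).app (ModuleCat.of R R)).toLinearEquiv.trans (LinearEquiv.ofTop _ htop)
    have := Module.length_eq_one_iff.1 h
    exact IsSimpleModule.congr (Goren.Artin.torsionCongr _ e)
  | succ d ih =>
    intro R _ _ hd
    obtain ⟨n, hn⟩ := LocCoh.IsGorensteinLocalRing.exists_hasInjectiveDimensionLT (A := R)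
    obtain ⟨d', hd', -, hCM, -⟩ := Goren.Basic.exists_dim hn
    have hlow : ∀ i < d + 1, Subsingleton (LocCoh.H (IsLocalRing.maximalIdeal R) i R) :=
      fun i hi => subsingleton_H_of_lt hd hi
    obtain ⟨x, hx, hreg, -⟩ := Artinian.exists_regular_avoiding R
      ((subsingleton_H_zero_iff _ R).1 (hlow 0 d.succ_pos)) ∅ (by simp) 1
    rw [pow_one] at hx
    have := Goren.Basic.isLocalRing_quotient_span hx
    have : LocCoh.IsGorensteinLocalRing (R ⧸ Ideal.span {x}) :=
      (Goren.Basic.isGorensteinLocalRing_quotient_iff hx hreg).1 inferInstance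
    have hdim : ringKrullDim (R ⧸ Ideal.span {x}) = d := by
      have h1 := ringKrullDim_quotient_span_singleton_succ_eq_ringKrullDim hreg hx
      exact Nonvanishing.eq_of_add_one_eq (h1.trans hd)
    obtain ⟨e, he, hrange⟩ := exists_delta_bijective R hreg d (hlow d d.lt_succ_self)
    obtain ⟨q, hq⟩ := exists_quotient_addEquiv hx d
    refine isSimpleModule_socle_transfer hx (e.toAddMonoidHom.comp q.toAddMonoidHom)
      (fun r z => ?_) (he.comp q.injective) (fun z => ?_) (ih _ hdim)
    · show e (q _) = r • e (q z)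
      rw [hq, map_smul]
    · rw [← hrange]
      exact ⟨fun ⟨a, ha⟩ => ⟨q a, ha⟩, fun ⟨w, hw⟩ => ⟨q.symm w, show e (q (q.symm w)) = z by
        rw [q.apply_symm_apply, hw]⟩⟩

/-- The top local cohomology of a Gorenstein local ring is an injective hull of the residue field. -/
theorem exists_isInjectiveHull (R : Type u) [CommRing R] [LocCoh.IsGorensteinLocalRing R] (d : ℕ)
    (hd : ringKrullDim R = d) :
    ∃ g : IsLocalRing.ResidueField R →ₗ[R] LocCoh.H (IsLocalRing.maximalIdeal R) d R,
      InjHull.IsInjectiveHull g := by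
  obtain ⟨n, hn⟩ := LocCoh.IsGorensteinLocalRing.exists_hasInjectiveDimensionLT (A := R)
  obtain ⟨d', hd', -, hCM, hdim⟩ := Goren.Basic.exists_dim hn
  obtain rfl : d' = d := by
    have := hd'.symm.trans hd
    exact_mod_cast this
  have hinj : Module.Injective R (LocCoh.H (IsLocalRing.maximalIdeal R) d' R) :=
    injective_H _ d' R hdim fun i hi => by
      have := subsingleton_H_of_lt hd hi
      exact ⟨fun X Y _ _ _ _ s _ φ => ⟨0, fun _ => Subsingleton.elim _ _⟩⟩
  have := isSimpleModule_socle d' R hd
  obtain ⟨φ, hφ⟩ := InjHull.Recognize.exists_essential_of_simple_socle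
    (m := IsLocalRing.maximalIdeal R) (LocCoh.H (IsLocalRing.maximalIdeal R) d' R)
    (isPowerTorsion_lc _ d' _)
    (IsSimpleModule.congr (InjHull.BaseChange.homQuotientEquiv _ _))
  exact ⟨φ, hφ, hinj⟩

omit [IsNoetherianRing R] in
/-- Injectivity passes to the torsion of a quotient ring. -/
theorem injective_of_semilinear {x : R} {A B : Type u} [AddCommGroup A]
    [Module (R ⧸ Ideal.span {x}) A] [AddCommGroup B] [Module R B] (φ : A →+ B)
    (hlin : ∀ (r : R) z, φ (Ideal.Quotient.mk (Ideal.span {x}) r • z) = r • φ z)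
    (hinj : Function.Injective φ) (hrange : ∀ z, (∃ a, φ a = z) ↔ x • z = 0)
    (hB : Module.Injective R B) : Module.Injective (R ⧸ Ideal.span {x}) A := by
  let mk := Ideal.Quotient.mk (Ideal.span {x})
  refine ⟨fun X Y _ _ _ _ s hs g => ?_⟩
  let := Module.compHom X mk
  let := Module.compHom Y mk
  let s' : X →ₗ[R] Y := { toFun := s, map_add' := s.map_add, map_smul' := fun r z => s.map_smul (mk r) z }
  let g' : X →ₗ[R] B :=
    { toFun := fun z => φ (g z), map_add' := fun a b => by rw [map_add, map_add]
      map_smul' := fun r z => by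
        show φ (g (mk r • z)) = r • φ (g z)
        rw [map_smul, hlin] }
  obtain ⟨h, hh⟩ := hB.out s' hs g'
  have hker : ∀ y, ∃ a, φ a = h y := fun y => (hrange _).2 (by
    rw [← map_smul]
    show h (mk x • y) = 0
    rw [show mk x = 0 from Ideal.Quotient.eq_zero_iff_mem.2 (Ideal.mem_span_singleton_self x),
      zero_smul, map_zero])
  choose l hl using hker
  refine ⟨{ toFun := l, map_add' := fun a b => hinj (by rw [map_add, hl, hl, hl, map_add]),
            map_smul' := fun c y => ?_ }, fun z => hinj ((hl _).trans (hh z))⟩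
  obtain ⟨r, rfl⟩ := Ideal.Quotient.mk_surjective c
  apply hinj
  rw [RingHom.id_apply, hlin, hl, hl]
  exact h.map_smul r y

/-- Vanishing and injectivity of local cohomology characterise Gorenstein local rings. -/
theorem isGorensteinLocalRing_of_H (d : ℕ) : ∀ (R : Type u) [CommRing R] [IsNoetherianRing R]
    [IsLocalRing R],
    (∀ i, i ≠ d → Subsingleton (LocCoh.H (IsLocalRing.maximalIdeal R) i R)) →
    Module.Injective R (LocCoh.H (IsLocalRing.maximalIdeal R) d R) →
    LocCoh.IsGorensteinLocalRing R := by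
  induction d with
  | zero =>
    intro R _ _ _ hvan hinj
    have hdim : ringKrullDim R = 0 := by
      obtain ⟨n, hn⟩ := Depth.CM.supportDim_eq_nat (R := R) R
      have hnt := (Nonvanishing.nontrivial_and_not_finite n R hn).1
      obtain rfl : n = 0 := by
        by_contra h
        exact not_subsingleton _ (hvan n h)
      rw [← Module.supportDim_self_eq_ringKrullDim, hn]; rfl
    have htop : DRing.torsionSub (IsLocalRing.maximalIdeal R) R = ⊤ :=
      Nonvanishing.torsionSub_eq_top R ((Module.supportDim_self_eq_ringKrullDim R).trans hdim).le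
    have : Module.Injective R R := injective_congr
      (((lcZeroIso _).app (ModuleCat.of R R)).toLinearEquiv.trans (LinearEquiv.ofTop _ htop)) hinj
    exact Goren.Basic.isGorensteinLocalRing_iff.2 ⟨1, injective_iff_hasInjectiveDimensionLT_one.1
      ((Module.injective_iff_injective_object R R).1 this)⟩
  | succ d ih =>
    intro R _ _ _ hvan hinj
    have h0 := hvan 0 (by omega)
    have hdim : Module.supportDim R R = (d + 1 : ℕ) := by
      obtain ⟨n, hn⟩ := Depth.CM.supportDim_eq_nat (R := R) R
      have hnt := (Nonvanishing.nontrivial_and_not_finite n R hn).1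
      obtain rfl : n = d + 1 := by
        by_contra h
        exact not_subsingleton _ (hvan n h)
      exact hn
    obtain ⟨x, hx, hreg, -⟩ := Artinian.exists_regular_avoiding R
      ((subsingleton_H_zero_iff _ R).1 h0) ∅ (by simp) 1
    rw [pow_one] at hx
    have := Goren.Basic.isLocalRing_quotient_span hx
    refine (Goren.Basic.isGorensteinLocalRing_quotient_iff hx hreg).2 (ih _ (fun i hi => ?_) ?_)
    · obtain ⟨q, hq⟩ := exists_quotient_addEquiv hx i
      have : Subsingleton (LocCoh.H (IsLocalRing.maximalIdeal R) i (QuotSMulTop x R)) := by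
        by_cases h : i = d + 1
        · subst h
          exact lc_subsingleton_of_supportDim_lt (d + 1) R _ _ (by
            rw [Nonvanishing.eq_of_add_one_eq
              ((Module.supportDim_quotSMulTop_succ_eq_supportDim hreg hx).trans hdim)]
            exact_mod_cast d.lt_succ_self)
        · exact subsingleton_right _ (f := LinearMap.lsmul R R x) hreg (Submodule.mkQ_surjective _)
            (exact_lsmul_mkQ x) i (hvan i h) (hvan (i + 1) (by omega))
      exact q.toEquiv.subsingleton
    · obtain ⟨e, he, hrange⟩ := exists_delta_bijective R hreg d (hvan d (by omega))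
      obtain ⟨q, hq⟩ := exists_quotient_addEquiv hx d
      refine injective_of_semilinear (e.toAddMonoidHom.comp q.toAddMonoidHom)
        (fun r z => ?_) (he.comp q.injective) (fun z => ?_) hinj
      · show e (q _) = r • e (q z)
        rw [hq, map_smul]
      · rw [← hrange]
        exact ⟨fun ⟨a, ha⟩ => ⟨q a, ha⟩, fun ⟨w, hw⟩ => ⟨q.symm w, show e (q (q.symm w)) = z by
          rw [q.apply_symm_apply, hw]⟩⟩

end Groth.Agent.Lib.LCFin.Gorenstein
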