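import Groth.Agent.Lib.LCFin.CanonUnique
import Groth.Agent.Lib.LCFin.Gorenstein
import Groth.Agent.Lib.Depth.Ext
import Groth.Agent.Lib.Goren.InjDim

/-!
Local duality against a canonical module over a Cohen–Macaulay local ring.
-/

universe u

open CategoryTheory
open scoped TensorProduct
open Groth.Agent.Lib.LocalCoh Groth.Agent.Lib.LCFin.Seq Groth.Agent.Lib.LCFin.Cd
  Groth.Agent.Lib.LCFin.Top Groth.Agent.Lib.InjHull Groth.Agent.Lib.LCFin.CanonBasic

namespace Groth.Agent.Lib.LCFin.CanonCM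

variable {R : Type u} [CommRing R]

section Ext

variable {M : Type u} [AddCommGroup M] [Module R M] (K : Type u) [AddCommGroup K] [Module R K]

/-- The connecting map of `0 → ker π → F → M → 0` into `Ext(M, K)`. -/
noncomputable def extδ {s : ℕ} (π : (Fin s → R) →ₗ[R] M) (hπ : Function.Surjective π) (j : ℕ) :
    Abelian.Ext (ModuleCat.of R (LinearMap.ker π)) (ModuleCat.of R K) j →ₗ[R]
      Abelian.Ext (ModuleCat.of R M) (ModuleCat.of R K) (j + 1) where
  toFun h := (ses_shortExact (Submodule.injective_subtype _) hπ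
    (LinearMap.exact_subtype_ker_map π)).extClass.comp h (add_comm 1 j)
  map_add' a b := Abelian.Ext.comp_add ..
  map_smul' r a := Abelian.Ext.comp_smul ..

lemma extδ_surjective {s : ℕ} (π : (Fin s → R) →ₗ[R] M) (hπ : Function.Surjective π) (j : ℕ) :
    Function.Surjective (extδ K π hπ j) := fun x => by
  have h0 : (Abelian.Ext.mk₀ (ModuleCat.ofHom π)).comp x (zero_add (j + 1)) = 0 :=
    (Duality.subsingleton_ext_free s j _).elim _ _
  exact Abelian.Ext.contravariant_sequence_exact₃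
    (ses_shortExact (Submodule.injective_subtype _) hπ (LinearMap.exact_subtype_ker_map π)) _ x h0
    (add_comm 1 j)

lemma extδ_eq_zero_iff {s : ℕ} (π : (Fin s → R) →ₗ[R] M) (hπ : Function.Surjective π) (j : ℕ)
    (h : Abelian.Ext (ModuleCat.of R (LinearMap.ker π)) (ModuleCat.of R K) j) :
    extδ K π hπ j h = 0 ↔ ∃ g : Abelian.Ext (ModuleCat.of R (Fin s → R)) (ModuleCat.of R K) j,
      (Abelian.Ext.mk₀ (ModuleCat.ofHom (LinearMap.ker π).subtype)).comp g (zero_add j) = h := by
  constructor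
  · exact fun h0 => Abelian.Ext.contravariant_sequence_exact₁
      (ses_shortExact (Submodule.injective_subtype _) hπ (LinearMap.exact_subtype_ker_map π)) _ h
      (add_comm 1 j) h0
  · rintro ⟨g, rfl⟩
    exact ShortComplex.ShortExact.extClass_comp_assoc
      (ses_shortExact (Submodule.injective_subtype _) hπ (LinearMap.exact_subtype_ker_map π)) _
      (h := add_comm 1 j)

variable (M) in
/-- `Ext^0` is `Hom`. -/
noncomputable def ext0 :
    Abelian.Ext (ModuleCat.of R M) (ModuleCat.of R K) 0 ≃ₗ[R] (M →ₗ[R] K) :=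
  e₀.trans ModuleCat.homLinearEquiv

lemma extδ_zero_iff {s : ℕ} (π : (Fin s → R) →ₗ[R] M) (hπ : Function.Surjective π)
    (ψ : LinearMap.ker π →ₗ[R] K) :
    extδ K π hπ 0 ((ext0 _ K).symm ψ) = 0 ↔
      ∃ φ : (Fin s → R) →ₗ[R] K, φ ∘ₗ (LinearMap.ker π).subtype = ψ := by
  rw [extδ_eq_zero_iff]
  constructor
  · rintro ⟨g, hg⟩
    refine ⟨ext0 (Fin s → R) K g, ?_⟩
    rw [← (ext0 _ K).apply_symm_apply ψ, ← hg]
    exact (congrArg ModuleCat.Hom.hom (e₀_mk₀_comp (ModuleCat.ofHom (LinearMap.ker π).subtype) g)).symm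
  · rintro ⟨φ, rfl⟩
    refine ⟨(ext0 (Fin s → R) K).symm φ, (ext0 _ K).injective ?_⟩
    rw [LinearEquiv.apply_symm_apply]
    refine (congrArg ModuleCat.Hom.hom (e₀_mk₀_comp (ModuleCat.ofHom (LinearMap.ker π).subtype) _)).trans ?_
    exact congrArg (· ∘ₗ (LinearMap.ker π).subtype) ((ext0 (Fin s → R) K).apply_symm_apply φ)

end Ext

variable [IsNoetherianRing R] [IsLocalRing R] {E : Type u} [AddCommGroup E] [Module R E]
  {f : IsLocalRing.ResidueField R →ₗ[R] E}
  {K : Type u} [AddCommGroup K] [Module R K] {n : ℕ}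

local notation "𝔪" => IsLocalRing.maximalIdeal R

/-- A natural duality in the top degree. -/
theorem exists_natural (hE : Module.Injective R E) (hcd : LocCoh.CdLE R 𝔪 n)
    (e : (K →ₗ[R] E) ≃ₗ[R] LocCoh.H 𝔪 n R) :
    ∃ Φ : ∀ (M : Type u) [AddCommGroup M] [Module R M],
        LocCoh.H 𝔪 n M →ₗ[R] ((M →ₗ[R] K) →ₗ[R] E),
      (∀ (M : Type u) [AddCommGroup M] [Module R M] [Module.Finite R M], Function.Bijective (Φ M)) ∧
      ∀ (M N : Type u) [AddCommGroup M] [Module R M] [AddCommGroup N] [Module R N]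
        (π : M →ₗ[R] N) (z : LocCoh.H 𝔪 n M) (g : N →ₗ[R] K),
        Φ N (Hmap 𝔪 n π z) g = Φ M z (g ∘ₗ π) := by
  let Θ := fun (M : Type u) [AddCommGroup M] [Module R M] =>
    LinearEquiv.ofBijective (θ 𝔪 n M) (θ_bijective hcd)
  refine ⟨fun M _ _ => ev K M ∘ₗ (TensorProduct.congr e.symm (LinearEquiv.refl R M)).toLinearMap
    ∘ₗ (Θ M).symm.toLinearMap, fun M _ _ _ =>
      (ev_bijective K hE M).comp
        ((TensorProduct.congr e.symm (LinearEquiv.refl R M)).bijective.comp (Θ M).symm.bijective),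
    fun M N _ _ _ _ π z g => ?_⟩
  obtain ⟨t, rfl⟩ := (Θ M).surjective z
  show ev K N (TensorProduct.congr e.symm (LinearEquiv.refl R N)
      ((Θ N).symm (Hmap 𝔪 n π (θ 𝔪 n M t)))) g =
    ev K M (TensorProduct.congr e.symm (LinearEquiv.refl R M) ((Θ M).symm (Θ M t))) (g ∘ₗ π)
  rw [(Θ M).symm_apply_apply, ← θ_natural, show θ 𝔪 n N (π.lTensor _ t) = Θ N (π.lTensor _ t) from rfl,
    (Θ N).symm_apply_apply, ← ev_natural]
  congr 2
  induction t with
  | zero => simp
  | add a b ha hb => simp only [map_add, ha, hb]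
  | tmul h m => simp

section CM

variable [LocCoh.IsCohenMacaulayLocalRing R] [Module.Finite R K]

omit [Module.Finite R K] in
/-- Local duality against a canonical module. -/
theorem nonempty_duality (hf : InjHull.IsInjectiveHull f) (hn : ringKrullDim R = n)
    (e : (K →ₗ[R] E) ≃ₗ[R] LocCoh.H 𝔪 n R) :
    ∀ (j i : ℕ), i + j = n → ∀ (M : Type u) [AddCommGroup M] [Module R M] [Module.Finite R M],
      Nonempty (LocCoh.H 𝔪 i M ≃ₗ[R]
        (Abelian.Ext (ModuleCat.of R M) (ModuleCat.of R K) j →ₗ[R] E)) := by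
  have hcd := cdLE_of_ringKrullDim 𝔪 n hn.le
  obtain ⟨Φ, hΦ, hnat⟩ := exists_natural hf.isInjective hcd e
  have hlow : ∀ i < n, Subsingleton (LocCoh.H 𝔪 i R) := fun i hi => Gorenstein.subsingleton_H_of_lt hn hi
  intro j
  induction j with
  | zero =>
    intro i hi M _ _ _
    obtain rfl : i = n := by omega
    exact ⟨(LinearEquiv.ofBijective (Φ M) (hΦ M)).trans
      (LinearEquiv.congrLeft E R (ext0 M K).symm)⟩
  | succ j ih =>
    intro i hi M _ _ _
    obtain ⟨s, π, hπ⟩ := Module.Finite.exists_fin' R M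
    let L := LinearMap.ker π
    have hex := LinearMap.exact_subtype_ker_map π
    have hδinj : Function.Injective (Seq.δ 𝔪 (Submodule.injective_subtype L) hπ hex i) := by
      rw [← LinearMap.ker_eq_bot, Submodule.eq_bot_iff]
      intro w hw
      obtain ⟨y, rfl⟩ := (exact_map_δ 𝔪 (Submodule.injective_subtype L) hπ hex i w).1 hw
      rw [(subsingleton_pi (hlow i (by omega)) s).elim y 0, map_zero]
    cases j with
    | zero =>
      obtain rfl : n = i + 1 := by omega
      let c := extδ K π hπ 0 ∘ₗ (ext0 L K).symm.toLinearMap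
      have hc : Function.Surjective c := (extδ_surjective K π hπ 0).comp (ext0 L K).symm.surjective
      refine Duality.nonempty_equiv_of_range_eq
        (Φ L ∘ₗ Seq.δ 𝔪 (Submodule.injective_subtype L) hπ hex i)
        (LinearMap.lcomp R E c) ((hΦ L).1.comp hδinj)
        (fun a b h => LinearMap.ext fun x => by
          obtain ⟨z, rfl⟩ := hc x
          exact LinearMap.congr_fun h z) ?_
      refine le_antisymm ?_ ?_
      · rintro _ ⟨x, rfl⟩
        obtain ⟨g, hg⟩ := Duality.exists_factor c hc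
          (Φ L (Seq.δ 𝔪 (Submodule.injective_subtype L) hπ hex i x)) fun ψ hψ => by
            obtain ⟨φ, rfl⟩ := (extδ_zero_iff K π hπ ψ).1 hψ
            rw [← hnat, (exact_δ_map 𝔪 (Submodule.injective_subtype L) hπ hex i).apply_apply_eq_zero,
              map_zero, LinearMap.zero_apply]
        exact ⟨g, LinearMap.ext hg⟩
      · rintro _ ⟨χ, rfl⟩
        obtain ⟨w, hw⟩ := (hΦ L).2 (LinearMap.lcomp R E c χ)
        have h0 : Hmap 𝔪 (i + 1) L.subtype w = 0 := by
          refine (hΦ (Fin s → R)).1 (LinearMap.ext fun φ => ?_)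
          rw [hnat, hw, map_zero, LinearMap.zero_apply, LinearMap.lcomp_apply,
            show c (φ ∘ₗ L.subtype) = 0 from (extδ_zero_iff K π hπ _).2 ⟨φ, rfl⟩, map_zero]
        obtain ⟨x, rfl⟩ := (exact_δ_map 𝔪 (Submodule.injective_subtype L) hπ hex i w).1 h0
        exact ⟨x, hw⟩
    | succ j =>
      obtain ⟨e'⟩ := ih (i + 1) (by omega) L
      let e₁ : LocCoh.H 𝔪 i M ≃ₗ[R] LocCoh.H 𝔪 (i + 1) L := LinearEquiv.ofBijective _ ⟨hδinj, fun z =>
        (exact_δ_map 𝔪 (Submodule.injective_subtype L) hπ hex i z).1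
          ((subsingleton_pi (hlow (i + 1) (by omega)) s).elim _ _)⟩
      have hbij : Function.Bijective (extδ K π hπ (j + 1)) := by
        refine ⟨?_, extδ_surjective K π hπ (j + 1)⟩
        rw [← LinearMap.ker_eq_bot, Submodule.eq_bot_iff]
        intro h h0
        obtain ⟨g, rfl⟩ := (extδ_eq_zero_iff K π hπ (j + 1) h).1 h0
        rw [(Duality.subsingleton_ext_free s j _).elim g 0, Abelian.Ext.comp_zero]
      exact ⟨e₁.trans (e'.trans (LinearEquiv.congrLeft E R (LinearEquiv.ofBijective _ hbij)))⟩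

omit [Module.Finite R K] in
/-- `Ext` vanishes beyond the dimension. -/
theorem subsingleton_ext_succ (hf : InjHull.IsInjectiveHull f) (hn : ringKrullDim R = n)
    (e : (K →ₗ[R] E) ≃ₗ[R] LocCoh.H 𝔪 n R) (M : Type u) [AddCommGroup M] [Module R M]
    [Module.Finite R M] :
    Subsingleton (Abelian.Ext (ModuleCat.of R M) (ModuleCat.of R K) (n + 1)) := by
  obtain ⟨s, π, hπ⟩ := Module.Finite.exists_fin' R M
  let L := LinearMap.ker π
  refine subsingleton_of_forall_eq 0 fun x => ?_
  obtain ⟨h, rfl⟩ := extδ_surjective K π hπ n x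
  have h0inj : Function.Injective (Hmap 𝔪 0 L.subtype) :=
    injective_map_zero 𝔪 L.injective_subtype hπ (LinearMap.exact_subtype_ker_map π)
  cases n with
  | zero =>
    obtain ⟨Φ, hΦ, hnat⟩ := exists_natural hf.isInjective (cdLE_of_ringKrullDim 𝔪 0 hn.le) e
    obtain ⟨ψ, rfl⟩ := (ext0 L K).symm.surjective h
    rw [extδ_zero_iff]
    let W := LinearMap.range (LinearMap.lcomp R K L.subtype : ((Fin s → R) →ₗ[R] K) →ₗ[R] _)
    suffices (W.mkQ ψ) = 0 by
      obtain ⟨φ, hφ⟩ := (Submodule.Quotient.mk_eq_zero W).1 this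
      exact ⟨φ, hφ⟩
    refine Matlis.eq_zero_of_forall_dual hf fun χ => ?_
    obtain ⟨z, hz⟩ := (hΦ L).2 (χ ∘ₗ W.mkQ)
    have hz0 : z = 0 := h0inj (by
      rw [map_zero]
      refine (hΦ (Fin s → R)).1 (LinearMap.ext fun φ => ?_)
      rw [hnat, hz, map_zero, LinearMap.zero_apply, LinearMap.comp_apply, Submodule.mkQ_apply,
        (Submodule.Quotient.mk_eq_zero W).2 (show φ ∘ₗ L.subtype ∈ W from ⟨φ, rfl⟩), map_zero])
    have := LinearMap.congr_fun hz ψ
    rw [hz0, map_zero, LinearMap.zero_apply] at this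
    exact this.symm
  | succ k =>
    have hR : Subsingleton (LocCoh.H 𝔪 0 R) := Gorenstein.subsingleton_H_of_lt hn (Nat.succ_pos k)
    have hL : Subsingleton (LocCoh.H 𝔪 0 L) :=
      (have := subsingleton_pi hR s; h0inj.subsingleton)
    obtain ⟨e'⟩ := nonempty_duality hf hn e (k + 1) 0 (by omega) L
    have hh : h = 0 := Matlis.eq_zero_of_forall_dual hf fun χ => by
      rw [← e'.apply_symm_apply χ, hL.elim (e'.symm χ) 0, map_zero, LinearMap.zero_apply]
    rw [hh, map_zero]

theorem hasInjectiveDimensionLT (hf : InjHull.IsInjectiveHull f) (hn : ringKrullDim R = n)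
    (e : (K →ₗ[R] E) ≃ₗ[R] LocCoh.H 𝔪 n R) :
    HasInjectiveDimensionLT (ModuleCat.of R K) (n + 1) :=
  H22.GlobalDim.hasInjectiveDimensionLT_of_cyclic n (ModuleCat.of R K) fun J =>
    subsingleton_ext_succ hf hn e (R ⧸ J)

omit [Module.Finite R K] in
theorem subsingleton_ext_residueField (hf : InjHull.IsInjectiveHull f) (hn : ringKrullDim R = n)
    (e : (K →ₗ[R] E) ≃ₗ[R] LocCoh.H 𝔪 n R) {j : ℕ} (hj : j < n) :
    Subsingleton (Abelian.Ext (ModuleCat.of R (IsLocalRing.ResidueField R)) (ModuleCat.of R K) j) := by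
  obtain ⟨e'⟩ := nonempty_duality hf hn e j (n - j) (by omega) (IsLocalRing.ResidueField R)
  have h0 : Subsingleton (LocCoh.H 𝔪 (n - j) (IsLocalRing.ResidueField R)) := by
    obtain ⟨m, hm⟩ : ∃ m, n - j = m + 1 := ⟨n - j - 1, by omega⟩
    rw [hm]
    refine lc_subsingleton_of_isPowerTorsion 𝔪 m (ModuleCat.of R (IsLocalRing.ResidueField R))
      fun x => ⟨1, fun a ha => ?_⟩
    rw [pow_one] at ha
    obtain ⟨y, rfl⟩ := IsLocalRing.residue_surjective x
    show a • IsLocalRing.residue R y = 0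
    rw [Algebra.smul_def, show algebraMap R (IsLocalRing.ResidueField R) a = IsLocalRing.residue R a from rfl,
      (IsLocalRing.residue_eq_zero_iff a).2 ha, zero_mul]
  refine subsingleton_of_forall_eq 0 fun x => Matlis.eq_zero_of_forall_dual hf fun χ => ?_
  rw [← e'.apply_symm_apply χ, h0.elim (e'.symm χ) 0, map_zero, LinearMap.zero_apply]

end CM

end Groth.Agent.Lib.LCFin.CanonCM
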