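import Groth.Agent.Lib.Depth.CM
import Groth.Agent.Lib.Depth.Local
import Groth.Agent.Lib.Depth.SES
import Groth.Agent.Lib.Excellent.CatenaryDim
import Mathlib.RingTheory.Ideal.Height

/-!
`height p + dim R/p = dim R` in a Cohen–Macaulay local ring.
-/

universe u

open IsLocalRing LocCoh

namespace Groth.Agent.Lib.LCFin.CMDim

variable {R : Type u} [CommRing R] [IsNoetherianRing R] [IsLocalRing R]

theorem supportDim_le_quotient_add (p : Ideal R) [p.IsPrime] : ∀ (g : ℕ) (M : Type u)
    [AddCommGroup M] [Module R M] [Module.Finite R M] [Nontrivial M],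
    IsCohenMacaulayModule R M → idealDepth p M = g →
    Module.supportDim R M ≤ ringKrullDim (R ⧸ p) + (g : ℕ) := by
  intro g
  induction g with
  | zero =>
    intro M _ _ _ _ hCM hg
    have hp : p • (⊤ : Submodule R M) ≠ ⊤ := fun hh => by
      rw [Depth.Basic.idealDepth_of_smul_top_eq hh] at hg
      exact ENat.top_ne_natCast _ hg
    obtain ⟨q, hq, hpq⟩ := (Depth.Assoc.idealDepth_eq_zero_iff _ _ hp).1 (by simpa using hg)
    rw [← Depth.CM.ringKrullDim_quotient_eq hCM hq, Nat.cast_zero, add_zero]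
    exact ringKrullDim_le_of_surjective _ (Ideal.Quotient.factor_surjective hpq)
  | succ g ih =>
    intro M _ _ _ _ hCM hg
    obtain ⟨x, hx, hreg, hne, hg'⟩ := Depth.Local.exists_regular_of_idealDepth_eq_succ hg
    have hxm : x ∈ maximalIdeal R := le_maximalIdeal (Ideal.IsPrime.ne_top ‹_›) hx
    have : Nontrivial (QuotSMulTop x M) := nontrivial_quotSMulTop_of_mem_maximalIdeal _ hxm
    have := ih (QuotSMulTop x M) ((Depth.CM.isCohenMacaulayModule_quotSMulTop_iff hxm hreg).2 hCM) hg'
    rw [← Module.supportDim_quotSMulTop_succ_eq_supportDim hreg hxm, Nat.cast_succ, ← add_assoc]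
    gcongr

omit [IsNoetherianRing R] [IsLocalRing R] in
theorem height_add_coheight_le (p : PrimeSpectrum R) :
    ((Order.height p + Order.coheight p : ℕ∞) : WithBot ℕ∞) ≤ ringKrullDim R := by
  have : Nonempty (PrimeSpectrum R) := ⟨p⟩
  rw [ringKrullDim, Order.krullDim_eq_iSup_height_add_coheight_of_nonempty, WithBot.coe_le_coe]
  exact le_iSup (fun a : PrimeSpectrum R => Order.height a + Order.coheight a) p

/-- In a Cohen–Macaulay local ring the height and the dimension of the quotient add up. -/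
theorem exists_dims [IsCohenMacaulayLocalRing R] (p : Ideal R) [p.IsPrime] {d : ℕ}
    (hd : ringKrullDim R = d) :
    ∃ h e : ℕ, ringKrullDim (Localization.AtPrime p) = h ∧ ringKrullDim (R ⧸ p) = e ∧ h + e = d := by
  have hle := height_add_coheight_le (⟨p, ‹_›⟩ : PrimeSpectrum R)
  rw [hd, show ((d : ℕ) : WithBot ℕ∞) = (((d : ℕ) : ℕ∞) : WithBot ℕ∞) from rfl, WithBot.coe_le_coe] at hle
  have hh : Order.height (⟨p, ‹_›⟩ : PrimeSpectrum R) ≠ ⊤ :=
    (lt_of_le_of_lt (le_self_add.trans hle) (ENat.natCast_lt_top d)).ne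
  have he : Order.coheight (⟨p, ‹_›⟩ : PrimeSpectrum R) ≠ ⊤ :=
    (lt_of_le_of_lt (le_add_self.trans hle) (ENat.natCast_lt_top d)).ne
  obtain ⟨h, hh'⟩ := ENat.ne_top_iff_exists.1 hh
  obtain ⟨e, he'⟩ := ENat.ne_top_iff_exists.1 he
  have hdimp : ringKrullDim (Localization.AtPrime p) = h := by
    rw [IsLocalization.AtPrime.ringKrullDim_eq_height p, PrimeSpectrum.height_eq_orderHeight (⟨p, ‹_›⟩ : PrimeSpectrum R)]
    exact congrArg WithBot.some hh'.symm
  have hdimq : ringKrullDim (R ⧸ p) = e := by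
    rw [Excellent.CatenaryDim.ringKrullDim_quotient_eq_coheight ⟨p, ‹_›⟩, ← he']
    rfl
  refine ⟨h, e, hdimp, hdimq, le_antisymm ?_ ?_⟩
  · rw [← hh', ← he'] at hle
    exact_mod_cast hle
  · have hp : p • (⊤ : Submodule R R) ≠ ⊤ := by
      rw [smul_eq_mul, Ideal.mul_top]
      exact Ideal.IsPrime.ne_top ‹_›
    obtain ⟨g, hg⟩ := Depth.Local.exists_nat_eq_idealDepth p R hp
    have h1 := supportDim_le_quotient_add p g R Depth.CM.isCohenMacaulayModule_self hg
    rw [Module.supportDim_self_eq_ringKrullDim, hd, hdimq] at h1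
    have := Depth.CM.isCohenMacaulayLocalRing_localization p
    have h2 := Depth.Local.idealDepth_le_depth_localization p R p le_rfl
    have h3 := (Depth.CM.ringKrullDim_eq_depth (R := Localization.AtPrime p)).symm.trans hdimp
    have h4 : LocCoh.depth (Localization.AtPrime p) (LocalizedModule p.primeCompl R) =
        (h : ℕ∞) := WithBot.coe_injective h3
    rw [hg, h4, Nat.cast_le] at h2
    have h5 : d ≤ e + g := by exact_mod_cast h1
    omega

end Groth.Agent.Lib.LCFin.CMDim
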