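import Groth.Agent.Lib.LCFin.Duality
import Groth.Agent.Lib.LCFin.ExtLoc
import Groth.Agent.Lib.LCFin.CMDim
import Groth.Agent.Lib.Goren.Global
import Mathlib.Algebra.Category.ModuleCat.Ext.Finite
import Mathlib.RingTheory.Localization.AtPrime.Basic

/-!
The annihilator of local cohomology over a quotient of a Gorenstein local ring.
-/

universe u

open CategoryTheory
open Groth.Agent.Lib.LocalCoh Groth.Agent.Lib.LCFin.Seq

namespace Groth.Agent.Lib.LCFin.Annihilator

section Gor

variable {R : Type u} [CommRing R] [LocCoh.IsGorensteinLocalRing R]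

theorem isCohenMacaulay : LocCoh.IsCohenMacaulayLocalRing R := by
  obtain ⟨n, hn⟩ := LocCoh.IsGorensteinLocalRing.exists_hasInjectiveDimensionLT (A := R)
  obtain ⟨d, -, -, hCM, -⟩ := Goren.Basic.exists_dim hn
  exact hCM

/-- Vanishing of `Ext^j(M, R)` in terms of local cohomology. -/
theorem subsingleton_ext_iff {h : ℕ} (hh : ringKrullDim R = h) (M : Type u) [AddCommGroup M]
    [Module R M] [Module.Finite R M] (k : ℕ) :
    Subsingleton (Abelian.Ext (ModuleCat.of R M) (ModuleCat.of R R) k) ↔
      ∀ j : ℕ, j + k = h → Subsingleton (LocCoh.H (IsLocalRing.maximalIdeal R) j M) := by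
  constructor
  · intro hs j hj
    obtain ⟨e⟩ := Duality.exists_duality h hh M hj
    have : Subsingleton (Abelian.Ext (ModuleCat.of R M) (ModuleCat.of R R) k →ₗ[R]
        LocCoh.H (IsLocalRing.maximalIdeal R) h R) :=
      subsingleton_of_forall_eq 0 fun φ => LinearMap.ext fun z => by
        rw [hs.elim z 0, map_zero, map_zero]
    exact e.toEquiv.subsingleton
  · intro hH
    rcases le_or_gt k h with hk | hk
    · obtain ⟨e⟩ := Duality.exists_duality h hh M (i := h - k) (j := k) (by omega)
      obtain ⟨g, hg⟩ := Gorenstein.exists_isInjectiveHull R h hh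
      have hs := hH (h - k) (by omega)
      have := e.symm.toEquiv.subsingleton
      exact subsingleton_of_forall_eq 0 fun z =>
        InjHull.Matlis.eq_zero_of_forall_dual hg fun φ => by
          rw [Subsingleton.elim φ 0, LinearMap.zero_apply]
    · obtain ⟨n, hn⟩ := LocCoh.IsGorensteinLocalRing.exists_hasInjectiveDimensionLT (A := R)
      obtain ⟨d, hd, -, -, hlt⟩ := Goren.Basic.exists_dim hn
      obtain rfl : d = h := by exact_mod_cast hd.symm.trans hh
      exact HasInjectiveDimensionLT.subsingleton (ModuleCat.of R R) (d + 1) k (by omega) _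

/-- The support of `Ext^k(M, R)` in terms of local cohomology of the localizations. -/
theorem notMem_support_ext_iff (M : Type u) [AddCommGroup M] [Module R M] [Module.Finite R M]
    (k : ℕ) (q : PrimeSpectrum R) {h : ℕ}
    (hh : ringKrullDim (Localization.AtPrime q.asIdeal) = h) :
    q ∉ Module.support R (Abelian.Ext (ModuleCat.of R M) (ModuleCat.of R R) k) ↔
      ∀ j : ℕ, j + k = h → Subsingleton (LocCoh.H
        (IsLocalRing.maximalIdeal (Localization.AtPrime q.asIdeal)) j
        (LocalizedModule q.asIdeal.primeCompl M)) := by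
  have := Goren.Global.isGorensteinLocalRing_localization (A := R) q.asIdeal
  have hR : ModuleCat.of (Localization q.asIdeal.primeCompl) (LocalizedModule q.asIdeal.primeCompl R) =
      ModuleCat.of (Localization.AtPrime q.asIdeal) (Localization.AtPrime q.asIdeal) := rfl
  obtain ⟨e⟩ := ExtLoc.nonempty_equiv q.asIdeal.primeCompl R k M
  rw [Module.notMem_support_iff, e.toEquiv.subsingleton_congr, hR,
    subsingleton_ext_iff hh (LocalizedModule q.asIdeal.primeCompl M) k]

/-- The radical of the annihilator of local cohomology over a Gorenstein local ring. -/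
theorem le_radical_iff (M : Type u) [AddCommGroup M] [Module R M] [Module.Finite R M] (J : Ideal R)
    (i : ℕ) :
    J ≤ (Module.annihilator R (LocCoh.H (IsLocalRing.maximalIdeal R) i M)).radical ↔
      ∀ (q : PrimeSpectrum R), ¬ J ≤ q.asIdeal → ∀ e j : ℕ, ringKrullDim (R ⧸ q.asIdeal) = e →
        j + e = i → Subsingleton (LocCoh.H
          (IsLocalRing.maximalIdeal (Localization.AtPrime q.asIdeal)) j
          (LocalizedModule q.asIdeal.primeCompl M)) := by
  have := isCohenMacaulay (R := R)
  obtain ⟨d, hd⟩ := Depth.CM.supportDim_eq_nat (R := R) R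
  have hd' : ringKrullDim R = d := (Module.supportDim_self_eq_ringKrullDim (R := R)).symm.trans hd
  rcases le_or_gt i d with hi | hi
  swap
  · have hs := lc_subsingleton_of_supportDim_lt i R (IsLocalRing.maximalIdeal R) M
      (((Module.supportDim_le_ringKrullDim R M).trans hd'.le).trans_lt (by exact_mod_cast hi))
    refine iff_of_true ?_ fun q _ e j he hje => ?_
    · rw [Module.annihilator_eq_top_iff.2 hs, Ideal.radical_top]
      exact le_top
    · obtain ⟨h, e', hh, he', hsum⟩ := CMDim.exists_dims q.asIdeal hd'
      obtain rfl : e' = e := by exact_mod_cast he'.symm.trans he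
      exact lc_subsingleton_of_supportDim_lt j _ _ _
        (((Module.supportDim_le_ringKrullDim _ _).trans hh.le).trans_lt
          (by exact_mod_cast (show h < j by omega)))
  obtain ⟨e⟩ := Duality.exists_duality d hd' M (i := i) (j := d - i) (by omega)
  obtain ⟨g, hg⟩ := Gorenstein.exists_isInjectiveHull R d hd'
  rw [e.annihilator_eq, ← InjHull.Matlis.annihilator_dual hg,
    ← PrimeSpectrum.zeroLocus_subset_zeroLocus_iff, ← Module.support_eq_zeroLocus]
  constructor
  · intro hsub q hq e' j he' hje
    obtain ⟨h, e'', hh, he'', hsum⟩ := CMDim.exists_dims q.asIdeal hd'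
    obtain rfl : e'' = e' := by exact_mod_cast he''.symm.trans he'
    exact (notMem_support_ext_iff M (d - i) q hh).1 (fun hmem => hq (hsub hmem)) j (by omega)
  · intro H q hq
    by_contra hJ
    obtain ⟨h, e', hh, he', hsum⟩ := CMDim.exists_dims q.asIdeal hd'
    exact (notMem_support_ext_iff M (d - i) q hh).2
      (fun j hj => H q hJ e' j he' (by omega)) hq

end Gor

section Transfer

variable {R A : Type u} [CommRing R] [CommRing A] [Algebra R A]
  (hπ : Function.Surjective (algebraMap R A))
  (M : Type u) [AddCommGroup M] [Module A M] [Module R M] [IsScalarTower R A M]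

include hπ

/-- Localizations of a module over a quotient ring. -/
theorem nonempty_localized_H_addEquiv [IsNoetherianRing R] [IsNoetherianRing A] (p : Ideal A)
    [p.IsPrime] (j : ℕ) :
    Nonempty (LocCoh.H (IsLocalRing.maximalIdeal (Localization.AtPrime (p.comap (algebraMap R A)))) j
        (LocalizedModule (p.comap (algebraMap R A)).primeCompl M) ≃+
      LocCoh.H (IsLocalRing.maximalIdeal (Localization.AtPrime p)) j
        (LocalizedModule p.primeCompl M)) := by
  set q := p.comap (algebraMap R A) with hq
  let f : Localization.AtPrime q →+* Localization.AtPrime p :=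
    Localization.localRingHom q p (algebraMap R A) hq
  have hf : Function.Surjective f := by
    intro x
    obtain ⟨a, s, rfl⟩ := IsLocalization.exists_mk'_eq p.primeCompl x
    obtain ⟨r, rfl⟩ := hπ a
    obtain ⟨t, ht⟩ := hπ s.1
    refine ⟨IsLocalization.mk' _ r (⟨t, fun htq => s.2 (ht ▸ htq)⟩ : q.primeCompl), ?_⟩
    rw [Localization.localRingHom_mk']
    congr 1
    exact Subtype.ext ht
  algebraize [f]
  letI : Module (Localization.AtPrime q) (LocalizedModule p.primeCompl M) :=
    Module.compHom _ f
  haveI : IsScalarTower (Localization.AtPrime q) (Localization.AtPrime p)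
      (LocalizedModule p.primeCompl M) := ⟨fun x y z => by
    rw [Algebra.smul_def, mul_smul]; rfl⟩
  haveI : IsScalarTower R (Localization.AtPrime q) (LocalizedModule p.primeCompl M) :=
    IsScalarTower.of_algebraMap_smul fun r z => by
      show f (algebraMap R (Localization.AtPrime q) r) • z = r • z
      rw [show f (algebraMap R (Localization.AtPrime q) r) =
          algebraMap A (Localization.AtPrime p) (algebraMap R A r) from
          Localization.localRingHom_to_map q p (algebraMap R A) hq r, algebraMap_smul, algebraMap_smul]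
  let mk : M →ₗ[R] LocalizedModule p.primeCompl M :=
    (LocalizedModule.mkLinearMap p.primeCompl M).restrictScalars R
  haveI : IsLocalizedModule q.primeCompl mk := by
    refine ⟨fun s => (Module.End.isUnit_iff _).2 ?_, fun z => ?_, fun {a b} e => ?_⟩
    · have hu := (Module.End.isUnit_iff _).1 (IsLocalizedModule.map_units
        (LocalizedModule.mkLinearMap p.primeCompl M) (⟨algebraMap R A s.1, s.2⟩ : p.primeCompl))
      have : (algebraMap R (Module.End R (LocalizedModule p.primeCompl M)) s.1 :
          LocalizedModule p.primeCompl M → LocalizedModule p.primeCompl M) =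
          algebraMap A (Module.End A (LocalizedModule p.primeCompl M)) (algebraMap R A s.1) := by
        funext z
        rw [Module.algebraMap_end_apply, Module.algebraMap_end_apply, algebraMap_smul]
      rw [this]
      exact hu
    · obtain ⟨⟨m, s⟩, e⟩ := IsLocalizedModule.surj p.primeCompl
        (LocalizedModule.mkLinearMap p.primeCompl M) z
      obtain ⟨t, ht⟩ := hπ s.1
      refine ⟨(m, ⟨t, fun htq => s.2 (ht ▸ htq)⟩), ?_⟩
      show t • z = _
      exact ((algebraMap_smul A t z).symm.trans (by rw [ht]; rfl)).trans e
    · obtain ⟨s, hs⟩ := IsLocalizedModule.exists_of_eq (S := p.primeCompl)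
        (f := LocalizedModule.mkLinearMap p.primeCompl M) (x₁ := a) (x₂ := b) e
      obtain ⟨t, ht⟩ := hπ s.1
      refine ⟨⟨t, fun htq => s.2 (ht ▸ htq)⟩, ?_⟩
      show t • a = t • b
      rw [← algebraMap_smul A t a, ← algebraMap_smul A t b, ht]
      exact hs
  let e : LocalizedModule q.primeCompl M ≃ₗ[Localization.AtPrime q] LocalizedModule p.primeCompl M :=
    (IsLocalizedModule.iso q.primeCompl mk).extendScalarsOfIsLocalization q.primeCompl _
  obtain ⟨c⟩ := nonempty_lcRestrictIso (Localization.AtPrime p)
    (IsLocalRing.maximalIdeal (Localization.AtPrime q))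
    (ModuleCat.of (Localization.AtPrime p) (LocalizedModule p.primeCompl M)) j
  rw [show (IsLocalRing.maximalIdeal (Localization.AtPrime q)).map
      (algebraMap (Localization.AtPrime q) (Localization.AtPrime p)) =
      IsLocalRing.maximalIdeal (Localization.AtPrime p) from
    IsLocalRing.map_maximalIdeal_of_surjective _ hf] at c
  exact ⟨((lcLinearEquiv _ j e).trans
    ((localCohomology _ j).mapIso (resObjIso (Localization.AtPrime p)
      (LocalizedModule p.primeCompl M))).toLinearEquiv.symm).toAddEquiv.trans
        c.toLinearEquiv.symm.toAddEquiv⟩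

variable [IsLocalRing R] [IsLocalRing A] [IsNoetherianRing R] [IsNoetherianRing A]

/-- Local cohomology at the maximal ideal of a quotient ring. -/
theorem exists_H_addEquiv (i : ℕ) :
    ∃ e : LocCoh.H (IsLocalRing.maximalIdeal A) i M ≃+ LocCoh.H (IsLocalRing.maximalIdeal R) i M,
      ∀ (r : R) z, e (algebraMap R A r • z) = r • e z := by
  obtain ⟨c⟩ := nonempty_lcRestrictIso A (IsLocalRing.maximalIdeal R) (ModuleCat.of A M) i
  rw [IsLocalRing.map_maximalIdeal_of_surjective _ hπ] at c
  exact Gorenstein.exists_addEquiv_of_iso (algebraMap R A) _ _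
    (c ≪≫ (localCohomology _ i).mapIso (resObjIso A M))

theorem le_radical_comap_iff (J : Ideal A) (i : ℕ) :
    J ≤ (Module.annihilator A (LocCoh.H (IsLocalRing.maximalIdeal A) i M)).radical ↔
      J.comap (algebraMap R A) ≤
        (Module.annihilator R (LocCoh.H (IsLocalRing.maximalIdeal R) i M)).radical := by
  obtain ⟨e, he⟩ := exists_H_addEquiv hπ M i
  have key : Module.annihilator R (LocCoh.H (IsLocalRing.maximalIdeal R) i M) =
      (Module.annihilator A (LocCoh.H (IsLocalRing.maximalIdeal A) i M)).comap (algebraMap R A) := by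
    ext r
    rw [Ideal.mem_comap, Module.mem_annihilator, Module.mem_annihilator]
    exact ⟨fun h z => e.injective (by rw [he, h, map_zero]),
      fun h z => by rw [← e.apply_symm_apply z, ← he, h, map_zero]⟩
  rw [key, ← Ideal.comap_radical]
  refine ⟨fun h => Ideal.comap_mono h, fun h => ?_⟩
  rw [← Ideal.map_comap_of_surjective _ hπ J, Ideal.map_le_iff_le_comap]
  exact h

/-- The radical of the annihilator of local cohomology over a quotient of a Gorenstein ring. -/
theorem le_radical_iff_of_quotient [LocCoh.IsGorensteinLocalRing R] [Module.Finite A M]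
    (J : Ideal A) (i : ℕ) :
    J ≤ (Module.annihilator A (LocCoh.H (IsLocalRing.maximalIdeal A) i M)).radical ↔
      ∀ (p : PrimeSpectrum A), ¬ J ≤ p.asIdeal → ∀ e j : ℕ, ringKrullDim (A ⧸ p.asIdeal) = e →
        j + e = i → Subsingleton (LocCoh.H
          (IsLocalRing.maximalIdeal (Localization.AtPrime p.asIdeal)) j
          (LocalizedModule p.asIdeal.primeCompl M)) := by
  have : Module.Finite R A := Module.Finite.of_surjective (Algebra.linearMap R A) hπ
  have : Module.Finite R M := Module.Finite.trans A M
  rw [le_radical_comap_iff hπ M J i, le_radical_iff M]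
  constructor
  · intro H p hp e j he hje
    obtain ⟨ε⟩ := nonempty_localized_H_addEquiv hπ M p.asIdeal j
    have := H ⟨p.asIdeal.comap (algebraMap R A), inferInstance⟩
      (fun hle => hp ((Ideal.comap_le_comap_iff_of_surjective _ hπ _ _).1 hle)) e j ?_ hje
    · exact ε.symm.toEquiv.subsingleton
    · rw [← he]
      exact ringKrullDim_eq_of_ringEquiv (RingEquiv.ofBijective
        (Ideal.quotientMap p.asIdeal (algebraMap R A) le_rfl)
        ⟨Ideal.quotientMap_injective, Ideal.quotientMap_surjective hπ⟩)
  · intro H q hq e j he hje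
    by_cases hk : RingHom.ker (algebraMap R A) ≤ q.asIdeal
    · have hp : (q.asIdeal.map (algebraMap R A)).IsPrime :=
        Ideal.map_isPrime_of_surjective hπ hk
      have hcomap : (q.asIdeal.map (algebraMap R A)).comap (algebraMap R A) = q.asIdeal := by
        rw [Ideal.comap_map_of_surjective _ hπ]
        exact sup_eq_left.2 hk
      obtain ⟨qi, hqi⟩ := q
      dsimp only at *
      obtain ⟨p, rfl⟩ : ∃ p : Ideal A, qi = p.comap (algebraMap R A) := ⟨_, hcomap.symm⟩
      rw [Ideal.map_comap_of_surjective _ hπ] at hp
      obtain ⟨ε⟩ := nonempty_localized_H_addEquiv hπ M p j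
      have := H ⟨p, hp⟩ (fun hle => hq (Ideal.comap_mono hle)) e j ?_ hje
      · exact ε.toEquiv.subsingleton
      · rw [← he]
        exact (ringKrullDim_eq_of_ringEquiv (RingEquiv.ofBijective
          (Ideal.quotientMap p (algebraMap R A) le_rfl)
          ⟨Ideal.quotientMap_injective, Ideal.quotientMap_surjective hπ⟩)).symm
    · obtain ⟨r, hr, hrq⟩ := SetLike.not_le_iff_exists.1 hk
      have : Subsingleton (LocalizedModule q.asIdeal.primeCompl M) :=
        LocalizedModule.subsingleton_iff.2 fun m => ⟨r, hrq, by
          rw [← algebraMap_smul A r m, RingHom.mem_ker.1 hr, zero_smul]⟩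
      exact ModuleCat.subsingleton_of_isZero ((localCohomology _ j).map_isZero
        (ModuleCat.isZero_of_subsingleton (ModuleCat.of _ (LocalizedModule q.asIdeal.primeCompl M))))

end Transfer

end Groth.Agent.Lib.LCFin.Annihilator
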