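import Groth.Agent.Lib.LCFin.CMDim
import Groth.Agent.Lib.LCFin.Annihilator
import Groth.Agent.Lib.DMod.SupportDim

/-!
Dimensions of supports over a quotient of a Gorenstein local ring.
-/

universe u

open IsLocalRing LocCoh
open Groth.Agent.Lib.DMod

namespace Groth.Agent.Lib.LCFin.Catenary

/-- A saturated chain between two primes of a Cohen–Macaulay local ring has the expected length. -/
theorem exists_series_between {R : Type u} [CommRing R] [IsCohenMacaulayLocalRing R]
    {a q : PrimeSpectrum R} (haq : a ≤ q) {ea eq' : ℕ} (ha : ringKrullDim (R ⧸ a.asIdeal) = ea)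
    (hq : ringKrullDim (R ⧸ q.asIdeal) = eq') :
    ∃ s : LTSeries (PrimeSpectrum R), s.length + eq' = ea ∧ ∀ j, a ≤ s j ∧ s j ≤ q := by
  obtain ⟨d, hd⟩ := Depth.CM.supportDim_eq_nat (R := R) R
  have hd' : ringKrullDim R = d := (Module.supportDim_self_eq_ringKrullDim (R := R)).symm.trans hd
  have := Depth.CM.isCohenMacaulayLocalRing_localization q.asIdeal
  obtain ⟨hq₁, e₁, hh₁, he₁, hs₁⟩ := CMDim.exists_dims q.asIdeal hd'
  obtain ⟨ha₁, e₂, hh₂, he₂, hs₂⟩ := CMDim.exists_dims a.asIdeal hd'
  obtain rfl : e₁ = eq' := by exact_mod_cast he₁.symm.trans hq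
  obtain rfl : e₂ = ea := by exact_mod_cast he₂.symm.trans ha
  let Φ := IsLocalization.AtPrime.primeSpectrumOrderIso (Localization.AtPrime q.asIdeal) q.asIdeal
  let A' := Φ.symm ⟨a, haq⟩
  have hA' : A'.asIdeal.comap (algebraMap R (Localization.AtPrime q.asIdeal)) = a.asIdeal :=
    congrArg (fun z : Set.Iic q => z.1.asIdeal) (Φ.apply_symm_apply ⟨a, haq⟩)
  obtain ⟨h₃, e₃, hh₃, he₃, hs₃⟩ := CMDim.exists_dims A'.asIdeal hh₁
  have hh : h₃ = ha₁ := by
    have h1 := hh₃
    rw [IsLocalization.AtPrime.ringKrullDim_eq_height A'.asIdeal,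
      ← IsLocalization.height_under q.asIdeal.primeCompl, Ideal.under_def, hA',
      ← IsLocalization.AtPrime.ringKrullDim_eq_height a.asIdeal (Localization.AtPrime a.asIdeal), hh₂] at h1
    exact_mod_cast h1.symm
  have hco : Order.coheight A' = (e₃ : ℕ∞) := by
    rw [Excellent.CatenaryDim.ringKrullDim_quotient_eq_coheight A'] at he₃
    exact WithBot.coe_injective he₃
  obtain ⟨s, hhead, hlen⟩ := Order.exists_series_of_coheight_eq_coe A' hco
  refine ⟨s.map (fun x => (Φ x).1) fun x y h => Φ.strictMono h, ?_, fun j => ⟨?_, (Φ (s j)).2⟩⟩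
  · show s.length + e₁ = e₂
    omega
  · have hle : A' ≤ s j := hhead ▸ LTSeries.monotone s (Fin.zero_le j)
    have : ((Φ A') : Set.Iic q).1 ≤ (Φ (s j)).1 := Φ.monotone hle
    rwa [Φ.apply_symm_apply] at this

variable {R A : Type u} [CommRing R] [CommRing A] [Algebra R A]
  (M : Type u) [AddCommGroup M] [Module A M]

/-- The dimension at a prime plus the dimension of its quotient is at most the total dimension. -/
theorem supportDim_localized_add_le [IsLocalRing A] [IsNoetherianRing A] [Module.Finite A M] {n : ℕ}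
    (hn : Module.supportDim A M = n) (p : PrimeSpectrum A) (hp : p ∈ Module.support A M) {e : ℕ}
    (he : ringKrullDim (A ⧸ p.asIdeal) = e) :
    ∃ b : ℕ, Module.supportDim (Localization.AtPrime p.asIdeal)
      (LocalizedModule p.asIdeal.primeCompl M) = b ∧ b + e ≤ n := by
  let a : Module.support A M := ⟨p, hp⟩
  have : Nonempty (Module.support A M) := ⟨a⟩
  have hsum : Order.height a + Order.coheight a ≤ (n : ℕ∞) := by
    have h : ((Order.height a + Order.coheight a : ℕ∞) : WithBot ℕ∞) ≤ Module.supportDim A M := by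
      rw [Module.supportDim, Order.krullDim_eq_iSup_height_add_coheight_of_nonempty, WithBot.coe_le_coe]
      exact le_iSup (fun x : Module.support A M => Order.height x + Order.coheight x) a
    rw [hn] at h
    exact_mod_cast h
  have he' : (e : ℕ∞) ≤ Order.coheight a := by
    rw [Excellent.CatenaryDim.ringKrullDim_quotient_eq_coheight p] at he
    obtain ⟨s, hhead, hlen⟩ := Order.exists_series_of_coheight_eq_coe p
      (show Order.coheight p = (e : ℕ∞) from WithBot.coe_injective he)
    let t : LTSeries (Module.support A M) :=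
      ⟨s.length, fun j => ⟨s j, Module.mem_support_mono (hhead ▸ LTSeries.monotone s (Fin.zero_le j)) hp⟩,
        fun j => s.step j⟩
    have := Order.length_le_coheight (p := t) (x := a)
      (show p ≤ (t.head : Module.support A M).1 from hhead.ge)
    rwa [show t.length = e from hlen] at this
  let B := {q : PrimeSpectrum A // q ∈ Module.support A M ∧ q ≤ p}
  have : Nonempty B := ⟨⟨p, hp, le_rfl⟩⟩
  have hlen : ∀ s : LTSeries B, s.length + e ≤ n := fun s => by
    let t : LTSeries (Module.support A M) := s.map (fun x => ⟨x.1, x.2.1⟩) fun _ _ h => h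
    have h1 := Order.length_le_height (p := t) (x := a) (show t.last.1 ≤ p from s.last.2.2)
    have h2 := (add_le_add h1 he').trans hsum
    rw [← Nat.cast_add, Nat.cast_le] at h2
    exact h2
  have hle : Module.supportDim (Localization.AtPrime p.asIdeal)
      (LocalizedModule p.asIdeal.primeCompl M) ≤ ((n - e : ℕ) : WithBot ℕ∞) := by
    rw [SupportDim.supportDim_localized p M]
    exact iSup_le fun s => by
      have := hlen s
      exact_mod_cast (show s.length ≤ n - e by omega)
  have : Nontrivial (LocalizedModule p.asIdeal.primeCompl M) := Module.mem_support_iff.1 hp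
  obtain ⟨b, hb⟩ := Depth.CM.supportDim_eq_nat (R := Localization.AtPrime p.asIdeal)
    (LocalizedModule p.asIdeal.primeCompl M)
  refine ⟨b, hb, ?_⟩
  rw [hb] at hle
  have hb' : b ≤ n - e := Nat.cast_le.1 (WithBot.coe_le_coe.1 (show ((b : ℕ∞) : WithBot ℕ∞) ≤ (((n - e : ℕ) : ℕ∞) : WithBot ℕ∞) from hle))
  have he0 := hlen (RelSeries.singleton _ ⟨p, hp, le_rfl⟩)
  simp at he0
  omega

/-- Over a quotient of a Cohen–Macaulay local ring the dimension at a prime is at least the drop in
dimension from a prime of the support below it. -/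
theorem le_supportDim_localized [IsCohenMacaulayLocalRing R] [Module.Finite A M]
    (hπ : Function.Surjective (algebraMap R A)) (P p : PrimeSpectrum A) (hP : P ∈ Module.support A M)
    (hPp : P ≤ p) {eP ep : ℕ} (heP : ringKrullDim (A ⧸ P.asIdeal) = eP)
    (hep : ringKrullDim (A ⧸ p.asIdeal) = ep) :
    ep ≤ eP ∧ ((eP - ep : ℕ) : WithBot ℕ∞) ≤ Module.supportDim (Localization.AtPrime p.asIdeal)
      (LocalizedModule p.asIdeal.primeCompl M) := by
  have hq : ∀ x : PrimeSpectrum A, ringKrullDim (R ⧸ x.asIdeal.comap (algebraMap R A)) =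
      ringKrullDim (A ⧸ x.asIdeal) := fun x =>
    ringKrullDim_eq_of_ringEquiv (RingEquiv.ofBijective
      (Ideal.quotientMap x.asIdeal (algebraMap R A) le_rfl)
      ⟨Ideal.quotientMap_injective, Ideal.quotientMap_surjective hπ⟩)
  let c := PrimeSpectrum.comap (algebraMap R A)
  obtain ⟨s, hs, hbt⟩ := exists_series_between (a := c P) (q := c p) (Ideal.comap_mono hPp)
    ((hq P).trans heP) ((hq p).trans hep)
  refine ⟨by omega, ?_⟩
  have hker : ∀ j, RingHom.ker (algebraMap R A) ≤ (s j).asIdeal := fun j =>
    (show RingHom.ker (algebraMap R A) ≤ (c P).asIdeal from Ideal.comap_mono bot_le).trans (hbt j).1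
  let f : Fin (s.length + 1) → PrimeSpectrum A := fun j =>
    ⟨(s j).asIdeal.map (algebraMap R A), Ideal.map_isPrime_of_surjective hπ (hker j)⟩
  have hf : ∀ j, (f j).asIdeal.comap (algebraMap R A) = (s j).asIdeal := fun j => by
    rw [Ideal.comap_map_of_surjective _ hπ]
    exact sup_eq_left.2 (hker j)
  let t : LTSeries {q : PrimeSpectrum A // q ∈ Module.support A M ∧ q ≤ p} :=
    ⟨s.length, fun j => ⟨f j, Module.mem_support_mono (show P.asIdeal ≤ (f j).asIdeal from
        (Ideal.comap_le_comap_iff_of_surjective _ hπ _ _).1 ((hf j).symm ▸ (hbt j).1)) hP,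
      show (f j).asIdeal ≤ p.asIdeal from
        (Ideal.comap_le_comap_iff_of_surjective _ hπ _ _).1 ((hf j).symm ▸ (hbt j).2)⟩, fun j => by
      have hstep : s j.castSucc < s j.succ := s.step j
      refine lt_of_le_not_ge (show (f _).asIdeal ≤ (f _).asIdeal from Ideal.map_mono hstep.le)
        fun hge => hstep.not_ge ?_
      have h' := Ideal.comap_mono (f := algebraMap R A) (show (f j.succ).asIdeal ≤ (f j.castSucc).asIdeal from hge)
      rwa [hf, hf] at h'⟩
  rw [SupportDim.supportDim_localized p M, show eP - ep = t.length from by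
    show eP - ep = s.length
    omega]
  exact Order.LTSeries.length_le_krullDim t

end Groth.Agent.Lib.LCFin.Catenary
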