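import Groth.Agent.Lib.LCFin.Annihilator
import Groth.Agent.Lib.LCFin.CMDim
import Groth.Agent.Lib.Excellent.CatenaryDim
import Groth.Prelude.Def_SGA2

/-!
Vanishing of local cohomology of the stalks propagates along specializations (quotients of regular
rings).
-/

universe u

open IsLocalRing CategoryTheory
open Groth.Agent.Lib.LocalCoh

namespace Groth.Agent.Lib.LCFin.RelCodim

section Order

/-- Heights rise by one along covering primes of a Cohen–Macaulay ring. -/
theorem height_eq_add_one {R : Type u} [CommRing R] [IsNoetherianRing R] (P P₁ : PrimeSpectrum R)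
    [LocCoh.IsCohenMacaulayLocalRing (Localization.AtPrime P₁.asIdeal)] (hcov : P ⋖ P₁) {h₁ : ℕ}
    (hh₁ : ringKrullDim (Localization.AtPrime P₁.asIdeal) = h₁) :
    ∃ h : ℕ, ringKrullDim (Localization.AtPrime P.asIdeal) = h ∧ h + 1 = h₁ := by
  let Φ := IsLocalization.AtPrime.primeSpectrumOrderIso (Localization.AtPrime P₁.asIdeal) P₁.asIdeal
  let A' := Φ.symm ⟨P, hcov.le⟩
  have hA' : A'.asIdeal.comap (algebraMap R (Localization.AtPrime P₁.asIdeal)) = P.asIdeal :=
    congrArg (fun z : Set.Iic P₁ => z.1.asIdeal) (Φ.apply_symm_apply ⟨P, hcov.le⟩)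
  obtain ⟨h₃, e₃, hh₃, he₃, hs₃⟩ := CMDim.exists_dims A'.asIdeal hh₁
  have hh3' : ringKrullDim (Localization.AtPrime P.asIdeal) = h₃ := by
    rw [IsLocalization.AtPrime.ringKrullDim_eq_height A'.asIdeal,
      ← IsLocalization.height_under P₁.asIdeal.primeCompl, Ideal.under_def, hA'] at hh₃
    rwa [IsLocalization.AtPrime.ringKrullDim_eq_height P.asIdeal]
  refine ⟨h₃, hh3', ?_⟩
  rw [Excellent.CatenaryDim.ringKrullDim_quotient_eq_coheight A'] at he₃
  have hco : Order.coheight A' = (e₃ : ℕ∞) := WithBot.coe_injective he₃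
  obtain ⟨s, hs1, hs2⟩ := Order.exists_series_of_coheight_eq_coe A' hco
  let f : PrimeSpectrum (Localization.AtPrime P₁.asIdeal) → PrimeSpectrum R := fun z => (Φ z).1
  have hf : StrictMono f := fun x y h => Φ.strictMono h
  have hfA : f A' = P := congrArg Subtype.val (Φ.apply_symm_apply ⟨P, hcov.le⟩)
  have hle : e₃ ≤ 1 := by
    by_contra hc
    have h01 : s.head < s ⟨1, by omega⟩ :=
      s.strictMono (show (0 : Fin (s.length + 1)) < ⟨1, by omega⟩ by simp [Fin.lt_def])
    have h12 : s ⟨1, by omega⟩ < s ⟨2, by omega⟩ :=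
      s.strictMono (show (⟨1, by omega⟩ : Fin (s.length + 1)) < ⟨2, by omega⟩ by simp [Fin.lt_def])
    have h1 := hf h01
    rw [hs1, hfA] at h1
    exact hcov.2 h1 ((hf h12).trans_le (Φ (s ⟨2, by omega⟩)).2)
  have hge : 1 ≤ e₃ := by
    let top := Φ.symm ⟨P₁, le_refl P₁⟩
    have hlt : A' < top := Φ.symm.strictMono (Subtype.mk_lt_mk.2 hcov.lt)
    by_contra hc
    have h0 : Order.coheight A' = 0 := by rw [hco, show e₃ = 0 by omega, Nat.cast_zero]
    exact hlt.not_ge ((Order.coheight_eq_zero.1 h0) hlt.le)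
  omega

/-- A chain of covering primes down from a point realizing the relative codimension. -/
theorem exists_covBy {A : Type u} [CommRing A] {p q : PrimeSpectrum A} (hpq : p ≤ q) {c : ℕ}
    (hc : Order.height (⟨q, hpq⟩ : Set.Ici p) = ((c + 1 : ℕ) : ℕ∞)) :
    ∃ p₁ : PrimeSpectrum A, ∃ h₁ : p₁ ≤ q, p ⋖ p₁ ∧
      Order.height (⟨q, h₁⟩ : Set.Ici p₁) = (c : ℕ∞) ∧
      ∀ z (_ : p₁ ≤ z) (h : p ≤ z), z ≤ q → z < q →
        Order.height (⟨z, h⟩ : Set.Ici p) < ((c + 1 : ℕ) : ℕ∞) := by
  obtain ⟨s, hs1, hs2⟩ := Order.exists_series_of_height_eq_coe _ hc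
  have hhead : s.head.1 = p := by
    by_contra hne
    have hlt : (⟨p, le_refl p⟩ : Set.Ici p) < s.head := lt_of_le_of_ne s.head.2 (Ne.symm (fun e => hne (congrArg Subtype.val e)))
    have := Order.length_le_height (p := s.cons ⟨p, le_refl p⟩ hlt) (x := (⟨q, hpq⟩ : Set.Ici p))
      (by rw [RelSeries.last_cons, hs1])
    rw [hc, RelSeries.cons_length, hs2] at this
    have : c + 1 + 1 ≤ c + 1 := by exact_mod_cast this
    omega
  let t := s.tail (by omega)
  set p₁ : PrimeSpectrum A := (s ⟨1, by omega⟩).1 with hp₁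
  have hp1 : p < p₁ := by
    have := s.strictMono (show (0 : Fin (s.length + 1)) < ⟨1, by omega⟩ by simp [Fin.lt_def])
    rwa [← hhead]
  have h₁ : p₁ ≤ q := by
    have := s.monotone (Fin.le_last (⟨1, by omega⟩ : Fin (s.length + 1)))
    rw [show s (Fin.last s.length) = s.last from rfl, hs1] at this
    exact this
  have hup : ∀ (z : PrimeSpectrum A) (hz : p₁ ≤ z) (h : p ≤ z) (r : LTSeries (Set.Ici p₁)),
      r.last.1 ≤ z → ((r.length + 1 : ℕ) : ℕ∞) ≤ Order.height (⟨z, h⟩ : Set.Ici p) := by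
    intro z hz h r hr
    let r' : LTSeries (Set.Ici p) := r.map (fun y => ⟨y.1, hp1.le.trans y.2⟩) fun _ _ h => h
    have hlt : (⟨p, le_refl p⟩ : Set.Ici p) < r'.head := hp1.trans_le r.head.2
    have := Order.length_le_height (p := r'.cons _ hlt) (x := (⟨z, h⟩ : Set.Ici p))
      (by rw [RelSeries.last_cons]; exact hr)
    rw [RelSeries.cons_length] at this
    exact this
  have hh1 : Order.height (⟨q, h₁⟩ : Set.Ici p₁) = (c : ℕ∞) := by
    refine le_antisymm (Order.height_le fun r hr => ?_) ?_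
    · have := hup q h₁ hpq r (by rw [hr])
      rw [hc] at this
      have : r.length + 1 ≤ c + 1 := by exact_mod_cast this
      exact_mod_cast (show r.length ≤ c by omega)
    · let r : LTSeries (Set.Ici p₁) :=
        ⟨c, fun j => ⟨(s ⟨j.1 + 1, by omega⟩).1, s.monotone (by simp [Fin.le_def])⟩,
          fun j => s.strictMono (by simp [Fin.lt_def])⟩
      have := Order.length_le_height (p := r) (x := (⟨q, h₁⟩ : Set.Ici p₁)) (by
        show (s ⟨c + 1, by omega⟩).1 ≤ q
        have := s.monotone (Fin.le_last (⟨c + 1, by omega⟩ : Fin (s.length + 1)))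
        rw [show s (Fin.last s.length) = s.last from rfl, hs1] at this
        exact this)
      exact this
  refine ⟨p₁, h₁, ⟨hp1, fun z hz1 hz2 => ?_⟩, hh1, fun z _ h _ hlt => ?_⟩
  · obtain ⟨r, hr1, hr2⟩ := Order.exists_series_of_height_eq_coe _ hh1
    let r' : LTSeries (Set.Ici p) := r.map (fun y => ⟨y.1, hp1.le.trans y.2⟩) fun _ _ h => h
    have hlz : (⟨z, hz1.le⟩ : Set.Ici p) < r'.head := hz2.trans_le r.head.2
    have := Order.length_le_height
      (p := (r'.cons _ hlz).cons ⟨p, le_refl p⟩ (by rw [RelSeries.head_cons]; exact hz1))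
      (x := (⟨q, hpq⟩ : Set.Ici p)) (by
        rw [RelSeries.last_cons, RelSeries.last_cons]
        show r.last.1 ≤ q
        rw [hr1])
    rw [hc, RelSeries.cons_length, RelSeries.cons_length, show r'.length = c from hr2] at this
    have : c + 1 + 1 ≤ c + 1 := by exact_mod_cast this
    omega
  · rw [← hc]
    exact Order.height_strictMono (show (⟨z, h⟩ : Set.Ici p) < ⟨q, hpq⟩ from hlt) (by
      refine lt_of_le_of_lt (Order.height_mono (show (⟨z, h⟩ : Set.Ici p) ≤ ⟨q, hpq⟩ from hlt.le)) ?_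
      rw [hc]
      exact ENat.natCast_lt_top _)

end Order

variable {R A : Type u} [CommRing R] [IsRegularRing R] [CommRing A] [IsNoetherianRing A] [Algebra R A]
  (hπ : Function.Surjective (algebraMap R A)) (M : Type u) [AddCommGroup M] [Module A M]
  [Module.Finite A M]

include hπ

/-- Nonvanishing goes up along covering primes. -/
theorem nontrivial_of_covBy {p p₁ : PrimeSpectrum A} (hcov : p ⋖ p₁) {j : ℕ}
    (h : ¬ Subsingleton (LocCoh.H (maximalIdeal (Localization.AtPrime p.asIdeal)) j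
      (LocalizedModule p.asIdeal.primeCompl M))) :
    ¬ Subsingleton (LocCoh.H (maximalIdeal (Localization.AtPrime p₁.asIdeal)) (j + 1)
      (LocalizedModule p₁.asIdeal.primeCompl M)) := by
  intro hsub
  letI : Module R M := Module.compHom M (algebraMap R A)
  haveI : IsScalarTower R A M := IsScalarTower.of_algebraMap_smul fun _ _ => rfl
  haveI : Module.Finite R A := Module.Finite.of_surjective (Algebra.linearMap R A) hπ
  haveI : Module.Finite R M := Module.Finite.trans A M
  let P := PrimeSpectrum.comap (algebraMap R A) p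
  let P₁ := PrimeSpectrum.comap (algebraMap R A) p₁
  have hinj : ∀ z w : PrimeSpectrum A, (PrimeSpectrum.comap (algebraMap R A) z ≤
      PrimeSpectrum.comap (algebraMap R A) w) ↔ z ≤ w := fun z w =>
    Ideal.comap_le_comap_iff_of_surjective _ hπ _ _
  have hcovP : P ⋖ P₁ := by
    refine ⟨lt_of_le_not_ge ((hinj _ _).2 hcov.le) fun h' => hcov.lt.not_ge ((hinj _ _).1 h'),
      fun Z hZ1 hZ2 => ?_⟩
    have hker : RingHom.ker (algebraMap R A) ≤ Z.asIdeal :=
      le_trans (fun r hr => by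
        show algebraMap R A r ∈ p.asIdeal
        rw [RingHom.mem_ker.1 hr]; exact zero_mem _) hZ1.le
    have hprime : (Z.asIdeal.map (algebraMap R A)).IsPrime := Ideal.map_isPrime_of_surjective hπ hker
    obtain ⟨z, hz⟩ : ∃ z : PrimeSpectrum A, PrimeSpectrum.comap (algebraMap R A) z = Z :=
      ⟨⟨_, hprime⟩, PrimeSpectrum.ext (by
        show (Z.asIdeal.map (algebraMap R A)).comap (algebraMap R A) = Z.asIdeal
        rw [Ideal.comap_map_of_surjective _ hπ]
        exact sup_eq_left.2 hker)⟩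
    subst hz
    refine hcov.2 (lt_of_le_not_ge ((hinj _ _).1 hZ1.le) fun h' => ?_)
      (lt_of_le_not_ge ((hinj _ _).1 hZ2.le) fun h' => ?_)
    · exact hZ1.not_ge ((hinj _ _).2 h')
    · exact hZ2.not_ge ((hinj _ _).2 h')
  have := IsRegularRing.isRegularLocalRing_localization (R := R) P₁.asIdeal
  have := IsRegularRing.isRegularLocalRing_localization (R := R) P.asIdeal
  have := Goren.Basic.isGorensteinLocalRing_of_isRegular (Localization.AtPrime P₁.asIdeal)
  have := Goren.Basic.isGorensteinLocalRing_of_isRegular (Localization.AtPrime P.asIdeal)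
  have : LocCoh.IsCohenMacaulayLocalRing (Localization.AtPrime P₁.asIdeal) := Annihilator.isCohenMacaulay
  obtain ⟨h₁, hh₁⟩ := Depth.CM.supportDim_eq_nat (R := Localization.AtPrime P₁.asIdeal)
    (Localization.AtPrime P₁.asIdeal)
  rw [Module.supportDim_self_eq_ringKrullDim] at hh₁
  obtain ⟨h₀, hh₀, hsum⟩ := height_eq_add_one P P₁ hcovP hh₁
  apply h
  obtain ⟨ε⟩ := Annihilator.nonempty_localized_H_addEquiv hπ M p.asIdeal j
  suffices hP : Subsingleton (LocCoh.H (maximalIdeal (Localization.AtPrime P.asIdeal)) j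
      (LocalizedModule P.asIdeal.primeCompl M)) from @Equiv.subsingleton _ _ ε.symm.toEquiv hP
  rcases le_or_gt j h₀ with hj | hj
  swap
  · refine lc_subsingleton_of_supportDim_lt j _ _ _
      ((Module.supportDim_le_ringKrullDim _ _).trans_lt ?_)
    rw [hh₀]
    exact_mod_cast hj
  have key : ∀ (Q : PrimeSpectrum R) (hQ : LocCoh.IsGorensteinLocalRing (Localization.AtPrime Q.asIdeal))
      (hd : ℕ), ringKrullDim (Localization.AtPrime Q.asIdeal) = hd →
      (Q ∉ Module.support R (Abelian.Ext (ModuleCat.of R M) (ModuleCat.of R R) (h₀ - j)) ↔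
        ∀ i : ℕ, i + (h₀ - j) = hd → Subsingleton (LocCoh.H
          (maximalIdeal (Localization.AtPrime Q.asIdeal)) i (LocalizedModule Q.asIdeal.primeCompl M))) := by
    intro Q hQ hd hh
    have hR : ModuleCat.of (Localization Q.asIdeal.primeCompl) (LocalizedModule Q.asIdeal.primeCompl R) =
        ModuleCat.of (Localization.AtPrime Q.asIdeal) (Localization.AtPrime Q.asIdeal) := rfl
    obtain ⟨e⟩ := ExtLoc.nonempty_equiv Q.asIdeal.primeCompl R (h₀ - j) M
    rw [Module.notMem_support_iff, e.toEquiv.subsingleton_congr, hR,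
      Annihilator.subsingleton_ext_iff hh (LocalizedModule Q.asIdeal.primeCompl M) (h₀ - j)]
  have h1 : P₁ ∉ Module.support R (Abelian.Ext (ModuleCat.of R M) (ModuleCat.of R R) (h₀ - j)) := by
    rw [key P₁ inferInstance h₁ hh₁]
    intro i hi
    obtain rfl : i = j + 1 := by omega
    obtain ⟨ε₁⟩ := Annihilator.nonempty_localized_H_addEquiv hπ M p₁.asIdeal (j + 1)
    exact ε₁.toEquiv.subsingleton
  exact (key P inferInstance h₀ hh₀).1 (fun hmem => h1 (Module.mem_support_mono hcovP.le hmem)) j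
    (by omega)

/-- Nonvanishing reaches relative codimension one. -/
theorem exists_codim_one (I : Ideal A) {p : PrimeSpectrum A} (hp : ¬ I ≤ p.asIdeal) {c j : ℕ}
    (hc : SGA2.relCodim I p = c)
    (h : ¬ Subsingleton (LocCoh.H (maximalIdeal (Localization.AtPrime p.asIdeal)) j
      (LocalizedModule p.asIdeal.primeCompl M))) :
    ∃ p' : PrimeSpectrum A, ¬ I ≤ p'.asIdeal ∧ SGA2.relCodim I p' = 1 ∧ ∃ j' : ℕ, j' + 1 = j + c ∧
      ¬ Subsingleton (LocCoh.H (maximalIdeal (Localization.AtPrime p'.asIdeal)) j'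
        (LocalizedModule p'.asIdeal.primeCompl M)) := by
  have hne : Nonempty {q : PrimeSpectrum A // p ≤ q ∧ I ≤ q.asIdeal} := by
    by_contra hc'
    rw [not_nonempty_iff] at hc'
    rw [SGA2.relCodim, iInf_of_empty] at hc
    exact ENat.natCast_ne_top c hc.symm
  obtain ⟨⟨q, hpq, hIq⟩, hq⟩ := ENat.exists_eq_iInf
    (fun q : {q : PrimeSpectrum A // p ≤ q ∧ I ≤ q.asIdeal} => Order.height (⟨q.1, q.2.1⟩ : Set.Ici p))
  have hhq : Order.height (⟨q, hpq⟩ : Set.Ici p) = (c : ℕ∞) := hq.trans hc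
  -- nothing strictly below `q` contains `I`
  have hbelow : ∀ z, p ≤ z → z < q → ¬ I ≤ z.asIdeal := by
    intro z hz hlt hIz
    have h1 : (c : ℕ∞) ≤ Order.height (⟨z, hz⟩ : Set.Ici p) := by
      rw [← hc]
      exact iInf_le (fun q : {q : PrimeSpectrum A // p ≤ q ∧ I ≤ q.asIdeal} =>
        Order.height (⟨q.1, q.2.1⟩ : Set.Ici p)) ⟨z, hz, hIz⟩
    have h2 := Order.height_strictMono (show (⟨z, hz⟩ : Set.Ici p) < ⟨q, hpq⟩ from hlt) (by
      refine lt_of_le_of_lt (Order.height_mono (show (⟨z, hz⟩ : Set.Ici p) ≤ ⟨q, hpq⟩ from hlt.le)) ?_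
      rw [hhq]
      exact ENat.natCast_lt_top _)
    rw [hhq] at h2
    exact h1.not_gt h2
  clear hq hc hne
  induction c generalizing p j with
  | zero =>
    rw [Nat.cast_zero, Order.height_eq_zero] at hhq
    have hle : q ≤ p := hhq (show (⟨p, le_refl p⟩ : Set.Ici p) ≤ ⟨q, hpq⟩ from hpq)
    exact absurd (hIq.trans hle) hp
  | succ c ih =>
    obtain ⟨p₁, h₁, hcov, hh1, -⟩ := exists_covBy hpq hhq
    rcases Nat.eq_zero_or_pos c with rfl | hc0
    · have hq1 : p₁ = q := by
        rw [Nat.cast_zero, Order.height_eq_zero] at hh1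
        exact le_antisymm h₁ (hh1 (show (⟨p₁, le_refl p₁⟩ : Set.Ici p₁) ≤ ⟨q, h₁⟩ from h₁))
      refine ⟨p, hp, le_antisymm ?_ ?_, j, rfl, h⟩
      · exact (iInf_le (fun q : {q : PrimeSpectrum A // p ≤ q ∧ I ≤ q.asIdeal} =>
          Order.height (⟨q.1, q.2.1⟩ : Set.Ici p)) ⟨q, hpq, hIq⟩).trans_eq (by simpa using hhq)
      · refine le_iInf fun z => Order.one_le_iff_ne_zero.2 fun h0 => ?_
        rw [Order.height_eq_zero] at h0
        exact hp (z.2.2.trans (h0 (show (⟨p, le_refl p⟩ : Set.Ici p) ≤ ⟨z.1, z.2.1⟩ from z.2.1)))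
    have hlt : p₁ < q := by
      refine lt_of_le_of_ne h₁ ?_
      rintro rfl
      have : Order.height (⟨p₁, h₁⟩ : Set.Ici p₁) = 0 := Order.height_eq_zero.2 fun b _ => b.2
      rw [hh1] at this
      have : c = 0 := by exact_mod_cast this
      omega
    obtain ⟨p', h', hr, j', hj', hH⟩ := ih (p := p₁) (j := j + 1) (hbelow p₁ hcov.le hlt)
      (nontrivial_of_covBy hπ M hcov h) h₁ hh1 (fun z hz hzq => hbelow z (hcov.le.trans hz) hzq)
    exact ⟨p', h', hr, j', by omega, hH⟩

end Groth.Agent.Lib.LCFin.RelCodim
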