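import Groth.Agent.Lib.LCFin.Artinian
import Groth.Agent.Lib.Depth.Assoc
import Mathlib.RingTheory.Localization.Finiteness

/-!
Finiteness of local cohomology in low degrees.
-/

universe u

open CategoryTheory Pointwise
open Groth.Agent.Lib.LocalCoh Groth.Agent.Lib.LCFin.Seq Groth.Agent.Lib.LCFin.Cd

namespace Groth.Agent.Lib.LCFin.Faltings

variable {R : Type u} [CommRing R] [IsNoetherianRing R]

theorem finite_H_zero (I : Ideal R) (M : Type u) [AddCommGroup M] [Module R M] [Module.Finite R M] :
    Module.Finite R (LocCoh.H I 0 M) :=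
  have : Module.Finite R ((DRing.gammaI I).obj (ModuleCat.of R M)) :=
    inferInstanceAs (Module.Finite R (DRing.torsionSub I M))
  Module.Finite.equiv ((lcZeroIso I).app (ModuleCat.of R M)).toLinearEquiv.symm

omit [IsNoetherianRing R] in
lemma exact_lsmul_mkQ (M : Type u) [AddCommGroup M] [Module R M] (x : R) :
    Function.Exact (LinearMap.lsmul R M x) (x • (⊤ : Submodule R M)).mkQ := by
  intro z
  rw [Submodule.mkQ_apply, Submodule.Quotient.mk_eq_zero, Submodule.mem_smul_pointwise_iff_exists]
  simp

/-- Higher local cohomology ignores torsion. -/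
theorem exists_equiv_quotient (I : Ideal R) (M : Type u) [AddCommGroup M] [Module R M] (i : ℕ) :
    Nonempty (LocCoh.H I (i + 1) M ≃ₗ[R] LocCoh.H I (i + 1) (M ⧸ DRing.torsionSub I M)) := by
  let T := DRing.torsionSub I M
  have h1 : Subsingleton (LocCoh.H I (i + 1) T) :=
    lc_subsingleton_of_isPowerTorsion I i (ModuleCat.of R T) (isPowerTorsion_torsionSub I M)
  have h2 : Subsingleton (LocCoh.H I (i + 1 + 1) T) :=
    lc_subsingleton_of_isPowerTorsion I _ (ModuleCat.of R T) (isPowerTorsion_torsionSub I M)
  refine ⟨LinearEquiv.ofBijective (Hmap I (i + 1) T.mkQ) ⟨?_, fun z => ?_⟩⟩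
  · rw [← LinearMap.ker_eq_bot, Submodule.eq_bot_iff]
    intro z hz
    obtain ⟨w, rfl⟩ := (exact_map_map I T.injective_subtype T.mkQ_surjective
      (LinearMap.exact_subtype_mkQ T) (i + 1) z).1 hz
    rw [h1.elim w 0, map_zero]
  · exact (exact_map_δ I T.injective_subtype T.mkQ_surjective
      (LinearMap.exact_subtype_mkQ T) (i + 1) z).1 (h2.elim _ _)

/-- A regular element of an ideal whose radical contains `I`, on a torsion free module. -/
theorem exists_regular (I J : Ideal R) (hIJ : I ≤ J.radical) (M : Type u) [AddCommGroup M]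
    [Module R M] [Module.Finite R M] (hM : DRing.torsionSub I M = ⊥) :
    ∃ x ∈ J, IsSMulRegular M x := by
  rw [Depth.Assoc.exists_isSMulRegular_iff]
  intro p hp hle
  obtain ⟨hpp, m, hm⟩ := isAssociatedPrime_iff.mp hp
  have hIp : I ≤ p := hIJ.trans (hpp.radical_le_iff.2 hle)
  have hm0 : m = 0 := (Submodule.eq_bot_iff _).1 hM m ⟨1, fun a ha => by
    have := hIp (by simpa using ha)
    rw [hm, Submodule.mem_colon_singleton] at this
    simpa using this⟩
  refine hpp.ne_top ((Ideal.eq_top_iff_one _).mpr ?_)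
  rw [hm, hm0, Submodule.mem_colon_singleton]; simp

/-- Faltings: local cohomology is finite up to degree `n` when it is annihilated up to degree `n`. -/
theorem finite_of_annihilated (I : Ideal R) : ∀ (n : ℕ) (M : Type u) [AddCommGroup M] [Module R M]
    [Module.Finite R M] (J : Ideal R), I ≤ J.radical →
    (∀ i ≤ n, ∀ a ∈ J, ∀ x : LocCoh.H I i M, a • x = 0) →
    ∀ i ≤ n, Module.Finite R (LocCoh.H I i M) := by
  intro n
  induction n with
  | zero =>
    intro M _ _ _ J _ _ i hi
    obtain rfl : i = 0 := by omega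
    exact finite_H_zero I M
  | succ n ih =>
    intro M₀ _ _ _ J₀ hJ₀ hann₀ i hi
    rcases Nat.eq_zero_or_pos i with rfl | hpos
    · exact finite_H_zero I M₀
    obtain ⟨l, rfl⟩ : ∃ l, i = l + 1 := ⟨i - 1, by omega⟩
    obtain ⟨e⟩ := exists_equiv_quotient I M₀ l
    suffices Module.Finite R (LocCoh.H I (l + 1) (M₀ ⧸ DRing.torsionSub I M₀)) from
      Module.Finite.equiv e.symm
    let M := M₀ ⧸ DRing.torsionSub I M₀
    have hann : ∀ j ≤ n + 1, ∀ a ∈ J₀, ∀ x : LocCoh.H I j M, a • x = 0 := by
      intro j hj a ha x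
      rcases Nat.eq_zero_or_pos j with rfl | hjpos
      · exact ((subsingleton_H_zero_iff I M).2 (torsionSub_quotient_eq_bot I M₀)).elim _ _
      obtain ⟨l', rfl⟩ : ∃ l', j = l' + 1 := ⟨j - 1, by omega⟩
      obtain ⟨e'⟩ := exists_equiv_quotient I M₀ l'
      rw [← e'.apply_symm_apply x, ← map_smul, hann₀ _ hj a ha, map_zero]
    obtain ⟨x, hx, hreg⟩ := exists_regular I (J₀ ⊓ I) (by
      rw [Ideal.radical_inf]; exact le_inf hJ₀ Ideal.le_radical) M (torsionSub_quotient_eq_bot I M₀)
    let f := LinearMap.lsmul R M x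
    have hg := Submodule.mkQ_surjective (x • (⊤ : Submodule R M))
    have hQ : ∀ j ≤ n, ∀ a ∈ J₀ * J₀, ∀ z : LocCoh.H I j (QuotSMulTop x M), a • z = 0 := by
      intro j hj a ha z
      refine Submodule.mul_induction_on ha (fun c hc d hd => ?_) fun a b ha hb => by
        rw [add_smul, ha, hb, add_zero]
      have hd0 : Seq.δ I (f := f) (g := Submodule.mkQ _) hreg hg (exact_lsmul_mkQ M x) j (d • z) = 0 := by
        rw [map_smul]; exact hann (j + 1) (by omega) d hd _
      obtain ⟨y, hy⟩ := (exact_map_δ I (f := f) (g := Submodule.mkQ _) hreg hg (exact_lsmul_mkQ M x) j _).1 hd0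
      rw [mul_smul, ← hy, ← map_smul, hann j (by omega) c hc y, map_zero]
    have := ih (QuotSMulTop x M) (J₀ * J₀)
      (by rw [Ideal.radical_mul, inf_idem]; exact hJ₀) hQ l (by omega)
    refine Module.Finite.of_surjective
      (Seq.δ I (f := f) (g := Submodule.mkQ _) hreg hg (exact_lsmul_mkQ M x) l) fun z => ?_
    refine (exact_δ_map I (f := f) (g := Submodule.mkQ _) hreg hg (exact_lsmul_mkQ M x) l z).1 ?_
    exact (Hmap_lsmul I (l + 1) x z).trans (hann (l + 1) hi x hx.1 z)

theorem exists_annihilating (I : Ideal R) (M : Type u) [AddCommGroup M] [Module R M] (n : ℕ)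
    (h : ∀ i ≤ n, Module.Finite R (LocCoh.H I i M)) :
    ∃ k : ℕ, ∀ i ≤ n, ∀ a ∈ I ^ k, ∀ x : LocCoh.H I i M, a • x = 0 := by
  classical
  have : ∀ i, ∃ k : ℕ, i ≤ n → ∀ a ∈ I ^ k, ∀ x : LocCoh.H I i M, a • x = 0 := fun i => by
    by_cases hi : i ≤ n
    · have := h i hi
      obtain ⟨k, hk⟩ := exists_pow_smul_eq_zero I
        (LinearMap.id : LocCoh.H I i M →ₗ[R] LocCoh.H I i M) fun z => isPowerTorsion_lc I i _ z
      exact ⟨k, fun _ a ha x => hk a ha x⟩
    · exact ⟨0, fun h' => absurd h' hi⟩
  choose k hk using this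
  exact ⟨(Finset.range (n + 1)).sup k, fun i hi a ha => hk i hi a
    (Ideal.pow_le_pow_right (Finset.le_sup (f := k) (Finset.mem_range.2 (by omega))) ha)⟩

/-- Finiteness of a power torsion module with finite torsion layers is local. -/
theorem finite_of_locally {X : Type u} [AddCommGroup X] [Module R X] (x : R)
    (htor : ∀ z : X, ∃ k : ℕ, x ^ k • z = 0)
    (hker : Module.Finite R (LinearMap.ker (LinearMap.lsmul R X x)))
    (hloc : ∀ (p : Ideal R) [p.IsPrime],
      Module.Finite (Localization.AtPrime p) (LocalizedModule p.primeCompl X)) :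
    Module.Finite R X := by
  classical
  let K : ℕ → Submodule R X := fun k => LinearMap.ker (LinearMap.lsmul R X (x ^ k))
  have hmem : ∀ k z, z ∈ K k ↔ x ^ k • z = 0 := fun k z => LinearMap.mem_ker
  let N : ℕ → Submodule R X := fun k => (K (k + 1)).map (LinearMap.lsmul R X (x ^ k))
  have hN : ∀ k, N k ≤ LinearMap.ker (LinearMap.lsmul R X x) := by
    rintro k _ ⟨z, hz, rfl⟩
    show x • x ^ k • z = 0
    rw [← mul_smul, ← pow_succ']
    exact hz
  have hmono : ∀ k, N (k + 1) ≤ N k := by
    rintro k _ ⟨z, hz, rfl⟩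
    refine ⟨x • z, ?_, ?_⟩
    · show x ^ (k + 1) • x • z = 0
      rw [← mul_smul, ← pow_succ]; exact hz
    · show x ^ k • x • z = x ^ (k + 1) • z
      rw [← mul_smul, ← pow_succ]
  obtain ⟨m, hm⟩ := monotone_stabilizes_iff_noetherian.2 (inferInstance : IsNoetherian R R)
    ⟨fun k => (N k).annihilator, monotone_nat_of_le_succ fun k => Submodule.annihilator_mono (hmono k)⟩
  have htop : (N m).annihilator = ⊤ := by
    by_contra hne
    obtain ⟨p, hp, hle⟩ := Ideal.exists_le_maximal _ hne
    have := hp.isPrime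
    obtain ⟨G, hG⟩ := (hloc p).fg_top
    -- a uniform exponent at `p`
    have : ∃ k : ℕ, ∀ z : X, ∃ t ∉ p, t • x ^ k • z = 0 := by
      let mk := LocalizedModule.mkLinearMap p.primeCompl X
      have hg : ∀ g : LocalizedModule p.primeCompl X, ∃ k : ℕ, x ^ k • g = 0 := fun g => by
        induction g using LocalizedModule.induction_on with
        | h z s =>
          obtain ⟨k, hk⟩ := htor z
          exact ⟨k, by rw [LocalizedModule.smul'_mk, hk, LocalizedModule.zero_mk]⟩
      choose k hk using hg
      refine ⟨G.sup k, fun z => ?_⟩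
      have hz : ∀ g ∈ Submodule.span (Localization.AtPrime p) (G : Set (LocalizedModule p.primeCompl X)),
          x ^ G.sup k • g = 0 := fun g hg => by
        induction hg using Submodule.span_induction with
        | mem g hg =>
          obtain ⟨c, hc⟩ := Nat.exists_eq_add_of_le (Finset.le_sup (f := k) hg)
          rw [hc, pow_add, mul_comm, mul_smul, hk, smul_zero]
        | zero => rw [smul_zero]
        | add a b _ _ ha hb => rw [smul_add, ha, hb, add_zero]
        | smul r g _ hg => rw [smul_comm, hg, smul_zero]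
      have h0 : mk (x ^ G.sup k • z) = 0 := by
        rw [map_smul]; exact hz _ (hG ▸ Submodule.mem_top)
      obtain ⟨t, ht⟩ := (IsLocalizedModule.eq_zero_iff p.primeCompl mk).1 h0
      exact ⟨t.1, t.2, ht⟩
    obtain ⟨k, hk⟩ := this
    have hfg : (N (max m k)).FG := by
      have : (N (max m k)).comap (LinearMap.ker (LinearMap.lsmul R X x)).subtype |>.FG :=
        IsNoetherian.noetherian _
      have := this.map (LinearMap.ker (LinearMap.lsmul R X x)).subtype
      rwa [Submodule.map_comap_subtype, inf_eq_right.2 (hN _)] at this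
    obtain ⟨s, hs⟩ := hfg
    have hs' : ∀ g ∈ s, ∃ t ∉ p, t • g = 0 := fun g hg => by
      obtain ⟨z, -, rfl⟩ : g ∈ N (max m k) := hs ▸ Submodule.subset_span hg
      obtain ⟨t, htp, ht⟩ := hk z
      refine ⟨t, htp, ?_⟩
      obtain ⟨c, hc⟩ := Nat.exists_eq_add_of_le (le_max_right m k)
      show t • x ^ (max m k) • z = 0
      rw [hc, pow_add, mul_comm, mul_smul, smul_comm t, ht, smul_zero]
    choose! t htp ht using hs'
    have hprod : ∏ g ∈ s, t g ∈ (N (max m k)).annihilator := by
      rw [Submodule.mem_annihilator, ← hs]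
      intro n hn
      induction hn using Submodule.span_induction with
      | mem g hg =>
        rw [← Finset.mul_prod_erase s t hg, mul_comm, mul_smul, ht g hg, smul_zero]
      | zero => rw [smul_zero]
      | add a b _ _ ha hb => rw [smul_add, ha, hb, add_zero]
      | smul r g _ hg => rw [smul_comm, hg, smul_zero]
    have h2 : ∏ g ∈ s, t g ∈ p := hle (by
      have heq : (N m).annihilator = (N (max m k)).annihilator := hm (max m k) (le_max_left m k)
      rw [heq]; exact hprod)
    obtain ⟨g, hg, hgp⟩ := (‹p.IsPrime›.prod_mem_iff).1 h2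
    exact htp g hg hgp
  -- everything is killed by `x ^ m`
  have hstab : ∀ j, K (m + j) ≤ K m := by
    intro j
    induction j with
    | zero => exact le_rfl
    | succ j ihj =>
      intro z hz
      refine ihj ((hmem _ _).2 ?_)
      have hmem' : x ^ (m + j) • z ∈ N (m + j) := ⟨z, hz, rfl⟩
      have h1 : N (m + j) ≤ N m := antitone_nat_of_succ_le hmono (Nat.le_add_right m j)
      simpa using Submodule.mem_annihilator.1 (htop ▸ Submodule.mem_top : (1 : R) ∈ (N m).annihilator) _ (h1 hmem')
  have hall : K m = ⊤ := eq_top_iff.2 fun z _ => by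
    obtain ⟨k, hk⟩ := htor z
    refine hstab k ((hmem _ _).2 ?_)
    rw [pow_add, mul_smul, hk, smul_zero]
  have hfin : ∀ k, (K k).FG := by
    intro k
    induction k with
    | zero =>
      have : K 0 = ⊥ := (Submodule.eq_bot_iff _).2 fun z hz => by simpa [K] using hz
      rw [this]; exact Submodule.fg_bot
    | succ k ihk =>
      refine Submodule.fg_of_fg_map_of_fg_inf_ker (LinearMap.lsmul R X (x ^ k)) ?_ ?_
      · have : ((N k).comap (LinearMap.ker (LinearMap.lsmul R X x)).subtype).FG :=
          IsNoetherian.noetherian _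
        have := this.map (LinearMap.ker (LinearMap.lsmul R X x)).subtype
        rwa [Submodule.map_comap_subtype, inf_eq_right.2 (hN _)] at this
      · rwa [inf_eq_right.2 (show K k ≤ K (k + 1) from fun z hz => (hmem _ _).2 (by
          rw [pow_succ', mul_smul, (hmem _ _).1 hz, smul_zero]))]
  exact ⟨hall ▸ hfin m⟩

/-- Finiteness of local cohomology in low degrees is a local question. -/
theorem finite_of_localized (I : Ideal R) : ∀ (n : ℕ) (M : Type u) [AddCommGroup M] [Module R M]
    [Module.Finite R M],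
    (∀ (p : Ideal R) [p.IsPrime], ∀ i ≤ n,
      Module.Finite (Localization.AtPrime p) (LocalizedModule p.primeCompl (LocCoh.H I i M))) →
    ∀ i ≤ n, Module.Finite R (LocCoh.H I i M) := by
  intro n
  induction n with
  | zero =>
    intro M _ _ _ _ i hi
    obtain rfl : i = 0 := by omega
    exact finite_H_zero I M
  | succ n ih =>
    intro M₀ _ _ _ hloc₀ i hi
    rcases Nat.eq_zero_or_pos i with rfl | hpos
    · exact finite_H_zero I M₀
    obtain ⟨l, rfl⟩ : ∃ l, i = l + 1 := ⟨i - 1, by omega⟩
    obtain ⟨e⟩ := exists_equiv_quotient I M₀ l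
    suffices Module.Finite R (LocCoh.H I (l + 1) (M₀ ⧸ DRing.torsionSub I M₀)) from
      Module.Finite.equiv e.symm
    let M := M₀ ⧸ DRing.torsionSub I M₀
    have hloc : ∀ (p : Ideal R) [p.IsPrime], ∀ j ≤ n + 1,
        Module.Finite (Localization.AtPrime p) (LocalizedModule p.primeCompl (LocCoh.H I j M)) := by
      intro p _ j hj
      rcases Nat.eq_zero_or_pos j with rfl | hjpos
      · have := finite_H_zero I M
        exact Module.Finite.of_isLocalizedModule p.primeCompl
          (LocalizedModule.mkLinearMap p.primeCompl _)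
      obtain ⟨l', rfl⟩ : ∃ l', j = l' + 1 := ⟨j - 1, by omega⟩
      obtain ⟨e'⟩ := exists_equiv_quotient I M₀ l'
      have := hloc₀ p (l' + 1) hj
      exact Module.Finite.equiv (IsLocalizedModule.mapEquiv p.primeCompl
        (LocalizedModule.mkLinearMap p.primeCompl (LocCoh.H I (l' + 1) M₀))
        (LocalizedModule.mkLinearMap p.primeCompl (LocCoh.H I (l' + 1) M))
        (Localization.AtPrime p) e')
    obtain ⟨x, hx, hreg⟩ := exists_regular I I Ideal.le_radical M (torsionSub_quotient_eq_bot I M₀)
    let f := LinearMap.lsmul R M x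
    let g := (x • (⊤ : Submodule R M)).mkQ
    have hg : Function.Surjective g := Submodule.mkQ_surjective _
    have hex := exact_lsmul_mkQ M x
    have hQ : ∀ (p : Ideal R) [p.IsPrime], ∀ j ≤ n, Module.Finite (Localization.AtPrime p)
        (LocalizedModule p.primeCompl (LocCoh.H I j (QuotSMulTop x M))) := by
      intro p _ j hj
      have h1 := hloc p j (by omega)
      have h2 := hloc p (j + 1) (by omega)
      have hexl : Function.Exact (LocalizedModule.map p.primeCompl (Hmap I j g))
          (LocalizedModule.map p.primeCompl (Seq.δ I (f := f) (g := g) hreg hg hex j)) :=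
        LocalizedModule.map_exact p.primeCompl _ _ (exact_map_δ I (f := f) (g := g) hreg hg hex j)
      have : IsNoetherianRing (Localization.AtPrime p) :=
        IsLocalization.isNoetherianRing p.primeCompl _ inferInstance
      have := isNoetherian_of_range_eq_ker _ _ hexl.linearMap_ker_eq.symm
      infer_instance
    have := ih (QuotSMulTop x M) hQ l (by omega)
    refine finite_of_locally x (fun z => ?_) ?_ fun p _ => hloc p (l + 1) hi
    · obtain ⟨k, hk⟩ := isPowerTorsion_lc I (l + 1) (ModuleCat.of R M) z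
      exact ⟨k, hk _ (Ideal.pow_mem_pow hx k)⟩
    · let d := Seq.δ I (f := f) (g := g) hreg hg hex l
      have hker : LinearMap.range d = LinearMap.ker (LinearMap.lsmul R (LocCoh.H I (l + 1) M) x) := by
        ext z
        rw [LinearMap.mem_ker, LinearMap.lsmul_apply, ← Hmap_lsmul]
        exact (exact_δ_map I (f := f) (g := g) hreg hg hex l z).symm
      exact hker ▸ Module.Finite.range d

end Groth.Agent.Lib.LCFin.Faltings
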