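import Groth.Agent.S11653
import Groth.Agent.S11660
import Groth.Agent.S0329
import Groth.Agent.S5172
import Groth.Agent.Lib.LCFin.RelCodim
import Groth.Agent.Lib.LCFin.Catenary
import Groth.Agent.Lib.LocalCoh.HeightChain
import Groth.Agent.Lib.LocalCoh.LocDepth
import Groth.Agent.Lib.Depth.CM

/-!
Finiteness of local cohomology below a degree, in terms of depths at relative codimension one.
-/

universe u

open Groth.Agent.Lib.LocalCoh

namespace Groth.Agent.Lib.LCFin.FinitenessThm

section Order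

variable {A : Type u} [CommRing A]

/-- Primes of `A ⧸ p` are the primes above `p`. -/
noncomputable def quotIso (p : PrimeSpectrum A) : PrimeSpectrum (A ⧸ p.asIdeal) ≃o Set.Ici p where
  toFun P := ⟨PrimeSpectrum.comap (Ideal.Quotient.mk p.asIdeal) P,
    show p.asIdeal ≤ P.asIdeal.comap (Ideal.Quotient.mk p.asIdeal) from
      Ideal.mk_ker.ge.trans (Ideal.comap_mono bot_le)⟩
  invFun q := ⟨_, HeightChain.map_mk_isPrime (show p.asIdeal ≤ q.1.asIdeal from q.2)⟩
  left_inv P := PrimeSpectrum.ext (Ideal.map_comap_of_surjective _ Ideal.Quotient.mk_surjective _)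
  right_inv q := Subtype.ext (PrimeSpectrum.ext (HeightChain.comap_map_mk (show p.asIdeal ≤ q.1.asIdeal from q.2)))
  map_rel_iff' {P Q} := Ideal.comap_le_comap_iff_of_surjective _ Ideal.Quotient.mk_surjective _ _

theorem height_map_mk_eq (p q : PrimeSpectrum A) (h : p ≤ q) :
    (q.asIdeal.map (Ideal.Quotient.mk p.asIdeal)).height = Order.height (⟨q, h⟩ : Set.Ici p) := by
  rw [← Order.height_orderIso (quotIso p).symm ⟨q, h⟩]
  exact PrimeSpectrum.height_eq_orderHeight ((quotIso p).symm ⟨q, h⟩)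

theorem height_eq_relCodim (I : Ideal A) (p : PrimeSpectrum A) :
    ((I ⊔ p.asIdeal).map (Ideal.Quotient.mk p.asIdeal)).height = SGA2.relCodim I p := by
  refine le_antisymm (le_iInf fun ⟨q, hpq, hIq⟩ => ?_) ?_
  · exact (Ideal.height_mono (Ideal.map_mono (sup_le hIq hpq))).trans_eq (height_map_mk_eq p q hpq)
  · rw [Ideal.height_eq_inf_minimalPrimes]
    refine le_iInf₂ fun P hP => ?_
    have := hP.1.1
    let Q := quotIso p ⟨P, this⟩
    have hQ : I ⊔ p.asIdeal ≤ Q.1.asIdeal := Ideal.map_le_iff_le_comap.1 hP.1.2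
    refine (iInf_le (fun q : {q : PrimeSpectrum A // p ≤ q ∧ I ≤ q.asIdeal} =>
      Order.height (⟨q.1, q.2.1⟩ : Set.Ici p)) ⟨Q.1, Q.2, le_sup_left.trans hQ⟩).trans (le_of_eq ?_)
    rw [← Order.height_orderIso (quotIso p).symm ⟨Q.1, Q.2⟩]
    show Order.height ((quotIso p).symm (quotIso p ⟨P, this⟩)) = _
    rw [OrderIso.symm_apply_apply]
    exact (PrimeSpectrum.height_eq_orderHeight (⟨P, this⟩ : PrimeSpectrum (A ⧸ p.asIdeal))).symm

theorem adjDepth_eq (I : Ideal A) (M : Type u) [AddCommGroup M] [Module A M] (p : PrimeSpectrum A) :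
    LocCoh.adjDepth I M p = LocCoh.depth (Localization.AtPrime p.asIdeal)
      (LocalizedModule p.asIdeal.primeCompl M) + SGA2.relCodim I p := by
  rw [LocCoh.adjDepth, height_eq_relCodim]

theorem relCodim_eq_one_iff (I : Ideal A) {p : PrimeSpectrum A} (hp : ¬ I ≤ p.asIdeal) :
    SGA2.relCodim I p = 1 ↔ ∃ q : PrimeSpectrum A, I ≤ q.asIdeal ∧ p ⋖ q := by
  constructor
  · intro hc
    have hne : Nonempty {q : PrimeSpectrum A // p ≤ q ∧ I ≤ q.asIdeal} := by
      by_contra hc'
      rw [not_nonempty_iff] at hc'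
      rw [SGA2.relCodim, iInf_of_empty] at hc
      exact ENat.top_ne_one hc
    obtain ⟨⟨q, hpq, hIq⟩, hq⟩ := ENat.exists_eq_iInf
      (fun q : {q : PrimeSpectrum A // p ≤ q ∧ I ≤ q.asIdeal} => Order.height (⟨q.1, q.2.1⟩ : Set.Ici p))
    have hh : Order.height (⟨q, hpq⟩ : Set.Ici p) = 1 := hq.trans hc
    refine ⟨q, hIq, lt_of_le_of_ne hpq fun h => hp (h ▸ hIq), fun z hpz hzq => ?_⟩
    have h1 := Order.height_strictMono (show (⟨z, hpz.le⟩ : Set.Ici p) < ⟨q, hpq⟩ from hzq) (by
      refine lt_of_le_of_lt (Order.height_mono (show (⟨z, hpz.le⟩ : Set.Ici p) ≤ ⟨q, hpq⟩ from hzq.le)) ?_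
      rw [hh]; exact ENat.natCast_lt_top 1)
    rw [hh, ENat.lt_one_iff_eq_zero, Order.height_eq_zero] at h1
    exact hpz.not_ge (h1 (show (⟨p, le_refl p⟩ : Set.Ici p) ≤ ⟨z, hpz.le⟩ from hpz.le))
  · rintro ⟨q, hIq, hcov⟩
    refine le_antisymm ?_ (le_iInf fun z => Order.one_le_iff_ne_zero.2 fun h0 => ?_)
    · refine (iInf_le (fun q : {q : PrimeSpectrum A // p ≤ q ∧ I ≤ q.asIdeal} =>
        Order.height (⟨q.1, q.2.1⟩ : Set.Ici p)) ⟨q, hcov.le, hIq⟩).trans ?_
      refine Order.height_le fun s hs => ?_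
      by_contra hlen
      have h2 : 2 ≤ s.length := by
        by_contra h2
        exact hlen (by exact_mod_cast (show s.length ≤ 1 by omega))
      have h01 := s.strictMono (show (⟨0, by omega⟩ : Fin (s.length + 1)) < ⟨1, by omega⟩ from Nat.zero_lt_one)
      have h1l := s.strictMono (show (⟨1, by omega⟩ : Fin (s.length + 1)) < Fin.last s.length from
        (show 1 < s.length by omega))
      have h1l' : (s ⟨1, by omega⟩).1 < q := by
        have : s ⟨1, by omega⟩ < s.last := h1l
        rw [hs] at this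
        exact this
      exact hcov.2 (lt_of_le_of_lt (s ⟨0, by omega⟩).2 h01) h1l'
    · rw [Order.height_eq_zero] at h0
      exact hp (z.2.2.trans (h0 (show (⟨p, le_refl p⟩ : Set.Ici p) ≤ ⟨z.1, z.2.1⟩ from z.2.1)))

end Order

/-- Finiteness below a degree as an inequality on the finiteness dimension. -/
theorem finite_iff_lt_finDimRel {A : Type u} [CommRing A] [IsNoetherianRing A] (I : Ideal A)
    (M : Type u) [AddCommGroup M] [Module A M] [Module.Finite A M] (n : ℕ) :
    (∀ i : ℕ, i ≤ n → Module.Finite A (LocCoh.H I i M)) ↔ (n : ℕ∞) < LocCoh.finDimRel I I M := by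
  classical
  rw [Groth.Agent.S0329.result A I M n]
  constructor
  · rintro ⟨J, hIJ, hJ⟩
    refine lt_of_lt_of_le (ENat.natCast_lt_natCast.2 n.lt_succ_self) (le_iInf₂ fun i hi => ?_)
    by_contra hlt
    have hin : i ≤ n := Nat.lt_succ_iff.1 (ENat.natCast_lt_natCast.1 (not_le.1 hlt))
    exact hi (hIJ.trans (Ideal.radical_mono fun a ha => Module.mem_annihilator.2 (hJ i hin a ha)))
  · intro h
    refine ⟨(Finset.range (n + 1)).inf fun i => Module.annihilator A (LocCoh.H I i M), ?_,
      fun i hi a ha x => Module.mem_annihilator.1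
        (Finset.inf_le (f := fun i => Module.annihilator A (LocCoh.H I i M))
          (Finset.mem_range.2 (Nat.lt_succ_of_le hi)) ha) x⟩
    have key : ∀ s : Finset ℕ, (∀ i ∈ s, i ≤ n) →
        I ≤ (s.inf fun i => Module.annihilator A (LocCoh.H I i M)).radical := by
      intro s
      induction s using Finset.induction with
      | empty => intro _; rw [Finset.inf_empty, Ideal.radical_top]; exact le_top
      | @insert a t _ ih =>
        intro hs
        rw [Finset.inf_insert, Ideal.radical_inf]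
        refine le_inf ?_ (ih fun i hi => hs i (Finset.mem_insert_of_mem hi))
        by_contra hc
        exact (not_lt.2 ((iInf₂_le a hc : LocCoh.finDimRel I I M ≤ a).trans
          (Nat.cast_le.2 (hs a (Finset.mem_insert_self a t))))) h
    exact key _ fun i hi => Nat.lt_succ_iff.1 (Finset.mem_range.1 hi)

variable {R A : Type u} [CommRing R] [IsRegularRing R] [CommRing A] [IsNoetherianRing A]
  (π : R →+* A) (hπ : Function.Surjective π)

include hπ

theorem finite_iff (I : Ideal A) (M : Type u) [AddCommGroup M] [Module A M] [Module.Finite A M] (n : ℕ) :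
    (∀ i : ℕ, i ≤ n → Module.Finite A (LocCoh.H I i M)) ↔
      ∀ p : PrimeSpectrum A, ¬ I ≤ p.asIdeal → SGA2.relCodim I p = 1 → (n : ℕ∞) ≤
        LocCoh.depth (Localization.AtPrime p.asIdeal) (LocalizedModule p.asIdeal.primeCompl M) := by
  rw [finite_iff_lt_finDimRel I M n, le_antisymm (Groth.Agent.S11653.result A I I M)
    (Groth.Agent.S11660.result R A π hπ I I M), ← Groth.Agent.S5172.result R A π hπ I M n]
  constructor
  · intro h p hp
    rw [← adjDepth_eq]
    exact h.trans_le (iInf₂_le p hp)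
  · intro h
    by_cases hne : ∃ p : PrimeSpectrum A, ¬ I ≤ p.asIdeal
    · have : Nonempty {p : PrimeSpectrum A // ¬ I ≤ p.asIdeal} := nonempty_subtype.2 hne
      obtain ⟨⟨p, hp⟩, hmin⟩ := ENat.exists_eq_iInf
        (fun p : {p : PrimeSpectrum A // ¬ I ≤ p.asIdeal} => LocCoh.adjDepth I M p.1)
      rw [LocCoh.minAdjDepth, iInf_subtype', ← hmin, adjDepth_eq]
      exact h p hp
    · push Not at hne
      refine lt_of_lt_of_le (ENat.natCast_lt_top n) (le_iInf₂ fun p hp => absurd (hne p) hp)

/-- The drop in relative height across a covering pair. -/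
theorem height_le_add_one {P p q : PrimeSpectrum A} (hPp : P ≤ p) (hcov : p ⋖ q) :
    (q.asIdeal.map (Ideal.Quotient.mk P.asIdeal)).height ≤
      (p.asIdeal.map (Ideal.Quotient.mk P.asIdeal)).height + 1 := by
  algebraize [π]
  let c := PrimeSpectrum.comap (algebraMap R A)
  have hmono : ∀ {x y : PrimeSpectrum A}, c x ≤ c y ↔ x ≤ y := fun {x y} =>
    Ideal.comap_le_comap_iff_of_surjective _ hπ _ _
  have hker : ∀ x : PrimeSpectrum A, RingHom.ker (algebraMap R A) ≤ (c x).asIdeal := fun x =>
    Ideal.comap_mono bot_le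
  have hcovR : c p ⋖ c q := by
    refine ⟨lt_of_le_not_ge (hmono.2 hcov.le) fun h => hcov.lt.not_ge (hmono.1 h), fun z hpz hzq => ?_⟩
    have hkz : RingHom.ker (algebraMap R A) ≤ z.asIdeal := (hker p).trans hpz.le
    let z' : PrimeSpectrum A := ⟨z.asIdeal.map (algebraMap R A), Ideal.map_isPrime_of_surjective hπ hkz⟩
    have hz : c z' = z := PrimeSpectrum.ext (by
      show (z.asIdeal.map _).comap _ = _
      rw [Ideal.comap_map_of_surjective (algebraMap R A) hπ, ← RingHom.ker_eq_comap_bot, sup_eq_left.2 hkz])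
    rw [← hz] at hpz hzq
    exact hcov.2 (lt_of_le_not_ge (hmono.1 hpz.le) fun h => hpz.not_ge (hmono.2 h))
      (lt_of_le_not_ge (hmono.1 hzq.le) fun h => hzq.not_ge (hmono.2 h))
  -- the same heights downstairs
  have hh : ∀ x : PrimeSpectrum A, P ≤ x →
      ((c x).asIdeal.map (Ideal.Quotient.mk (c P).asIdeal)).height =
        (x.asIdeal.map (Ideal.Quotient.mk P.asIdeal)).height := by
    intro x hx
    let f : R →+* A ⧸ P.asIdeal := (Ideal.Quotient.mk P.asIdeal).comp (algebraMap R A)
    have hf : Function.Surjective f := Ideal.Quotient.mk_surjective.comp hπ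
    have hkerf : RingHom.ker f = (c P).asIdeal := by
      rw [← RingHom.comap_ker, Ideal.mk_ker]; rfl
    let e := (Ideal.quotEquivOfEq hkerf.symm).trans (RingHom.quotientKerEquivOfSurjective hf)
    have hcomm : (e : R ⧸ (c P).asIdeal →+* A ⧸ P.asIdeal).comp (Ideal.Quotient.mk (c P).asIdeal) = f :=
      RingHom.ext fun z => rfl
    conv_rhs => rw [← Ideal.map_comap_of_surjective _ hπ x.asIdeal, Ideal.map_map]
    show _ = ((c x).asIdeal.map f).height
    rw [← hcomm, ← Ideal.map_map, Ideal.map_coe e, e.height_map]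
  rw [← hh q (hPp.trans hcov.le), ← hh p hPp]
  have := JacCrit.FlatRegular.isCohenMacaulayLocalRing (Localization.AtPrime (c q).asIdeal)
  have := JacCrit.FlatRegular.isCohenMacaulayLocalRing (Localization.AtPrime (c p).asIdeal)
  obtain ⟨hq', hdq⟩ := Lib.Depth.CM.supportDim_eq_nat (R := Localization.AtPrime (c q).asIdeal)
    (Localization.AtPrime (c q).asIdeal)
  rw [Module.supportDim_self_eq_ringKrullDim] at hdq
  obtain ⟨hp', hdp, hsum⟩ := RelCodim.height_eq_add_one (c p) (c q) hcovR hdq
  have key : ∀ x : PrimeSpectrum R, c P ≤ x → ∀ hx : ℕ, ringKrullDim (Localization.AtPrime x.asIdeal) = hx →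
      (hx : ℕ∞) ≤ (c P).asIdeal.height + (x.asIdeal.map (Ideal.Quotient.mk (c P).asIdeal)).height := by
    intro x hx d hd
    have := JacCrit.FlatRegular.isCohenMacaulayLocalRing (Localization.AtPrime x.asIdeal)
    have hpp : ((c P).asIdeal.map (algebraMap R (Localization.AtPrime x.asIdeal))).IsPrime :=
      IsLocalization.isPrime_of_isPrime_disjoint x.asIdeal.primeCompl _ _ (c P).2
        (Set.disjoint_left.2 fun r hr hr' => hr (hx hr'))
    obtain ⟨a, b, ha, hb, hab⟩ := CMDim.exists_dims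
      ((c P).asIdeal.map (algebraMap R (Localization.AtPrime x.asIdeal))) hd
    rw [IsLocalization.AtPrime.ringKrullDim_eq_height
        ((c P).asIdeal.map (algebraMap R (Localization.AtPrime x.asIdeal))),
      ← IsLocalization.height_under x.asIdeal.primeCompl,
      IsLocalization.comap_map_of_isPrime_disjoint x.asIdeal.primeCompl (Localization.AtPrime x.asIdeal)
        (c P).2 (Set.disjoint_left.2 fun r hr hr' => hr (hx hr'))] at ha
    have h2 := LocDepth.ringKrullDim_quotient_map_le (c P).asIdeal x.asIdeal hx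
    rw [hb] at h2
    have ha' : (c P).asIdeal.height = (a : ℕ∞) := WithBot.coe_injective ha
    have h3 : (b : ℕ∞) ≤ (x.asIdeal.map (Ideal.Quotient.mk (c P).asIdeal)).height := WithBot.coe_le_coe.1 h2
    rw [ha', show (d : ℕ∞) = (a : ℕ∞) + (b : ℕ∞) by exact_mod_cast hab.symm]
    exact add_le_add le_rfl h3
  have h1 := key (c p) (hmono.2 hPp) hp' hdp
  have h2 := FaltingsRegular.height_add_height_map_le (c P).asIdeal (c q).asIdeal
    (hmono.2 (hPp.trans hcov.le))
  have hqh : (c q).asIdeal.height = (hq' : ℕ∞) := by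
    rw [IsLocalization.AtPrime.ringKrullDim_eq_height (c q).asIdeal] at hdq
    exact WithBot.coe_injective hdq
  rw [hqh, show (hq' : ℕ∞) = (hp' : ℕ∞) + 1 by exact_mod_cast hsum.symm] at h2
  have h3 := h2.trans (add_le_add h1 le_rfl)
  rw [add_assoc] at h3
  exact (WithTop.add_le_add_iff_left (Ideal.height_ne_top (c P).2.ne_top)).1 h3

end Groth.Agent.Lib.LCFin.FinitenessThm
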