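import Groth.Agent.Lib.LCFin.Artinian
import Mathlib.RingTheory.Support

/-!
Non-vanishing of local cohomology in the dimension of the support.
-/

universe u

open CategoryTheory Pointwise
open Groth.Agent.Lib.LocalCoh Groth.Agent.Lib.LCFin.Seq Groth.Agent.Lib.LCFin.Cd

namespace Groth.Agent.Lib.LCFin.Nonvanishing

variable {R : Type u} [CommRing R] [IsLocalRing R] [IsNoetherianRing R]

local notation "𝔪" => IsLocalRing.maximalIdeal R

lemma eq_of_add_one_eq {d : WithBot ℕ∞} {n : ℕ} (h : d + 1 = ((n + 1 : ℕ) : WithBot ℕ∞)) :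
    d = n := by
  induction d with
  | bot => rw [WithBot.bot_add] at h; exact absurd h.symm (WithBot.natCast_ne_bot _)
  | coe d =>
    have h' : d + 1 = ((n + 1 : ℕ) : ℕ∞) := WithBot.coe_injective h
    refine congrArg WithBot.some ?_
    induction d with
    | top => rw [top_add] at h'; exact absurd h'.symm (ENat.natCast_ne_top _)
    | coe m =>
      have : m + 1 = n + 1 := by exact_mod_cast h'
      rw [Nat.succ_injective this]

/-- A finite module of dimension zero is power torsion. -/
theorem torsionSub_eq_top (M : Type u) [AddCommGroup M] [Module R M] [Module.Finite R M]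
    (h : Module.supportDim R M ≤ 0) : DRing.torsionSub 𝔪 M = ⊤ := by
  refine (Submodule.eq_top_iff').2 fun z => ?_
  have hrad : 𝔪 ≤ (Module.annihilator R M).radical := by
    rw [Ideal.radical_eq_sInf]
    refine le_sInf fun p hp => ?_
    have := hp.2
    let q : Module.support R M := ⟨⟨p, hp.2⟩, by
      rw [Module.support_eq_zeroLocus]; exact hp.1⟩
    have hm : IsLocalRing.closedPoint R ∈ Module.support R M := by
      rw [Module.support_eq_zeroLocus]
      exact hp.1.trans (IsLocalRing.le_maximalIdeal hp.2.ne_top)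
    by_contra hne
    have hlt : q < ⟨IsLocalRing.closedPoint R, hm⟩ :=
      lt_of_le_not_ge (IsLocalRing.le_maximalIdeal hp.2.ne_top) fun hge => hne hge
    have hlen := Order.LTSeries.length_le_krullDim
      (((RelSeries.singleton _ q)).snoc ⟨IsLocalRing.closedPoint R, hm⟩ hlt)
    exact absurd (hlen.trans h) (by simp)
  obtain ⟨k, hk⟩ := Ideal.exists_pow_le_of_le_radical_of_fg hrad (IsNoetherian.noetherian (𝔪))
  exact ⟨k, fun a ha => Module.mem_annihilator.1 (hk ha) z⟩

/-- Removing the torsion submodule does not change a positive dimensional support. -/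
theorem supportDim_quotient_torsionSub (M : Type u) [AddCommGroup M] [Module R M] [Module.Finite R M]
    (h : ¬ Module.supportDim R M ≤ 0) :
    Module.supportDim R (M ⧸ DRing.torsionSub 𝔪 M) = Module.supportDim R M := by
  let T := DRing.torsionSub 𝔪 M
  have hsupp := Module.support_of_exact (LinearMap.exact_subtype_mkQ T) T.injective_subtype
    T.mkQ_surjective
  have hne : Nontrivial (M ⧸ T) := by
    by_contra hc
    rw [not_nontrivial_iff_subsingleton, Submodule.Quotient.subsingleton_iff] at hc
    refine h (Order.krullDim_nonpos_iff_forall_isMax.2 ?_)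
    rintro ⟨⟨p, hp⟩, hpM⟩ ⟨⟨q, hq⟩, hqM⟩ hpq
    have hmem : ∀ {p : PrimeSpectrum R}, p ∈ Module.support R M → 𝔪 ≤ p.asIdeal := by
      intro p hp
      obtain ⟨z, hz⟩ := Module.mem_support_iff'.1 hp
      obtain ⟨k, hk⟩ := (hc ▸ Submodule.mem_top : z ∈ T)
      refine Ideal.IsPrime.le_of_pow_le (n := k) fun a ha => ?_
      by_contra hap
      exact hz a hap (hk a ha)
    exact (IsLocalRing.le_maximalIdeal hq.ne_top).trans (hmem hpM)
  suffices hset : Module.support R (M ⧸ T) = Module.support R M by
    show Module.supportDim R (M ⧸ T) = _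
    simp only [Module.supportDim]
    rw [hset]
  refine subset_antisymm ?_ ?_
  · exact hsupp ▸ Set.subset_union_right
  · rw [hsupp]
    refine Set.union_subset (fun p hp => ?_) subset_rfl
    obtain ⟨z, hz⟩ := Module.mem_support_iff'.1 hp
    obtain ⟨k, hk⟩ := z.2
    have hle : 𝔪 ≤ p.asIdeal := Ideal.IsPrime.le_of_pow_le (n := k) fun a ha => by
      by_contra hap
      exact hz a hap (Subtype.ext (hk a ha))
    obtain ⟨q, hq⟩ := Module.nonempty_support_of_nontrivial (R := R) (M := M ⧸ T)
    exact Module.mem_support_mono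
      (show q ≤ p from (IsLocalRing.le_maximalIdeal q.2.ne_top).trans hle) hq

/-- Local cohomology at the maximal ideal in the dimension of the support is nonzero, and not
finite in positive dimension. -/
theorem nontrivial_and_not_finite (n : ℕ) :
    ∀ (M : Type u) [AddCommGroup M] [Module R M] [Module.Finite R M],
      Module.supportDim R M = n →
      Nontrivial (LocCoh.H 𝔪 n M) ∧ (1 ≤ n → ¬ Module.Finite R (LocCoh.H 𝔪 n M)) := by
  induction n with
  | zero =>
    intro M _ _ _ hn
    have hM : Nontrivial M := by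
      by_contra hc
      rw [not_nontrivial_iff_subsingleton] at hc
      rw [Module.supportDim_eq_bot_of_subsingleton] at hn
      simp at hn
    refine ⟨?_, fun h => absurd h (by omega)⟩
    exact (((lcZeroIso 𝔪).app (ModuleCat.of R M)).toLinearEquiv.trans
      (LinearEquiv.ofTop _ (torsionSub_eq_top M hn.le))).toEquiv.nontrivial
  | succ n ih =>
    intro M₀ _ _ _ hn₀
    let T := DRing.torsionSub 𝔪 M₀
    let M := M₀ ⧸ T
    have hM : DRing.torsionSub 𝔪 M = ⊥ := torsionSub_quotient_eq_bot 𝔪 M₀
    have hn : Module.supportDim R M = (n + 1 : ℕ) := by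
      rw [supportDim_quotient_torsionSub M₀ ?_, hn₀]
      rw [hn₀, not_le]
      exact_mod_cast n.succ_pos
    -- it suffices to treat `M`
    have hbij : Function.Bijective (Hmap 𝔪 (n + 1) T.mkQ) := by
      have h1 : Subsingleton (LocCoh.H 𝔪 (n + 1) T) :=
        lc_subsingleton_of_isPowerTorsion 𝔪 n (ModuleCat.of R T) (isPowerTorsion_torsionSub 𝔪 M₀)
      have h2 : Subsingleton (LocCoh.H 𝔪 (n + 1 + 1) T) :=
        lc_subsingleton_of_isPowerTorsion 𝔪 _ (ModuleCat.of R T) (isPowerTorsion_torsionSub 𝔪 M₀)
      constructor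
      · rw [← LinearMap.ker_eq_bot, Submodule.eq_bot_iff]
        intro z hz
        obtain ⟨w, rfl⟩ := (exact_map_map 𝔪 T.injective_subtype T.mkQ_surjective
          (LinearMap.exact_subtype_mkQ T) (n + 1) z).1 hz
        rw [h1.elim w 0, map_zero]
      · intro z
        exact (exact_map_δ 𝔪 T.injective_subtype T.mkQ_surjective
          (LinearMap.exact_subtype_mkQ T) (n + 1) z).1 (h2.elim _ _)
    let e := LinearEquiv.ofBijective _ hbij
    suffices hmain : Nontrivial (LocCoh.H 𝔪 (n + 1) M) ∧
        ¬ Module.Finite R (LocCoh.H 𝔪 (n + 1) M) from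
      ⟨(have := hmain.1; e.toEquiv.nontrivial), fun _ h =>
        hmain.2 (Module.Finite.equiv e)⟩
    have hart := Artinian.isArtinian_H (R := R) n M
    obtain ⟨P, hP, hquot⟩ := Artinian.exists_primes_quot (R := R) (LocCoh.H 𝔪 n M)
    obtain ⟨x, hx, hreg, hxP⟩ := Artinian.exists_regular_avoiding M hM P hP 1
    rw [pow_one] at hx
    let f := LinearMap.lsmul R M x
    let g := (x • (⊤ : Submodule R M)).mkQ
    have hex : Function.Exact f g := by
      intro z
      rw [Submodule.mkQ_apply, Submodule.Quotient.mk_eq_zero, Submodule.mem_smul_pointwise_iff_exists]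
      simp [f]
    have hQ : Module.supportDim R (QuotSMulTop x M) = n := by
      have h1 := Module.supportDim_quotSMulTop_succ_eq_supportDim hreg hx
      exact eq_of_add_one_eq (h1.trans hn)
    have hnt : Nontrivial (LocCoh.H 𝔪 (n + 1) M) := by
      by_contra hc
      rw [not_nontrivial_iff_subsingleton] at hc
      have hsurj : Function.Surjective (Hmap 𝔪 n g) := fun z =>
        (exact_map_δ 𝔪 (f := f) (g := g) hreg (Submodule.mkQ_surjective _) hex n z).1 (hc.elim _ _)
      obtain ⟨ihnt, ihfin⟩ := ih (QuotSMulTop x M) hQ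
      cases n with
      | zero =>
        have h0 : Subsingleton (LocCoh.H 𝔪 0 M) := (subsingleton_H_zero_iff 𝔪 M).2 hM
        exact not_subsingleton (LocCoh.H 𝔪 0 (QuotSMulTop x M)) hsurj.subsingleton
      | succ n =>
        obtain ⟨k, hk⟩ := hquot x hxP
        refine ihfin (by omega) ?_
        have hkill : ∀ z : LocCoh.H 𝔪 (n + 1) (QuotSMulTop x M), ∀ c ∈ 𝔪 ^ k, c • z = 0 := by
          intro z c hc
          obtain ⟨y, rfl⟩ := hsurj z
          obtain ⟨w, hw⟩ := hk c hc y
          rw [← map_smul, ← hw, ← Hmap_lsmul]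
          exact (exact_map_map 𝔪 (f := f) (g := g) hreg (Submodule.mkQ_surjective _) hex (n + 1)).apply_apply_eq_zero w
        have := Artinian.isArtinian_H (R := R) (n + 1) (QuotSMulTop x M)
        have hTE := (Module.isTorsionBySet_iff_subset_annihilator R (LocCoh.H 𝔪 (n + 1) (QuotSMulTop x M))).2
          (fun c hc => Module.mem_annihilator.2 fun z => hkill z c hc :
            ((𝔪 ^ k : Ideal R) : Set R) ⊆ Module.annihilator R (LocCoh.H 𝔪 (n + 1) (QuotSMulTop x M)))
        let := hTE.module
        have : IsScalarTower R (R ⧸ 𝔪 ^ k) (LocCoh.H 𝔪 (n + 1) (QuotSMulTop x M)) :=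
          hTE.isScalarTower
        have : IsArtinianRing (R ⧸ 𝔪 ^ k) := by
          have := (InjHull.Complete.isFiniteLength_quotient_pow (R := R) 𝔪 k)
          have := (isFiniteLength_iff_isNoetherian_isArtinian.1 this).2
          exact isArtinian_of_tower R this
        have : IsArtinian (R ⧸ 𝔪 ^ k) (LocCoh.H 𝔪 (n + 1) (QuotSMulTop x M)) :=
          isArtinian_of_tower R inferInstance
        have : IsNoetherian (R ⧸ 𝔪 ^ k) (LocCoh.H 𝔪 (n + 1) (QuotSMulTop x M)) :=
          (IsSemiprimaryRing.isNoetherian_iff_isArtinian).2 inferInstance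
        exact Module.Finite.trans (R ⧸ 𝔪 ^ k) _
    refine ⟨hnt, lc_not_finite_of_regular 𝔪 (ModuleCat.of R M) (n + 1) hx hreg ?_ hnt⟩
    rw [hQ]
    exact_mod_cast n.lt_succ_self

end Groth.Agent.Lib.LCFin.Nonvanishing
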