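import Groth.Agent.Lib.LCFin.CanonBasic
import Groth.Agent.Lib.LCFin.Nonvanishing
import Groth.Agent.Lib.InjHull.BaseChange
import Groth.Agent.Lib.InjHull.Complete
import Groth.Agent.Lib.Excellent.CompletionNoetherian
import Groth.Agent.Lib.Regular.Completion
import Groth.Agent.Lib.LocalCoh.Change
import Groth.Agent.Lib.LocalCoh.Transfer
import Groth.Agent.Lib.Cohen.Presentation
import Groth.Agent.Lib.Goren.Basic

/-!
Canonical modules and completion.
-/

universe u

open CategoryTheory IsLocalRing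
open scoped TensorProduct
open Groth.Agent.Lib.LocalCoh Groth.Agent.Lib.InjHull

namespace Groth.Agent.Lib.LCFin.CanonCompletion

variable (R : Type u) [CommRing R] [IsNoetherianRing R] [IsLocalRing R]

local notation "𝔪" => IsLocalRing.maximalIdeal R
local notation "S" => AdicCompletion (IsLocalRing.maximalIdeal R) R

instance : IsLocalHom (algebraMap R S) :=
  Regular.Completion.isLocalHom 𝔪 (Ideal.IsPrime.ne_top')

instance : IsAdicComplete (maximalIdeal S) S := by
  rw [AdicCompletion.maximalIdeal_eq_map]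
  exact AdicCompletion.isAdicComplete_self 𝔪 (Ideal.fg_of_isNoetherianRing _)

/-- The completion is a quotient of a Gorenstein local ring. -/
theorem exists_gorenstein_surjective :
    ∃ (A : Type u) (_ : CommRing A) (_ : LocCoh.IsGorensteinLocalRing A) (g : A →+* S),
      Function.Surjective g := by
  obtain ⟨Λ, _, n, g, -, hreg, hg⟩ := Cohen.Presentation.exists_surjective_mvPowerSeries S
  exact ⟨_, inferInstance, Goren.Basic.isGorensteinLocalRing_of_isRegular _, g, hg⟩

theorem exists_sub_mem (k : ℕ) (s : S) :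
    ∃ a : R, s - algebraMap R S a ∈ (𝔪 ^ k).map (algebraMap R S) := by
  have h1 : ∀ s : S, ∃ a : R, s - algebraMap R S a ∈ (𝔪).map (algebraMap R S) := fun s => by
    obtain ⟨a, ha⟩ := Ideal.Quotient.mk_surjective (AdicCompletion.evalOneₐ 𝔪 s)
    refine ⟨a, ?_⟩
    rw [← AdicCompletion.ker_evalOneₐ_eq_map 𝔪 (Ideal.fg_of_isNoetherianRing _), RingHom.mem_ker,
      map_sub, sub_eq_zero]
    exact ha.symm.trans (RingHom.congr_fun (AdicCompletion.evalOneₐ_comp_algebraMap_eq_mk 𝔪) a).symm
  induction k generalizing s with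
  | zero => exact ⟨0, by rw [pow_zero, Ideal.one_eq_top, Ideal.map_top]; trivial⟩
  | succ k ih =>
    obtain ⟨a, ha⟩ := ih s
    suffices ∀ x ∈ (𝔪 ^ k).map (algebraMap R S), ∃ b : R,
        x - algebraMap R S b ∈ (𝔪 ^ (k + 1)).map (algebraMap R S) by
      obtain ⟨b, hb⟩ := this _ ha
      exact ⟨a + b, by rwa [map_add, ← sub_sub]⟩
    intro x hx
    rw [Ideal.map] at hx
    induction hx using Submodule.span_induction with
    | mem x hx =>
      obtain ⟨t, ht, rfl⟩ := hx
      exact ⟨t, by rw [sub_self]; exact zero_mem _⟩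
    | zero => exact ⟨0, by rw [map_zero, sub_zero]; exact zero_mem _⟩
    | add x y _ _ hx hy =>
      obtain ⟨b, hb⟩ := hx
      obtain ⟨c, hc⟩ := hy
      exact ⟨b + c, by rw [map_add, add_sub_add_comm]; exact add_mem hb hc⟩
    | smul c x hxm hx =>
      obtain ⟨b, hb⟩ := hx
      obtain ⟨c₀, hc₀⟩ := h1 c
      refine ⟨c₀ * b, ?_⟩
      rw [smul_eq_mul, map_mul, show c * x - algebraMap R S c₀ * algebraMap R S b =
        (c - algebraMap R S c₀) * x + algebraMap R S c₀ * (x - algebraMap R S b) by ring]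
      refine add_mem ?_ (Ideal.mul_mem_left _ _ hb)
      rw [pow_succ', Ideal.map_mul]
      exact Ideal.mul_mem_mul hc₀ hxm

variable {R}

/-- Linear maps out of power torsion modules are linear over the completion. -/
theorem map_smul_completion {X Y : Type u} [AddCommGroup X] [Module R X] [Module S X]
    [IsScalarTower R S X] [AddCommGroup Y] [Module R Y] [Module S Y] [IsScalarTower R S Y]
    (hX : LocCoh.IsPowerTorsion 𝔪 X) (φ : X →ₗ[R] Y) (s : S) (x : X) : φ (s • x) = s • φ x := by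
  obtain ⟨k, hk⟩ := hX x
  obtain ⟨a, ha⟩ := exists_sub_mem R k s
  have hkill : ∀ (Z : Type u) [AddCommGroup Z] [Module R Z] [Module S Z] [IsScalarTower R S Z] (z : Z),
      (∀ r ∈ 𝔪 ^ k, r • z = 0) → s • z = a • z := fun Z _ _ _ _ z hz => by
    have : (s - algebraMap R S a) • z = 0 := by
      refine Submodule.span_induction (p := fun t _ => t • z = 0) ?_ (zero_smul S z)
        (fun p q _ _ hp hq => by rw [add_smul, hp, hq, add_zero])
        (fun c p _ hp => by rw [smul_eq_mul, mul_smul, hp, smul_zero]) ha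
      rintro _ ⟨r, hr, rfl⟩
      rw [algebraMap_smul]
      exact hz r hr
    rw [sub_smul, sub_eq_zero] at this
    rw [this, algebraMap_smul]
  rw [hkill X x hk, hkill Y (φ x) fun r hr => by rw [← map_smul, hk r hr, map_zero], map_smul]

variable (R) in
theorem nonempty_H_equiv (i : ℕ) (M : Type u) [AddCommGroup M] [Module R M] :
    Nonempty (S ⊗[R] LocCoh.H 𝔪 i M ≃ₗ[S] LocCoh.H (maximalIdeal S) i (S ⊗[R] M)) := by
  obtain ⟨c⟩ := nonempty_lcBaseChangeIso (R := R) (I := 𝔪) S (ModuleCat.of R M) i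
  rw [← AdicCompletion.maximalIdeal_eq_map] at c
  exact ⟨c.toLinearEquiv⟩

theorem isPowerTorsion_H (i : ℕ) (M : Type u) [AddCommGroup M] [Module R M] :
    LocCoh.IsPowerTorsion 𝔪 (LocCoh.H 𝔪 i M) :=
  isPowerTorsion_lc 𝔪 i (ModuleCat.of R M)

theorem nontrivial_H_iff (i : ℕ) (M : Type u) [AddCommGroup M] [Module R M] :
    Nontrivial (LocCoh.H (maximalIdeal S) i (S ⊗[R] M)) ↔ Nontrivial (LocCoh.H 𝔪 i M) := by
  obtain ⟨c⟩ := nonempty_H_equiv R i M
  rw [← c.toEquiv.nontrivial_congr, (Equiv.ofBijective _ (Complete.mk_one_bijective (I := 𝔪)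
    (Ideal.fg_of_isNoetherianRing _) (isPowerTorsion_H i M))).nontrivial_congr]

/-- Completion does not change the dimension of a finite module. -/
theorem supportDim_tensor (M : Type u) [AddCommGroup M] [Module R M] [Module.Finite R M]
    [Nontrivial M] : Module.supportDim S (S ⊗[R] M) = Module.supportDim R M := by
  obtain ⟨k, hk⟩ := Depth.CM.supportDim_eq_nat (R := R) M
  have hk' := (nontrivial_H_iff k M).2 (Nonvanishing.nontrivial_and_not_finite k M hk).1
  have hnt : Nontrivial (S ⊗[R] M) := by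
    by_contra hc
    rw [not_nontrivial_iff_subsingleton] at hc
    have := lc_subsingleton_of_supportDim_lt k S (maximalIdeal S) (S ⊗[R] M) (by
      rw [Module.supportDim_eq_bot_of_subsingleton]; exact WithBot.bot_lt_coe _)
    exact not_subsingleton _ this
  obtain ⟨l, hl⟩ := Depth.CM.supportDim_eq_nat (R := S) (S ⊗[R] M)
  have hl' := (nontrivial_H_iff l M).1 (Nonvanishing.nontrivial_and_not_finite l _ hl).1
  rw [hk, hl]
  refine le_antisymm ?_ ?_
  · by_contra hc
    exact not_subsingleton _ (lc_subsingleton_of_supportDim_lt l R 𝔪 M (hk.trans_lt (not_le.1 hc)))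
  · by_contra hc
    exact not_subsingleton _
      (lc_subsingleton_of_supportDim_lt k S (maximalIdeal S) (S ⊗[R] M) (hl.trans_lt (not_le.1 hc)))

theorem ringKrullDim_quotient_map (I : Ideal R) (hI : I ≠ ⊤) :
    ringKrullDim (S ⧸ I.map (algebraMap R S)) = ringKrullDim (R ⧸ I) := by
  have : Nontrivial (R ⧸ I) := Ideal.Quotient.nontrivial_iff.2 hI
  rw [← Module.supportDim_quotient_eq_ringKrullDim, ← Module.supportDim_quotient_eq_ringKrullDim,
    ← supportDim_tensor (R ⧸ I)]
  exact Module.supportDim_eq_of_equiv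
    (Algebra.TensorProduct.quotIdealMapEquivTensorQuot S I).toLinearEquiv

/-- A prime of the completion over a prime, of the same height and coheight. -/
theorem exists_prime_over (p : Ideal R) [p.IsPrime] {k : ℕ} (hk : ringKrullDim (R ⧸ p) = k) :
    ∃ P : Ideal S, P.IsPrime ∧ P.comap (algebraMap R S) = p ∧ ringKrullDim (S ⧸ P) = k ∧
      P.height = p.height := by
  set J := p.map (algebraMap R S) with hJ
  have hJdim : ringKrullDim (S ⧸ J) = k := (ringKrullDim_quotient_map p (Ideal.IsPrime.ne_top ‹_›)).trans hk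
  have hann : Module.annihilator S (S ⧸ J) = J := Ideal.annihilator_quotient
  obtain ⟨P, hP, hJP, hPk⟩ : ∃ P : Ideal S, P.IsPrime ∧ J ≤ P ∧ (k : WithBot ℕ∞) ≤ ringKrullDim (S ⧸ P) := by
    by_contra hc
    push Not at hc
    have := CanonBasic.supportDim_lt_of_primes (N := S ⧸ J) fun q hq hle => hc q hq (hann ▸ hle)
    rw [Module.supportDim_quotient_eq_ringKrullDim, hJdim] at this
    exact lt_irrefl _ this
  have hPdim : ringKrullDim (S ⧸ P) = k := le_antisymm (hJdim ▸
    ringKrullDim_le_of_surjective (Ideal.Quotient.factor hJP) (Ideal.Quotient.factor_surjective _)) hPk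
  have hcomap : P.comap (algebraMap R S) = p := by
    refine le_antisymm ?_ (Ideal.map_le_iff_le_comap.1 hJP)
    by_contra hne
    have hlt : p < P.comap (algebraMap R S) := lt_of_le_not_ge (Ideal.map_le_iff_le_comap.1 hJP) hne
    have h1 := Depth.Assoc.ringKrullDim_quotient_add_one_le_of_lt hlt
    rw [← ringKrullDim_quotient_map _ (Ideal.IsPrime.ne_top'), hk] at h1
    have h2 : ringKrullDim (S ⧸ P) ≤
        ringKrullDim (S ⧸ (P.comap (algebraMap R S)).map (algebraMap R S)) :=
      ringKrullDim_le_of_surjective (Ideal.Quotient.factor Ideal.map_comap_le)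
        (Ideal.Quotient.factor_surjective _)
    rw [hPdim] at h2
    have h3 := (add_le_add_left h2 1).trans h1
    exact absurd h3 (not_le.2 (by exact_mod_cast k.lt_succ_self))
  refine ⟨P, hP, hcomap, hPdim, ?_⟩
  have : P.LiesOver p := ⟨hcomap.symm⟩
  have : Algebra.HasGoingDown R S := Algebra.HasGoingDown.of_flat
  rw [Ideal.height_eq_height_add_of_liesOver_of_hasGoingDown p P]
  have hP' : (P.map (Ideal.Quotient.mk J)).IsPrime := Ideal.isPrime_map_quotientMk_of_isPrime hJP
  rw [Ideal.height_eq_zero_iff.2 (show P.map (Ideal.Quotient.mk J) ∈ minimalPrimes (S ⧸ J) from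
    ⟨⟨hP', bot_le⟩, fun q ⟨hq, _⟩ hqP => ?_⟩), add_zero]
  set q' := q.comap (Ideal.Quotient.mk J) with hq'
  have hJq : J ≤ q' := fun x hx => by
    show Ideal.Quotient.mk J x ∈ q
    rw [Ideal.Quotient.eq_zero_iff_mem.2 hx]
    exact zero_mem _
  have hqP' : q' ≤ P := by
    refine (Ideal.comap_mono hqP).trans ?_
    rw [Ideal.comap_map_of_surjective' _ Ideal.Quotient.mk_surjective, Ideal.mk_ker]
    exact sup_le le_rfl hJP
  suffices q' = P by
    rw [← this, Ideal.map_comap_of_surjective _ Ideal.Quotient.mk_surjective]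
  by_contra hne
  have h1 := Depth.Assoc.ringKrullDim_quotient_add_one_le_of_lt (lt_of_le_of_ne hqP' hne)
  have h2 : ringKrullDim (S ⧸ q') ≤ ringKrullDim (S ⧸ J) :=
    ringKrullDim_le_of_surjective (Ideal.Quotient.factor hJq) (Ideal.Quotient.factor_surjective _)
  rw [hPdim] at h1
  rw [hJdim] at h2
  exact absurd (h1.trans h2) (not_le.2 (by exact_mod_cast k.lt_succ_self))

/-- The completion of a canonical module is canonical. -/
theorem exists_canonMod_completion {E : Type u} [AddCommGroup E] [Module R E]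
    {f : ResidueField R →ₗ[R] E} (hf : InjHull.IsInjectiveHull f) (K : Type u) [AddCommGroup K]
    [Module R K] (n : ℕ) (e : (K →ₗ[R] E) ≃ₗ[R] LocCoh.H 𝔪 n R) :
    ∃ (g : ResidueField S →ₗ[S] S ⊗[R] E), InjHull.IsInjectiveHull g ∧
      Nonempty ((S ⊗[R] K →ₗ[S] S ⊗[R] E) ≃ₗ[S] LocCoh.H (maximalIdeal S) n S) := by
  have hmap : (maximalIdeal R).map (algebraMap R S) = maximalIdeal S :=
    (AdicCompletion.maximalIdeal_eq_map).symm
  obtain ⟨σ⟩ := BaseChange.socle_simple_of_fibre (B := S) (m := 𝔪) hf.toIsEssentialInj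
  rw [hmap] at σ
  have : IsSimpleModule S (S ⧸ maximalIdeal S) := Matlis.isSimpleModule_quotient
  have hsimple : IsSimpleModule S ((S ⧸ maximalIdeal S) →ₗ[S] S ⊗[R] E) :=
    IsSimpleModule.congr ((BaseChange.homQuotientEquiv (maximalIdeal S) (S ⊗[R] E)).trans σ.symm)
  obtain ⟨g, hg⟩ := BaseChange.exists_isInjectiveHull_baseChange (B := S) (m := 𝔪) hf
    (hmap.symm.le.trans Ideal.le_radical) hsimple
  refine ⟨g, hg, ?_⟩
  let cE : E ≃ₗ[R] S ⊗[R] E := LinearEquiv.ofBijective (TensorProduct.mk R S E 1)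
    (Complete.mk_one_bijective (I := 𝔪) (Ideal.fg_of_isNoetherianRing _)
      (Matlis.isPowerTorsion hf.toIsEssentialInj))
  obtain ⟨cH⟩ := nonempty_H_equiv R n R
  let cH₁ : S ⊗[R] LocCoh.H 𝔪 n R ≃ₗ[S] LocCoh.H (maximalIdeal S) n S :=
    cH.trans (lcLinearEquiv _ n (TensorProduct.AlgebraTensorModule.rid R S S))
  let m₁ : LocCoh.H 𝔪 n R ≃ₗ[R] S ⊗[R] LocCoh.H 𝔪 n R :=
    LinearEquiv.ofBijective (TensorProduct.mk R S _ 1)
      (Complete.mk_one_bijective (I := 𝔪) (Ideal.fg_of_isNoetherianRing _) (isPowerTorsion_H n R))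
  let X : (S ⊗[R] LocCoh.H 𝔪 n R) ≃ₗ[R] (S ⊗[R] K →ₗ[S] S ⊗[R] E) :=
    m₁.symm.trans (e.symm.trans ((LinearEquiv.congrRight cE).trans
      ((LinearMap.liftBaseChangeEquiv S).restrictScalars R)))
  have hT : LocCoh.IsPowerTorsion 𝔪 (S ⊗[R] LocCoh.H 𝔪 n R) := fun y => by
    obtain ⟨z, rfl⟩ := m₁.surjective y
    obtain ⟨k, hk⟩ := isPowerTorsion_H n R z
    exact ⟨k, fun a ha => by rw [← map_smul, hk a ha, map_zero]⟩
  let X' : (S ⊗[R] LocCoh.H 𝔪 n R) ≃ₗ[S] (S ⊗[R] K →ₗ[S] S ⊗[R] E) :=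
    X.toAddEquiv.toLinearEquiv fun s y => map_smul_completion hT X.toLinearMap s y
  exact ⟨X'.symm.trans cH₁⟩

/-- Descent of a relation along the completion. -/
theorem exists_mem_ker_notMem {a b : ℕ} {K : Type u} [AddCommGroup K] [Module R K]
    (F : (Fin a → R) →ₗ[R] (Fin b → K)) (P : Ideal S) (v : Fin a → S) (j : Fin a) (hv : v j ∉ P)
    (h0 : ∑ i, v i ⊗ₜ[R] F (Pi.single i 1) = 0) :
    ∃ w : Fin a → R, F w = 0 ∧ w j ∉ P.comap (algebraMap R S) := by
  classical
  by_contra hc
  push Not at hc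
  have hex : Function.Exact (LinearMap.ker F).subtype F := LinearMap.exact_subtype_ker_map F
  have := Module.Flat.lTensor_exact (R := R) S hex
  obtain ⟨u, hu⟩ := (this (∑ i, v i ⊗ₜ[R] (Pi.single i 1 : Fin a → R))).1 (by
    rw [map_sum]; simpa using h0)
  let π : S ⊗[R] (Fin a → R) →ₗ[R] S :=
    (TensorProduct.rid R S).toLinearMap ∘ₗ (LinearMap.proj j : (Fin a → R) →ₗ[R] R).lTensor S
  have h1 : π ((LinearMap.ker F).subtype.lTensor S u) ∈ P := by
    clear hu
    induction u with
    | zero => simp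
    | add x y hx hy => rw [map_add, map_add]; exact add_mem hx hy
    | tmul s w =>
      show TensorProduct.rid R S (s ⊗ₜ (w.1 j)) ∈ P
      rw [TensorProduct.rid_tmul, Algebra.smul_def]
      exact Ideal.mul_mem_right _ _ (hc w.1 w.2)
  rw [hu, map_sum] at h1
  refine hv ?_
  convert h1 using 1
  simp [π, Pi.single_apply, Finset.sum_ite_eq]

end Groth.Agent.Lib.LCFin.CanonCompletion
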