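import Groth.Agent.Lib.LCFin.Cd
import Groth.Agent.Lib.LocalCoh.Nonvanishing
import Groth.Agent.Lib.InjHull.Artinian
import Groth.Agent.Lib.InjHull.Complete
import Mathlib.RingTheory.KrullDimension.Regular
import Mathlib.RingTheory.Ideal.AssociatedPrime.Finiteness
import Mathlib.RingTheory.Regular.IsSMulRegular

/-!
Artinian local cohomology modules and non-vanishing in the dimension of the support.
-/

universe u

open CategoryTheory Pointwise
open Groth.Agent.Lib.LocalCoh Groth.Agent.Lib.LCFin.Seq Groth.Agent.Lib.LCFin.Cd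

namespace Groth.Agent.Lib.LCFin.Artinian

variable {R : Type u} [CommRing R] [IsLocalRing R] [IsNoetherianRing R]

local notation "𝔪" => IsLocalRing.maximalIdeal R

/-- For an Artinian module there are finitely many non maximal primes outside which the quotient by
a multiplication is killed by a power of the maximal ideal. -/
theorem exists_primes_quot (N : Type u) [AddCommGroup N] [Module R N] [IsArtinian R N] :
    ∃ P : Finset (Ideal R), (∀ p ∈ P, p.IsPrime ∧ p ≠ 𝔪) ∧
      ∀ x : R, (∀ p ∈ P, x ∉ p) → ∃ n : ℕ, ∀ c ∈ 𝔪 ^ n, ∀ z : N, ∃ w : N, x • w = c • z := by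
  classical
  suffices key : ∀ S : Submodule R N, ∃ P : Finset (Ideal R), (∀ p ∈ P, p.IsPrime ∧ p ≠ 𝔪) ∧
      ∀ x : R, (∀ p ∈ P, x ∉ p) → ∃ n : ℕ, ∀ c ∈ 𝔪 ^ n, ∀ z ∈ S, ∃ w : N, x • w = c • z by
    obtain ⟨P, hP, h⟩ := key ⊤
    exact ⟨P, hP, fun x hx => (h x hx).imp fun n hn c hc z => hn c hc z Submodule.mem_top⟩
  intro S
  induction S using (IsWellFounded.wf (r := ((· < ·) : Submodule R N → Submodule R N → Prop))).induction with
  | _ S ih => ?_
  by_cases hA : ∃ A B : Submodule R N, A < S ∧ B < S ∧ A ⊔ B = S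
  · obtain ⟨A, B, hAS, hBS, hAB⟩ := hA
    obtain ⟨P, hP, hA⟩ := ih A hAS
    obtain ⟨Q, hQ, hB⟩ := ih B hBS
    refine ⟨P ∪ Q, fun p hp => (Finset.mem_union.1 hp).elim (hP p) (hQ p), fun x hx => ?_⟩
    obtain ⟨n, hn⟩ := hA x fun p hp => hx p (Finset.mem_union_left _ hp)
    obtain ⟨m, hm⟩ := hB x fun p hp => hx p (Finset.mem_union_right _ hp)
    refine ⟨n + m, fun c hc z hz => ?_⟩
    obtain ⟨a, ha, b, hb, rfl⟩ := Submodule.mem_sup.1 (hAB ▸ hz)
    obtain ⟨v, hv⟩ := hn c (Ideal.pow_le_pow_right (Nat.le_add_right n m) hc) a ha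
    obtain ⟨w, hw⟩ := hm c (Ideal.pow_le_pow_right (Nat.le_add_left m n) hc) b hb
    exact ⟨v + w, by rw [smul_add, hv, hw, smul_add]⟩
  push Not at hA
  by_cases hS : S = ⊥
  · refine ⟨∅, by simp, fun x _ => ⟨0, fun c _ z hz => ⟨0, ?_⟩⟩⟩
    rw [hS, Submodule.mem_bot] at hz
    rw [hz, smul_zero, smul_zero]
  -- `S` is irreducible, hence secondary
  have hsec : ∀ a : R, (∃ k : ℕ, ∀ z ∈ S, a ^ k • z = 0) ∨ ∀ z ∈ S, ∃ w ∈ S, a • w = z := by
    intro a
    let f : ℕ → Submodule R N := fun k => S.map (LinearMap.lsmul R N (a ^ k))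
    have hf : Antitone f := antitone_nat_of_succ_le fun k => by
      rintro _ ⟨z, hz, rfl⟩
      exact ⟨a • z, S.smul_mem a hz, show a ^ k • a • z = a ^ (k + 1) • z by rw [← mul_smul, ← pow_succ]⟩
    obtain ⟨k, hk⟩ := IsArtinian.monotone_stabilizes ⟨fun k => OrderDual.toDual (f k), hf⟩
    have hstab : ∀ j, k ≤ j → f k = f j := fun j hj => hk j hj
    have hsup : f k ⊔ (S ⊓ LinearMap.ker (LinearMap.lsmul R N (a ^ k))) = S := by
      refine le_antisymm (sup_le ?_ inf_le_left) fun z hz => ?_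
      · rintro _ ⟨z, hz, rfl⟩
        exact S.smul_mem _ hz
      · have hzk : a ^ k • z ∈ f (k + k) := hstab (k + k) (by omega) ▸ ⟨z, hz, rfl⟩
        obtain ⟨y, hy, hy'⟩ := hzk
        refine Submodule.mem_sup.2 ⟨a ^ k • y, ⟨y, hy, rfl⟩, z - a ^ k • y,
          ⟨S.sub_mem hz (S.smul_mem _ hy), ?_⟩, by abel⟩
        show a ^ k • (z - a ^ k • y) = 0
        rw [smul_sub, sub_eq_zero, ← mul_smul, ← pow_add]
        exact hy'.symm
    by_cases h1 : S ⊓ LinearMap.ker (LinearMap.lsmul R N (a ^ k)) = S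
    · exact Or.inl ⟨k, fun z hz => ((inf_eq_left.1 h1) hz :)⟩
    refine Or.inr fun z hz => ?_
    have hle : f k ≤ S := fun z hz => hsup ▸ Submodule.mem_sup_left hz
    have h2 : f k = S := by
      by_contra h2
      exact hA _ _ (lt_of_le_of_ne hle h2) (lt_of_le_of_ne inf_le_left h1) hsup
    obtain ⟨y, hy, hy'⟩ : z ∈ f (k + 1) := (hstab (k + 1) (by omega)) ▸ h2.symm ▸ hz
    refine ⟨a ^ k • y, S.smul_mem _ hy, ?_⟩
    rw [← mul_smul, ← pow_succ']
    exact hy'
  let q : Ideal R :=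
    { carrier := {a | ∃ k : ℕ, ∀ z ∈ S, a ^ k • z = 0}
      zero_mem' := ⟨1, fun z _ => by simp⟩
      add_mem' := by
        rintro a b ⟨k, hk⟩ ⟨l, hl⟩
        refine ⟨k + l, fun z hz => ?_⟩
        rw [add_pow, Finset.sum_smul]
        refine Finset.sum_eq_zero fun i _ => ?_
        rw [mul_smul]
        rcases le_or_gt k i with h | h
        · rw [← Nat.sub_add_cancel h, pow_add, mul_smul, mul_smul,
            hk _ (S.smul_mem _ (S.smul_mem _ hz)), smul_zero]
        · rw [mul_smul, show k + l - i = (k - i) + l by omega, pow_add, mul_smul,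
            hl _ (S.smul_mem _ hz), smul_zero, smul_zero]
      smul_mem' := by
        rintro r a ⟨k, hk⟩
        exact ⟨k, fun z hz => by rw [smul_eq_mul, mul_pow, mul_smul, hk z hz, smul_zero]⟩ }
  have hq : q.IsPrime := by
    refine ⟨fun htop => hS ((Submodule.eq_bot_iff S).2 fun z hz => ?_), fun {a b} hab => ?_⟩
    · obtain ⟨k, hk⟩ := (htop ▸ Submodule.mem_top : (1 : R) ∈ q)
      simpa using hk z hz
    · refine or_iff_not_imp_left.2 fun ha => ?_
      have hs := (hsec a).resolve_left ha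
      obtain ⟨k, hk⟩ := hab
      refine ⟨k, fun z hz => ?_⟩
      have : ∀ (j : ℕ), ∀ z ∈ S, ∃ w ∈ S, a ^ j • w = z := fun j => by
        induction j with
        | zero => exact fun z hz => ⟨z, hz, by simp⟩
        | succ j ihj =>
          intro z hz
          obtain ⟨v, hv, rfl⟩ := hs z hz
          obtain ⟨w, hw, rfl⟩ := ihj v hv
          exact ⟨w, hw, by rw [pow_succ', mul_smul]⟩
      obtain ⟨w, hw, rfl⟩ := this k z hz
      rw [← mul_smul, ← mul_pow, mul_comm b a]
      exact hk w hw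
  by_cases hqm : q = 𝔪
  · obtain ⟨s, hs⟩ := (IsNoetherian.noetherian 𝔪 : (𝔪).FG)
    refine ⟨∅, by simp, fun x _ => ?_⟩
    let ann : Ideal R := S.annihilator
    have hrad : q ≤ ann.radical := fun a ⟨k, hk⟩ => ⟨k, Submodule.mem_annihilator.2 hk⟩
    obtain ⟨n, hn⟩ := Ideal.exists_pow_le_of_le_radical_of_fg (hqm ▸ hrad) ⟨s, hs⟩
    exact ⟨n, fun c hc z hz => ⟨0, by rw [smul_zero, Submodule.mem_annihilator.1 (hn hc) z hz]⟩⟩
  · refine ⟨{q}, fun p hp => by rw [Finset.mem_singleton.1 hp]; exact ⟨hq, hqm⟩, fun x hx => ⟨0, fun c _ z hz => ?_⟩⟩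
    obtain ⟨w, -, hw⟩ := (hsec x).resolve_left (hx q (Finset.mem_singleton_self q)) (c • z)
      (S.smul_mem c hz)
    exact ⟨w, hw⟩

/-- An element of a given primary ideal, regular on a torsion free module and avoiding given
primes. -/
theorem exists_regular_avoiding (M : Type u) [AddCommGroup M] [Module R M] [Module.Finite R M]
    (hM : DRing.torsionSub 𝔪 M = ⊥) (P : Finset (Ideal R)) (hP : ∀ p ∈ P, p.IsPrime ∧ p ≠ 𝔪)
    (n : ℕ) : ∃ x ∈ 𝔪 ^ n, IsSMulRegular M x ∧ ∀ p ∈ P, x ∉ p := by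
  classical
  have hfin : (associatedPrimes R M ∪ (P : Set (Ideal R))).Finite :=
    (associatedPrimes.finite R M).union P.finite_toSet
  have hprime : ∀ p ∈ associatedPrimes R M ∪ (P : Set (Ideal R)), p.IsPrime ∧ p ≠ 𝔪 := by
    rintro p (hp | hp)
    · refine ⟨IsAssociatedPrime.isPrime hp, fun e => ?_⟩
      have h' := hp
      subst e
      obtain ⟨-, z, hz⟩ := (AssociatedPrimes.mem_iff.1 h')
      have hz0 : z = 0 := by
        by_contra hz0
        obtain ⟨k, hk⟩ := Ideal.exists_pow_le_of_le_radical_of_fg hz.le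
          (IsNoetherian.noetherian (𝔪))
        exact hz0 ((Submodule.eq_bot_iff _).1 hM z ⟨k, fun a ha =>
          (by simpa [Submodule.mem_colon_singleton] using hk ha)⟩)
      subst hz0
      have : ((⊥ : Submodule R M).colon {0}).radical = ⊤ := by
        rw [Ideal.radical_eq_top]; ext r; simp
      exact (Ideal.IsMaximal.ne_top (inferInstance : (𝔪).IsMaximal)) (hz.trans this)
    · exact hP p hp
  have hsub : ¬ ((𝔪 ^ n : Ideal R) : Set R) ⊆ ⋃ p ∈ associatedPrimes R M ∪ (P : Set (Ideal R)), p := by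
    rw [Ideal.subset_union_prime_finite hfin ⊥ ⊥ fun p hp _ _ => (hprime p hp).1]
    rintro ⟨p, hp, hle⟩
    have := (hprime p hp).1
    exact (hprime p hp).2 ((IsLocalRing.maximalIdeal.isMaximal R).eq_of_le this.ne_top
      (Ideal.IsPrime.le_of_pow_le hle)).symm
  obtain ⟨x, hx, hx'⟩ := Set.not_subset.1 hsub
  refine ⟨x, hx, ?_, fun p hp h => hx' (Set.mem_biUnion (Or.inr hp) h)⟩
  by_contra hreg
  have : x ∈ ⋃ p ∈ associatedPrimes R M, (p : Set R) := by
    rw [biUnion_associatedPrimes_eq_compl_regular]; exact hreg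
  obtain ⟨p, hp, hxp⟩ := Set.mem_iUnion₂.1 this
  exact hx' (Set.mem_biUnion (Or.inl hp) hxp)

theorem isArtinian_torsionSub (M : Type u) [AddCommGroup M] [Module R M] [Module.Finite R M] :
    IsArtinian R (DRing.torsionSub 𝔪 M) :=
  InjHull.Artinian.isArtinian_of_isPowerTorsion_of_isNoetherian 𝔪 (IsNoetherian.noetherian _) _
    (isPowerTorsion_torsionSub 𝔪 M)

/-- Local cohomology of a finite module at the maximal ideal is Artinian. -/
theorem isArtinian_H (i : ℕ) : ∀ (M : Type u) [AddCommGroup M] [Module R M] [Module.Finite R M],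
    IsArtinian R (LocCoh.H 𝔪 i M) := by
  induction i with
  | zero =>
    intro M _ _ _
    have := isArtinian_torsionSub (R := R) M
    exact LinearEquiv.isArtinian_iff
      ((lcZeroIso 𝔪).app (ModuleCat.of R M)).toLinearEquiv |>.2 this
  | succ i ih =>
    intro M _ _ _
    let T := DRing.torsionSub 𝔪 M
    have hT0 : Subsingleton (LocCoh.H 𝔪 (i + 1) T) :=
      lc_subsingleton_of_isPowerTorsion 𝔪 i (ModuleCat.of R T) (isPowerTorsion_torsionSub 𝔪 M)
    have hinj : Function.Injective (Hmap 𝔪 (i + 1) T.mkQ) := by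
      rw [← LinearMap.ker_eq_bot, Submodule.eq_bot_iff]
      intro z hz
      obtain ⟨w, rfl⟩ := (exact_map_map 𝔪 T.injective_subtype T.mkQ_surjective
        (LinearMap.exact_subtype_mkQ T) (i + 1) z).1 hz
      rw [hT0.elim w 0, map_zero]
    suffices IsArtinian R (LocCoh.H 𝔪 (i + 1) (M ⧸ T)) from isArtinian_of_injective _ hinj
    obtain ⟨x, hx, hreg, -⟩ := exists_regular_avoiding (M ⧸ T) (torsionSub_quotient_eq_bot 𝔪 M) ∅
      (by simp) 1
    rw [pow_one] at hx
    let f := LinearMap.lsmul R (M ⧸ T) x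
    let g := (x • (⊤ : Submodule R (M ⧸ T))).mkQ
    have hex : Function.Exact f g := by
      intro z
      rw [Submodule.mkQ_apply, Submodule.Quotient.mk_eq_zero, Submodule.mem_smul_pointwise_iff_exists]
      simp [f]
    have := ih (QuotSMulTop x (M ⧸ T))
    let d : LocCoh.H 𝔪 i (QuotSMulTop x (M ⧸ T)) →ₗ[R] LocCoh.H 𝔪 (i + 1) (M ⧸ T) :=
      Seq.δ 𝔪 (f := f) (g := g) hreg (Submodule.mkQ_surjective _) hex i
    have hr : IsArtinian R (LinearMap.range d) :=
      isArtinian_of_surjective _ _ d.surjective_rangeRestrict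
    have hle : LocCoh.torsionBy 𝔪 (LocCoh.H 𝔪 (i + 1) (M ⧸ T)) ≤ LinearMap.range d := by
      intro z hz
      obtain ⟨w, hw⟩ := (exact_δ_map 𝔪 (f := f) (g := g) hreg (Submodule.mkQ_surjective _) hex i z).1
        ((Hmap_lsmul 𝔪 (i + 1) x z).trans
          ((Submodule.mem_torsionBySet_iff (𝔪 : Set R) z).1 hz ⟨x, hx⟩))
      exact ⟨w, hw⟩
    exact InjHull.Artinian.isArtinian_of_torsionBy 𝔪 (IsNoetherian.noetherian _) _
      (isPowerTorsion_lc 𝔪 (i + 1) _) (isArtinian_of_injective (Submodule.inclusion hle)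
        (Submodule.inclusion_injective hle))

/-- Top local cohomology at any ideal is Artinian. -/
theorem isArtinian_H_supportDim (a : Ideal R) (M : Type u) [AddCommGroup M] [Module R M]
    [Module.Finite R M] (n : ℕ) (hn : Module.supportDim R M ≤ n) :
    IsArtinian R (LocCoh.H a n M) := by
  by_cases ha : a = ⊤
  · have : Subsingleton (LocCoh.H a n M) :=
      lc_subsingleton_of_smul_bijective a n _ (b := 1) (ha ▸ Submodule.mem_top)
        (by simp only [one_smul]; exact Function.bijective_id)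
    infer_instance
  have hle := IsLocalRing.le_maximalIdeal ha
  have hsurj := (HmapOfLE_surjective_injective_of_local M n a 𝔪 hle).1 fun p _ hp =>
    lc_subsingleton_of_supportDim_lt n _ _ _
      (supportDim_localizedModule_lt M p (fun e => hp e.ge) n
        (hn.trans_lt (by exact_mod_cast n.lt_succ_self)))
  have := isArtinian_H (R := R) n M
  exact isArtinian_of_surjective _ ((Dual2.HmapOfLE hle n).app (ModuleCat.of R M)).hom hsurj

end Groth.Agent.Lib.LCFin.Artinian
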