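import Groth.Agent.Lib.LCFin.Annihilator
import Groth.Agent.Lib.LCFin.Artinian

/-!
Finite length local cohomology.
-/

universe u

open Groth.Agent.Lib.LocalCoh

namespace Groth.Agent.Lib.LCFin.Finite

variable {A : Type u} [CommRing A] [IsLocalRing A] [IsNoetherianRing A]
  (M : Type u) [AddCommGroup M] [Module A M] [Module.Finite A M] (i : ℕ)

/-- An Artinian module killed by a power of the maximal ideal has finite length. -/
theorem isFiniteLength_of_artinian (X : Type u) [AddCommGroup X] [Module A X] [IsArtinian A X]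
    (k : ℕ) (h : ∀ c ∈ IsLocalRing.maximalIdeal A ^ k, ∀ z : X, c • z = 0) :
    IsFiniteLength A X := by
  have hTE := (Module.isTorsionBySet_iff_subset_annihilator A X).2
    (fun c hc => Module.mem_annihilator.2 (h c hc) :
      ((IsLocalRing.maximalIdeal A ^ k : Ideal A) : Set A) ⊆ Module.annihilator A X)
  let := hTE.module
  have : IsScalarTower A (A ⧸ IsLocalRing.maximalIdeal A ^ k) X := hTE.isScalarTower
  have : IsArtinianRing (A ⧸ IsLocalRing.maximalIdeal A ^ k) := by
    have h := (InjHull.Complete.isFiniteLength_quotient_pow (R := A) (IsLocalRing.maximalIdeal A) k)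
    exact isArtinian_of_tower A (isFiniteLength_iff_isNoetherian_isArtinian.1 h).2
  have : IsArtinian (A ⧸ IsLocalRing.maximalIdeal A ^ k) X := isArtinian_of_tower A inferInstance
  have : IsNoetherian (A ⧸ IsLocalRing.maximalIdeal A ^ k) X :=
    (IsSemiprimaryRing.isNoetherian_iff_isArtinian).2 inferInstance
  have : Module.Finite A X := Module.Finite.trans (A ⧸ IsLocalRing.maximalIdeal A ^ k) _
  exact isFiniteLength_iff_isNoetherian_isArtinian.2 ⟨inferInstance, inferInstance⟩

theorem isFiniteLength_H_iff :
    IsFiniteLength A (LocCoh.H (IsLocalRing.maximalIdeal A) i M) ↔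
      IsLocalRing.maximalIdeal A ≤
        (Module.annihilator A (LocCoh.H (IsLocalRing.maximalIdeal A) i M)).radical := by
  constructor
  · intro h
    obtain ⟨hN, -⟩ := isFiniteLength_iff_isNoetherian_isArtinian.1 h
    obtain ⟨n, hn⟩ := exists_pow_smul_eq_zero (IsLocalRing.maximalIdeal A)
      (LinearMap.id : LocCoh.H (IsLocalRing.maximalIdeal A) i M →ₗ[A] _)
      fun z => isPowerTorsion_lc (IsLocalRing.maximalIdeal A) i _ z
    exact fun a ha => ⟨n, Module.mem_annihilator.2 fun z => hn _ (Ideal.pow_mem_pow ha n) z⟩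
  · intro h
    obtain ⟨k, hk⟩ := Ideal.exists_pow_le_of_le_radical_of_fg h (IsNoetherian.noetherian _)
    have := LCFin.Artinian.isArtinian_H (R := A) i M
    exact isFiniteLength_of_artinian _ k fun c hc z => Module.mem_annihilator.1 (hk hc) z

end Groth.Agent.Lib.LCFin.Finite
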