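import Groth.Agent.Lib.LCFin.Seq
import Groth.Agent.Lib.LocalCoh.Vanishing
import Groth.Agent.Lib.LocalCoh.Away
import Groth.Agent.Lib.LocalCoh.Local
import Mathlib.RingTheory.Flat.FaithfullyFlat.Basic
import Mathlib.RingTheory.LocalProperties.Basic

/-!
Cohomological dimension of an ideal.
-/

universe u

open CategoryTheory CategoryTheory.Limits
open scoped TensorProduct
open Groth.Agent.Lib.LocalCoh Groth.Agent.Lib.LCFin.Seq

namespace Groth.Agent.Lib.LCFin.Cd

variable {R : Type u} [CommRing R]

theorem cdLE_mono {I : Ideal R} {d d' : ℕ} (h : d ≤ d') (hI : LocCoh.CdLE R I d) :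
    LocCoh.CdLE R I d' :=
  fun M _ _ i hi => hI M i (h.trans_lt hi)

variable [IsNoetherianRing R]

theorem cdLE_bot : LocCoh.CdLE R ⊥ 0 := by
  intro M _ _ i hi
  obtain ⟨j, rfl⟩ : ∃ j, i = j + 1 := ⟨i - 1, by omega⟩
  exact lc_subsingleton_bot j (ModuleCat.of R M)

theorem cdLE_sup_span_singleton {I : Ideal R} {d : ℕ} (hI : LocCoh.CdLE R I d) (b : R) :
    LocCoh.CdLE R (I ⊔ Ideal.span {b}) (d + 1) := by
  intro M _ _ i hi
  obtain ⟨j, rfl⟩ : ∃ j, i = j + 1 := ⟨i - 1, by omega⟩
  obtain ⟨δ, -, -, -, hex⟩ := exists_lc_awaySeq b I (ModuleCat.of R M)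
  have h1 : Subsingleton ((localCohomology I j).obj (awayObj b (ModuleCat.of R M))) :=
    hI (awayObj b (ModuleCat.of R M)) j (by omega)
  have h2 : Subsingleton ((localCohomology I (j + 1)).obj (ModuleCat.of R M)) :=
    hI M (j + 1) (by omega)
  refine subsingleton_of_forall_eq 0 fun x => ?_
  obtain ⟨y, rfl⟩ := (hex j x).1 (Subsingleton.elim _ _)
  rw [h1.elim y 0, map_zero]

theorem cdLE_card (s : Finset R) : LocCoh.CdLE R (Ideal.span (s : Set R)) s.card := by
  classical
  induction s using Finset.induction with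
  | empty => simpa using cdLE_bot
  | insert b s hb ih =>
    rw [Finset.coe_insert, Ideal.span_insert, sup_comm, Finset.card_insert_of_notMem hb]
    exact cdLE_sup_span_singleton ih b

theorem exists_cdLE (I : Ideal R) : ∃ n, LocCoh.CdLE R I n := by
  obtain ⟨s, hs⟩ := IsNoetherian.noetherian I
  exact ⟨s.card, hs ▸ cdLE_card s⟩

theorem cdLE_of_ringKrullDim (I : Ideal R) (d : ℕ) (hd : ringKrullDim R ≤ d) :
    LocCoh.CdLE R I d := fun M _ _ i hi =>
  lc_subsingleton_of_supportDim_lt i R I M
    (((Module.supportDim_le_ringKrullDim R M).trans hd).trans_lt (by exact_mod_cast hi))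

omit [IsNoetherianRing R] in
/-- Vanishing for `R` gives vanishing for finite free modules. -/
theorem subsingleton_pi {I : Ideal R} {i : ℕ} (h : Subsingleton (LocCoh.H I i R)) (s : ℕ) :
    Subsingleton (LocCoh.H I i (Fin s → R)) := by
  induction s with
  | zero =>
    exact ModuleCat.subsingleton_of_isZero ((localCohomology I i).map_isZero
      (ModuleCat.isZero_of_subsingleton (ModuleCat.of R (Fin 0 → R))))
  | succ s ih =>
    let f : (Fin s → R) →ₗ[R] (Fin (s + 1) → R) :=
      { toFun := fun v => Fin.cons 0 v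
        map_add' := fun a b => by ext j; cases j using Fin.cases <;> simp
        map_smul' := fun r a => by ext j; cases j using Fin.cases <;> simp }
    refine subsingleton_mid I (f := f) (g := LinearMap.proj 0) (fun a b e => ?_)
      (fun r => ⟨fun _ => r, rfl⟩) (fun v => ⟨fun hv => ?_, ?_⟩) i ih h
    · funext j
      simpa [f] using congrFun e j.succ
    · refine ⟨fun j => v j.succ, ?_⟩
      funext j
      cases j using Fin.cases with
      | zero => simpa [f] using hv.symm
      | succ j => simp [f]
    · rintro ⟨w, rfl⟩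
      rfl

theorem cdLE_of_subsingleton_self (I : Ideal R) (d : ℕ)
    (h : ∀ i : ℕ, d < i → Subsingleton (LocCoh.H I i R)) : LocCoh.CdLE R I d := by
  obtain ⟨n, hn⟩ := exists_cdLE I
  have key : ∀ k i, d < i → n < i + k → ∀ (N : Type u) [AddCommGroup N] [Module R N]
      [Module.Finite R N], Subsingleton (LocCoh.H I i N) := by
    intro k
    induction k with
    | zero => exact fun i _ hi N _ _ _ => hn N i hi
    | succ k ih =>
      intro i hi hik N _ _ _
      obtain ⟨s, f, hf⟩ := Module.Finite.exists_fin' R N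
      exact subsingleton_right I (f := (LinearMap.ker f).subtype) (Submodule.injective_subtype _) hf
        (LinearMap.exact_subtype_ker_map f) i (subsingleton_pi (h i hi) s)
        (ih (i + 1) (by omega) (by omega) _)
  exact fun M _ _ i hi => subsingleton_of_forall_fg I i (key (n + 1) i hi (by omega))

theorem cdLE_map {B : Type u} [CommRing B] [IsNoetherianRing B] [Algebra R B] {I : Ideal R} {d : ℕ}
    (h : LocCoh.CdLE R I d) : LocCoh.CdLE B (I.map (algebraMap R B)) d := by
  intro M _ _ i hi
  obtain ⟨e⟩ := nonempty_lcRestrictIso B I (ModuleCat.of B M) i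
  have : Subsingleton ((localCohomology I i).obj (resObj R (ModuleCat.of B M))) :=
    h (resObj R (ModuleCat.of B M)) i hi
  exact e.toLinearEquiv.toEquiv.subsingleton

theorem cdLE_of_map {B : Type u} [CommRing B] [IsNoetherianRing B] [Algebra R B]
    [Module.FaithfullyFlat R B] {I : Ideal R} {d : ℕ}
    (h : LocCoh.CdLE B (I.map (algebraMap R B)) d) : LocCoh.CdLE R I d := by
  intro M _ _ i hi
  obtain ⟨e⟩ := nonempty_lcBaseChangeIso B I (ModuleCat.of R M) i
  have : Subsingleton ((localCohomology (I.map (algebraMap R B)) i).obj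
      (bcObj B (ModuleCat.of R M))) := h _ i hi
  have hs : Subsingleton (B ⊗[R] ((localCohomology I i).obj (ModuleCat.of R M))) :=
    e.toLinearEquiv.toEquiv.subsingleton
  exact Module.FaithfullyFlat.lTensor_reflects_triviality R B _

theorem cdLE_of_localizations {I : Ideal R} {d : ℕ}
    (h : ∀ (p : Ideal R) [p.IsPrime], LocCoh.CdLE (Localization.AtPrime p)
      (I.map (algebraMap R (Localization.AtPrime p))) d) : LocCoh.CdLE R I d := by
  intro M _ _ i hi
  refine Module.subsingleton_of_localization_maximal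
    (fun P [P.IsMaximal] => LocalizedModule P.primeCompl (LocCoh.H I i M))
    (fun P _ => LocalizedModule.mkLinearMap (R := R) P.primeCompl (LocCoh.H I i M)) (fun P hP => ?_)
  obtain ⟨e⟩ := nonempty_lc_localizedModule_equiv I P.primeCompl M i
  have := h P (LocalizedModule P.primeCompl M) i hi
  exact e.toEquiv.subsingleton

lemma subsingleton_H_zero_iff (I : Ideal R) (M : Type u) [AddCommGroup M] [Module R M] :
    Subsingleton (LocCoh.H I 0 M) ↔ DRing.torsionSub I M = ⊥ := by
  rw [← Submodule.subsingleton_iff_eq_bot]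
  exact ((lcZeroIso I).app (ModuleCat.of R M)).toLinearEquiv.toEquiv.subsingleton_congr

omit [IsNoetherianRing R] in
lemma isPowerTorsion_torsionSub (J : Ideal R) (M : Type u) [AddCommGroup M] [Module R M] :
    LocCoh.IsPowerTorsion J (DRing.torsionSub J M) :=
  fun x => let ⟨n, hn⟩ := x.2; ⟨n, fun c hc => Subtype.ext (hn c hc)⟩

/-- The quotient by the torsion submodule is torsion free. -/
theorem torsionSub_quotient_eq_bot (J : Ideal R) (M : Type u) [AddCommGroup M] [Module R M] :
    DRing.torsionSub J (M ⧸ DRing.torsionSub J M) = ⊥ := by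
  refine (Submodule.eq_bot_iff _).2 fun x ⟨k, hk⟩ => ?_
  obtain ⟨m, rfl⟩ := (DRing.torsionSub J M).mkQ_surjective x
  obtain ⟨s, hs⟩ := (IsNoetherian.noetherian (J ^ k) : (J ^ k).FG)
  have : ∀ c ∈ (s : Set R), ∃ n : ℕ, ∀ a ∈ J ^ n, a • c • m = 0 := fun c hc =>
    (Submodule.Quotient.mk_eq_zero _).1 (hk c (hs ▸ Submodule.subset_span hc))
  choose! n hn using this
  refine (Submodule.Quotient.mk_eq_zero _).2 ⟨k + s.sup n, fun a ha => ?_⟩
  rw [pow_add] at ha
  refine Submodule.mul_induction_on ha (fun c hc d hd => ?_) fun x y hx hy => by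
    rw [add_smul, hx, hy, add_zero]
  rw [← hs] at hc
  refine Submodule.span_induction (fun c hc => ?_) (by simp) (fun x y _ _ hx hy => by
    rw [add_mul, add_smul, hx, hy, add_zero]) (fun r x _ hx => by
    rw [smul_eq_mul, mul_assoc, mul_smul, hx, smul_zero]) hc
  rw [mul_comm, mul_smul]
  exact hn c hc d (Ideal.pow_le_pow_right (Finset.le_sup (f := n) hc) hd)

/-- A torsion free module embeds into a torsion free injective module. -/
theorem exists_injective_torsionFree (J : Ideal R) (N : Type u) [AddCommGroup N] [Module R N]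
    (hN : DRing.torsionSub J N = ⊥) :
    ∃ (P : ModuleCat.{u} R) (f : N →ₗ[R] P), CategoryTheory.Injective P ∧
      DRing.torsionSub J P = ⊥ ∧ Function.Injective f := by
  let E := Injective.under (ModuleCat.of R N)
  have : CategoryTheory.Injective (ModuleCat.of R E) :=
    inferInstanceAs (CategoryTheory.Injective E)
  have hE : Module.Injective R E := Module.injective_module_of_injective_object R E
  let T := DRing.torsionSub J E
  obtain ⟨r, hr⟩ := (injective_torsionSub J E).out T.subtype T.injective_subtype LinearMap.id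
  let K := LinearMap.ker r
  let π : E →ₗ[R] K := LinearMap.codRestrict _ (LinearMap.id - T.subtype ∘ₗ r) fun x => by
    rw [LinearMap.mem_ker, LinearMap.sub_apply, map_sub, LinearMap.id_apply,
      LinearMap.comp_apply, hr (r x), LinearMap.id_apply, sub_self]
  have hK : Module.Injective R K := by
    refine ⟨fun X Y _ _ _ _ s hs g => ?_⟩
    obtain ⟨h, hh⟩ := hE.out s hs (K.subtype ∘ₗ g)
    refine ⟨π ∘ₗ h, fun x => Subtype.ext ?_⟩
    show h (s x) - (r (h (s x)) : E) = (g x : E)
    rw [hh x, LinearMap.comp_apply, Submodule.coe_subtype, show r (g x : E) = 0 from (g x).2]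
    simp
  refine ⟨ModuleCat.of R K, π ∘ₗ (Injective.ι (ModuleCat.of R N)).hom,
    Module.injective_object_of_injective_module R K, ?_, ?_⟩
  · refine (Submodule.eq_bot_iff _).2 fun x hx => Subtype.ext ?_
    obtain ⟨n, hn⟩ := hx
    have hxT : x.1 ∈ T := ⟨n, fun c hc => congrArg Subtype.val (hn c hc)⟩
    have h1 : r x.1 = ⟨x.1, hxT⟩ := hr ⟨x.1, hxT⟩
    exact (congrArg Subtype.val (h1.symm.trans x.2) :)
  · rw [← LinearMap.ker_eq_bot, Submodule.eq_bot_iff]
    intro x hx
    set z := (Injective.ι (ModuleCat.of R N)).hom x with hz'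
    have hz : z = (r z : E) := sub_eq_zero.1 (congrArg Subtype.val hx)
    obtain ⟨n, hn⟩ := (r z).2
    refine (Submodule.eq_bot_iff _).1 hN x ⟨n, fun c hc => ?_⟩
    apply (ModuleCat.mono_iff_injective (Injective.ι (ModuleCat.of R N))).1 inferInstance
    rw [map_zero]
    refine ((Injective.ι (ModuleCat.of R N)).hom.map_smul c x).trans ?_
    rw [← hz', hz]
    exact hn c hc

/-- `cd (I ⊔ J) ≤ cd I + cd J`. -/
theorem cdLE_sup {I J : Ideal R} {a b : ℕ} (hI : LocCoh.CdLE R I a) (hJ : LocCoh.CdLE R J b) :
    LocCoh.CdLE R (I ⊔ J) (a + b) := by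
  suffices key : ∀ (b : ℕ) (M : Type u) [AddCommGroup M] [Module R M],
      (∀ q, b < q → Subsingleton (LocCoh.H J q M)) →
      ∀ i, a + b < i → Subsingleton (LocCoh.H (I ⊔ J) i M) from
    fun M _ _ i hi => key b M (fun q hq => hJ M q hq) i hi
  have key0 : ∀ (i : ℕ) (N : Type u) [AddCommGroup N] [Module R N],
      (∀ q, Subsingleton (LocCoh.H J q N)) → Subsingleton (LocCoh.H (I ⊔ J) i N) := by
    intro i
    induction i with
    | zero =>
      intro N _ _ hN
      refine (subsingleton_H_zero_iff _ N).2 ((Submodule.eq_bot_iff _).2 fun x ⟨n, hn⟩ => ?_)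
      exact (Submodule.eq_bot_iff _).1 ((subsingleton_H_zero_iff J N).1 (hN 0)) x
        ⟨n, fun r hr => hn r (Ideal.pow_right_mono le_sup_right n hr)⟩
    | succ i ih =>
      intro N _ _ hN
      obtain ⟨P, f, hPi, hPt, hf⟩ :=
        exists_injective_torsionFree J N ((subsingleton_H_zero_iff J N).1 (hN 0))
      have hex : Function.Exact f (LinearMap.range f).mkQ := f.exact_map_mkQ_range
      have hPJ : ∀ q, Subsingleton (LocCoh.H J q P) := fun q => by
        cases q with
        | zero => exact (subsingleton_H_zero_iff J P).2 hPt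
        | succ q => exact lc_subsingleton_of_injective J P q
      refine subsingleton_left (I ⊔ J) hf (Submodule.mkQ_surjective _) hex i (ih _ fun q => ?_)
        (lc_subsingleton_of_injective (I ⊔ J) P i)
      exact subsingleton_right J hf (Submodule.mkQ_surjective _) hex q (hPJ q) (hN (q + 1))
  intro b
  induction b with
  | zero =>
    intro M _ _ hM i hi
    obtain ⟨j, rfl⟩ : ∃ j, i = j + 1 := ⟨i - 1, by omega⟩
    let T := DRing.torsionSub J M
    have hex : Function.Exact T.subtype T.mkQ := LinearMap.exact_subtype_mkQ T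
    have hTtor : LocCoh.IsPowerTorsion J T := isPowerTorsion_torsionSub J M
    obtain ⟨e⟩ := exists_lc_linearEquiv_sup_of_isPowerTorsion I (ModuleCat.of R T) hTtor (j + 1)
    have : Subsingleton ((localCohomology I (j + 1)).obj (ModuleCat.of R T)) := hI T _ (by omega)
    refine subsingleton_mid (I ⊔ J) T.injective_subtype T.mkQ_surjective hex (j + 1)
      e.toLinearEquiv.toEquiv.subsingleton (key0 _ _ fun q => ?_)
    cases q with
    | zero => exact (subsingleton_H_zero_iff J _).2 (torsionSub_quotient_eq_bot J M)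
    | succ q =>
      exact subsingleton_right J T.injective_subtype T.mkQ_surjective hex (q + 1)
        (hM _ (by omega)) (lc_subsingleton_of_isPowerTorsion J _ (ModuleCat.of R T) hTtor)
  | succ b ih =>
    intro M _ _ hM i hi
    obtain ⟨j, rfl⟩ : ∃ j, i = j + 1 := ⟨i - 1, by omega⟩
    let f := (Injective.ι (ModuleCat.of R M)).hom
    have hf : Function.Injective f := (ModuleCat.mono_iff_injective _).1 inferInstance
    have hex : Function.Exact f (LinearMap.range f).mkQ := f.exact_map_mkQ_range
    refine subsingleton_left (I ⊔ J) hf (Submodule.mkQ_surjective _) hex j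
      (ih _ (fun q hq => ?_) j (by omega))
      (lc_subsingleton_of_injective (I ⊔ J) (Injective.under (ModuleCat.of R M)) j)
    obtain ⟨q', rfl⟩ : ∃ q', q = q' + 1 := ⟨q - 1, by omega⟩
    exact subsingleton_right J hf (Submodule.mkQ_surjective _) hex (q' + 1)
      (lc_subsingleton_of_injective J (Injective.under (ModuleCat.of R M)) q') (hM _ (by omega))

end Groth.Agent.Lib.LCFin.Cd
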