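import Groth.Agent.Lib.LCFin.Gorenstein
import Groth.Agent.Lib.InjHull.Matlis
import Mathlib.Algebra.Homology.DerivedCategory.Ext.ExactSequences
import Mathlib.Algebra.Homology.DerivedCategory.Ext.EnoughProjectives
import Mathlib.Algebra.Category.ModuleCat.Projective

/-!
Local duality over a Gorenstein local ring.
-/

universe u

open CategoryTheory
open Groth.Agent.Lib.LocalCoh Groth.Agent.Lib.LCFin.Seq Groth.Agent.Lib.LCFin.Cd
open Groth.Agent.Lib.LCFin.Top

namespace Groth.Agent.Lib.LCFin.Duality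

variable {R : Type u} [CommRing R]

/-- Two injective maps with the same image identify their sources. -/
theorem nonempty_equiv_of_range_eq {A B C : Type u} [AddCommGroup A] [Module R A] [AddCommGroup B]
    [Module R B] [AddCommGroup C] [Module R C] (a : A →ₗ[R] C) (b : B →ₗ[R] C)
    (ha : Function.Injective a) (hb : Function.Injective b)
    (h : LinearMap.range a = LinearMap.range b) : Nonempty (A ≃ₗ[R] B) :=
  ⟨(LinearEquiv.ofInjective a ha).trans
    ((LinearEquiv.ofEq _ _ h).trans (LinearEquiv.ofInjective b hb).symm)⟩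

/-- Factor through a surjection. -/
theorem exists_factor {A B C : Type u} [AddCommGroup A] [Module R A] [AddCommGroup B] [Module R B]
    [AddCommGroup C] [Module R C] (c : A →ₗ[R] B) (hc : Function.Surjective c) (f : A →ₗ[R] C)
    (h : ∀ a, c a = 0 → f a = 0) : ∃ g : B →ₗ[R] C, ∀ a, g (c a) = f a := by
  have h' : LinearMap.ker c ≤ LinearMap.ker f := fun a ha => h a ha
  refine ⟨Submodule.liftQ (LinearMap.ker c) f h' ∘ₗ
    (c.quotKerEquivOfSurjective hc).symm.toLinearMap, fun a => ?_⟩
  rw [LinearMap.comp_apply, LinearEquiv.coe_coe,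
    show (c.quotKerEquivOfSurjective hc).symm (c a) = Submodule.Quotient.mk a from
      (LinearEquiv.symm_apply_eq _).2 rfl, Submodule.liftQ_apply]

variable (I : Ideal R) (i : ℕ)

/-- The evaluation `H^i(M) → Hom(Hom(M, R), H^i(R))`. -/
noncomputable def η (M : Type u) [AddCommGroup M] [Module R M] :
    LocCoh.H I i M →ₗ[R] ((M →ₗ[R] R) →ₗ[R] LocCoh.H I i R) :=
  LinearMap.flip
    { toFun := fun φ => Hmap I i φ
      map_add' := fun a b => Hmap_add I i a b
      map_smul' := fun r a => Hmap_smul I i r a }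

lemma η_apply {M : Type u} [AddCommGroup M] [Module R M] (x : LocCoh.H I i M) (φ : M →ₗ[R] R) :
    η I i M x φ = Hmap I i φ x := rfl

lemma η_natural {M N : Type u} [AddCommGroup M] [Module R M] [AddCommGroup N] [Module R N]
    (f : M →ₗ[R] N) (x : LocCoh.H I i M) (φ : N →ₗ[R] R) :
    η I i N (Hmap I i f x) φ = η I i M x (φ ∘ₗ f) := by
  rw [η_apply, η_apply, Hmap_comp, LinearMap.comp_apply]

lemma Hmap_sum {M N : Type u} [AddCommGroup M] [Module R M] [AddCommGroup N] [Module R N]
    {ι : Type*} (t : Finset ι) (g : ι → (M →ₗ[R] N)) (z : LocCoh.H I i M) :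
    Hmap I i (∑ j ∈ t, g j) z = ∑ j ∈ t, Hmap I i (g j) z := by
  induction t using Finset.cons_induction with
  | empty =>
    rw [Finset.sum_empty, Finset.sum_empty, show (0 : M →ₗ[R] N) = (0 : R) • (0 : M →ₗ[R] N) by simp,
      Hmap_smul, zero_smul, LinearMap.zero_apply]
  | cons a t ha ih => rw [Finset.sum_cons, Hmap_add, LinearMap.add_apply, ih, Finset.sum_cons]

theorem η_free_bijective (s : ℕ) : Function.Bijective (η I i (Fin s → R)) := by
  classical
  let p : Fin s → ((Fin s → R) →ₗ[R] R) := fun j => LinearMap.proj j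
  let ι : Fin s → (R →ₗ[R] (Fin s → R)) := fun j => LinearMap.single R (fun _ => R) j
  have hid : (LinearMap.id : (Fin s → R) →ₗ[R] (Fin s → R)) = ∑ j : Fin s, ι j ∘ₗ p j := by
    refine LinearMap.ext fun v => ?_
    rw [LinearMap.id_apply, LinearMap.sum_apply]
    funext k
    simp [ι, p, Finset.sum_apply, Pi.single_apply]
  refine ⟨?_, fun Φ => ⟨∑ j, Hmap I i (ι j) (Φ (p j)), LinearMap.ext fun φ => ?_⟩⟩
  · rw [← LinearMap.ker_eq_bot, Submodule.eq_bot_iff]
    intro x hx
    rw [show x = Hmap I i LinearMap.id x by rw [Hmap_id]; rfl, hid, Hmap_sum]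
    refine Finset.sum_eq_zero fun j _ => ?_
    rw [Hmap_comp, LinearMap.comp_apply, ← η_apply, LinearMap.mem_ker.1 hx, LinearMap.zero_apply,
      map_zero]
  · have h1 : ∀ j, Hmap I i φ (Hmap I i (ι j) (Φ (p j))) = φ (ι j 1) • Φ (p j) := fun j => by
      rw [← LinearMap.comp_apply, ← Hmap_comp, ← Hmap_lsmul]
      congr 2
      ext
      simp
    rw [η_apply, map_sum]
    simp only [h1, ← map_smul, ← map_sum]
    congr 1
    refine (LinearMap.ext fun v => ?_)
    conv_rhs => rw [← LinearMap.id_apply (R := R) v, hid]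
    rw [LinearMap.sum_apply, LinearMap.sum_apply, map_sum]
    refine Finset.sum_congr rfl fun j _ => ?_
    have : ι j (p j v) = (v j) • ι j 1 := by rw [← map_smul, smul_eq_mul, mul_one]; rfl
    rw [LinearMap.comp_apply, this, map_smul, LinearMap.smul_apply, smul_eq_mul, smul_eq_mul, mul_comm]
    rfl

variable [IsNoetherianRing R]

theorem η_surjective (hinj : Module.Injective R (LocCoh.H I i R)) (M : Type u)
    [AddCommGroup M] [Module R M] [Module.Finite R M] : Function.Surjective (η I i M) := by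
  obtain ⟨s, π, hπ⟩ := Module.Finite.exists_fin' R M
  intro Φ
  obtain ⟨Φ', hΦ'⟩ := hinj.out (LinearMap.lcomp R R π)
    (fun a b h => LinearMap.ext fun m => by
      obtain ⟨v, rfl⟩ := hπ m
      exact LinearMap.congr_fun h v) Φ
  obtain ⟨y, rfl⟩ := (η_free_bijective I i s).2 Φ'
  exact ⟨Hmap I i π y, LinearMap.ext fun φ => (η_natural I i π y φ).trans (hΦ' φ)⟩

theorem η_injective (hcd : LocCoh.CdLE R I i) (hinj : Module.Injective R (LocCoh.H I i R))
    (M : Type u) [AddCommGroup M] [Module R M] [Module.Finite R M] :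
    Function.Injective (η I i M) := by
  obtain ⟨s, π, hπ⟩ := Module.Finite.exists_fin' R M
  rw [← LinearMap.ker_eq_bot, Submodule.eq_bot_iff]
  intro x hx
  obtain ⟨y, rfl⟩ := Hmap_surjective hcd hπ x
  let K := LinearMap.ker π
  let res := LinearMap.lcomp R R K.subtype
  -- the functional defined by `y` factors through the restriction to `K`
  obtain ⟨Ψ₀, hΨ₀⟩ := exists_factor (B := LinearMap.range res) res.rangeRestrict res.surjective_rangeRestrict
    (η I i (Fin s → R) y) fun φ hφ => by
      obtain ⟨ψ, hψ⟩ := exists_factor π hπ φ fun v hv =>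
        LinearMap.congr_fun (congrArg Subtype.val hφ) ⟨v, hv⟩
      rw [show φ = ψ ∘ₗ π from LinearMap.ext fun v => (hψ v).symm, ← η_natural,
        LinearMap.mem_ker.1 hx, LinearMap.zero_apply]
  obtain ⟨Ψ, hΨ⟩ := hinj.out (X := ↥(LinearMap.range res)) (Y := ↥K →ₗ[R] R)
    (LinearMap.range res).subtype (Submodule.injective_subtype _) Ψ₀
  obtain ⟨w, rfl⟩ := η_surjective I i hinj K Ψ
  have hy : Hmap I i K.subtype w = y := by
    refine (η_free_bijective I i s).1 (LinearMap.ext fun φ => ?_)
    rw [η_natural]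
    exact (hΨ (res.rangeRestrict φ)).trans (hΨ₀ φ)
  rw [← hy]
  exact (exact_map_map I (Submodule.injective_subtype _) hπ (LinearMap.exact_subtype_ker_map π) i).apply_apply_eq_zero w

section Ext

variable {M : Type u} [AddCommGroup M] [Module R M]

omit [IsNoetherianRing R] in
lemma subsingleton_ext_free (s j : ℕ) (Y : ModuleCat.{u} R) :
    Subsingleton (Abelian.Ext (ModuleCat.of R (Fin s → R)) Y (j + 1)) :=
  have : Projective (ModuleCat.of R (Fin s → R)) := by
    rw [← IsProjective.iff_projective]; infer_instance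
  subsingleton_of_forall_eq 0 fun e => e.eq_zero_of_projective

/-- The connecting map of `0 → ker π → F → M → 0`. -/
noncomputable def extδ {s : ℕ} (π : (Fin s → R) →ₗ[R] M) (hπ : Function.Surjective π) (j : ℕ) :
    Abelian.Ext (ModuleCat.of R (LinearMap.ker π)) (ModuleCat.of R R) j →ₗ[R]
      Abelian.Ext (ModuleCat.of R M) (ModuleCat.of R R) (j + 1) where
  toFun h := (ses_shortExact (Submodule.injective_subtype _) hπ
    (LinearMap.exact_subtype_ker_map π)).extClass.comp h (add_comm 1 j)
  map_add' a b := Abelian.Ext.comp_add ..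
  map_smul' r a := Abelian.Ext.comp_smul ..

omit [IsNoetherianRing R] in
lemma extδ_surjective {s : ℕ} (π : (Fin s → R) →ₗ[R] M) (hπ : Function.Surjective π) (j : ℕ) :
    Function.Surjective (extδ π hπ j) := fun x => by
  have h0 : (Abelian.Ext.mk₀ (ModuleCat.ofHom π)).comp x (zero_add (j + 1)) = 0 :=
    (subsingleton_ext_free s j _).elim _ _
  exact Abelian.Ext.contravariant_sequence_exact₃
    (ses_shortExact (Submodule.injective_subtype _) hπ (LinearMap.exact_subtype_ker_map π)) _ x h0
    (add_comm 1 j)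

omit [IsNoetherianRing R] in
lemma extδ_eq_zero_iff {s : ℕ} (π : (Fin s → R) →ₗ[R] M) (hπ : Function.Surjective π) (j : ℕ)
    (h : Abelian.Ext (ModuleCat.of R (LinearMap.ker π)) (ModuleCat.of R R) j) :
    extδ π hπ j h = 0 ↔ ∃ g : Abelian.Ext (ModuleCat.of R (Fin s → R)) (ModuleCat.of R R) j,
      (Abelian.Ext.mk₀ (ModuleCat.ofHom (LinearMap.ker π).subtype)).comp g (zero_add j) = h := by
  constructor
  · exact fun h0 => Abelian.Ext.contravariant_sequence_exact₁
      (ses_shortExact (Submodule.injective_subtype _) hπ (LinearMap.exact_subtype_ker_map π)) _ h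
      (add_comm 1 j) h0
  · rintro ⟨g, rfl⟩
    exact ShortComplex.ShortExact.extClass_comp_assoc
      (ses_shortExact (Submodule.injective_subtype _) hπ (LinearMap.exact_subtype_ker_map π)) _
      (h := add_comm 1 j)

omit [IsNoetherianRing R] in
/-- `Ext^0` is `Hom`. -/
noncomputable def ext0 (M : Type u) [AddCommGroup M] [Module R M] :
    Abelian.Ext (ModuleCat.of R M) (ModuleCat.of R R) 0 ≃ₗ[R] (M →ₗ[R] R) :=
  e₀.trans ModuleCat.homLinearEquiv

end Ext

variable [IsLocalRing R]

local notation "𝔪" => IsLocalRing.maximalIdeal R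

/-- Local duality: `H^i(M)` is dual to `Ext^j(M, R)` when `i + j = dim R`. -/
theorem nonempty_duality [LocCoh.IsGorensteinLocalRing R] (d : ℕ) (hd : ringKrullDim R = d)
    (hinj : Module.Injective R (LocCoh.H 𝔪 d R)) (hlow : ∀ i < d, Subsingleton (LocCoh.H 𝔪 i R)) :
    ∀ (j i : ℕ), i + j = d → ∀ (M : Type u) [AddCommGroup M] [Module R M] [Module.Finite R M],
      Nonempty (LocCoh.H 𝔪 i M ≃ₗ[R]
        (Abelian.Ext (ModuleCat.of R M) (ModuleCat.of R R) j →ₗ[R] LocCoh.H 𝔪 d R)) := by
  have hcd := cdLE_of_ringKrullDim 𝔪 d hd.le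
  intro j
  induction j with
  | zero =>
    intro i hi M _ _ _
    obtain rfl : i = d := by omega
    exact ⟨(LinearEquiv.ofBijective (η 𝔪 i M) ⟨η_injective 𝔪 i hcd hinj M, η_surjective 𝔪 i hinj M⟩).trans
      (LinearEquiv.congrLeft (LocCoh.H 𝔪 i R) R (ext0 M).symm)⟩
  | succ j ih =>
    intro i hi M _ _ _
    obtain ⟨s, π, hπ⟩ := Module.Finite.exists_fin' R M
    let K := LinearMap.ker π
    have hex := LinearMap.exact_subtype_ker_map π
    have hδinj : Function.Injective (Seq.δ 𝔪 (Submodule.injective_subtype K) hπ hex i) := by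
      rw [← LinearMap.ker_eq_bot, Submodule.eq_bot_iff]
      intro w hw
      obtain ⟨y, rfl⟩ := (exact_map_δ 𝔪 (Submodule.injective_subtype K) hπ hex i w).1 hw
      rw [(subsingleton_pi (hlow i (by omega)) s).elim y 0, map_zero]
    cases j with
    | zero =>
      obtain rfl : d = i + 1 := by omega
      let c := extδ π hπ 0 ∘ₗ (ext0 K).symm.toLinearMap
      have hc : Function.Surjective c :=
        (extδ_surjective π hπ 0).comp (ext0 K).symm.surjective
      refine nonempty_equiv_of_range_eq (η 𝔪 (i + 1) K ∘ₗ Seq.δ 𝔪 (Submodule.injective_subtype K) hπ hex i)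
        (LinearMap.lcomp R _ c) ((η_injective 𝔪 (i + 1) hcd hinj K).comp hδinj)
        (fun a b h => LinearMap.ext fun x => by
          obtain ⟨z, rfl⟩ := hc x
          exact LinearMap.congr_fun h z) ?_
      have hkc : ∀ ψ : K →ₗ[R] R, c ψ = 0 ↔ ∃ φ : (Fin s → R) →ₗ[R] R, φ ∘ₗ K.subtype = ψ := by
        intro ψ
        rw [show c ψ = extδ π hπ 0 ((ext0 K).symm ψ) from rfl, extδ_eq_zero_iff]
        constructor
        · rintro ⟨g, hg⟩
          refine ⟨ext0 (Fin s → R) g, ?_⟩
          rw [← (ext0 K).apply_symm_apply ψ, ← hg]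
          exact (congrArg ModuleCat.Hom.hom (e₀_mk₀_comp (ModuleCat.ofHom K.subtype) g)).symm
        · rintro ⟨φ, rfl⟩
          refine ⟨(ext0 (Fin s → R)).symm φ, (ext0 K).injective ?_⟩
          rw [LinearEquiv.apply_symm_apply]
          refine (congrArg ModuleCat.Hom.hom (e₀_mk₀_comp (ModuleCat.ofHom K.subtype) _)).trans ?_
          exact congrArg (· ∘ₗ K.subtype) ((ext0 (Fin s → R)).apply_symm_apply φ)
      refine le_antisymm ?_ ?_
      · rintro _ ⟨x, rfl⟩
        -- kills restrictions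
        have hk : LinearMap.ker c ≤
            LinearMap.ker (η 𝔪 (i + 1) K (Seq.δ 𝔪 (Submodule.injective_subtype K) hπ hex i x)) := by
          intro ψ hψ
          obtain ⟨φ, rfl⟩ := (hkc ψ).1 hψ
          rw [LinearMap.mem_ker, ← η_natural,
            (exact_δ_map 𝔪 (Submodule.injective_subtype K) hπ hex i).apply_apply_eq_zero, map_zero,
            LinearMap.zero_apply]
        obtain ⟨g, hg⟩ := exists_factor c hc _ fun ψ hψ => LinearMap.mem_ker.1 (hk hψ)
        exact ⟨g, LinearMap.ext hg⟩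
      · rintro _ ⟨Θ, rfl⟩
        obtain ⟨w, hw⟩ := η_surjective 𝔪 (i + 1) hinj K (LinearMap.lcomp R _ c Θ)
        have h0 : Hmap 𝔪 (i + 1) K.subtype w = 0 := by
          refine η_injective 𝔪 (i + 1) hcd hinj (Fin s → R) (LinearMap.ext fun φ => ?_)
          rw [η_natural, hw, map_zero, LinearMap.zero_apply, LinearMap.lcomp_apply,
            (hkc (φ ∘ₗ K.subtype)).2 ⟨φ, rfl⟩, map_zero]
        obtain ⟨x, rfl⟩ := (exact_δ_map 𝔪 (Submodule.injective_subtype K) hπ hex i w).1 h0
        exact ⟨x, hw⟩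
    | succ j =>
      obtain ⟨e⟩ := ih (i + 1) (by omega) K
      let e₁ : LocCoh.H 𝔪 i M ≃ₗ[R] LocCoh.H 𝔪 (i + 1) K := LinearEquiv.ofBijective _ ⟨hδinj, fun z =>
        (exact_δ_map 𝔪 (Submodule.injective_subtype K) hπ hex i z).1
          ((subsingleton_pi (hlow (i + 1) (by omega)) s).elim _ _)⟩
      have hbij : Function.Bijective (extδ π hπ (j + 1)) := by
        refine ⟨?_, extδ_surjective π hπ (j + 1)⟩
        rw [← LinearMap.ker_eq_bot, Submodule.eq_bot_iff]
        intro h h0
        obtain ⟨g, rfl⟩ := (extδ_eq_zero_iff π hπ (j + 1) h).1 h0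
        rw [(subsingleton_ext_free s j _).elim g 0, Abelian.Ext.comp_zero]
      exact ⟨e₁.trans (e.trans (LinearEquiv.congrLeft (LocCoh.H 𝔪 d R) R (LinearEquiv.ofBijective _ hbij)))⟩

/-- Local duality for a Gorenstein local ring. -/
theorem exists_duality [LocCoh.IsGorensteinLocalRing R] (d : ℕ) (hd : ringKrullDim R = d)
    (M : Type u) [AddCommGroup M] [Module R M] [Module.Finite R M] {i j : ℕ} (hij : i + j = d) :
    Nonempty (LocCoh.H 𝔪 i M ≃ₗ[R]
      (Abelian.Ext (ModuleCat.of R M) (ModuleCat.of R R) j →ₗ[R] LocCoh.H 𝔪 d R)) := by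
  obtain ⟨n, hn⟩ := LocCoh.IsGorensteinLocalRing.exists_hasInjectiveDimensionLT (A := R)
  obtain ⟨d', -, -, hCM, -⟩ := Goren.Basic.exists_dim hn
  obtain ⟨g, hg⟩ := Gorenstein.exists_isInjectiveHull R d hd
  exact nonempty_duality d hd hg.isInjective (fun i hi => Gorenstein.subsingleton_H_of_lt hd hi)
    j i hij M

end Groth.Agent.Lib.LCFin.Duality
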