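import Groth.Agent.Lib.LCFin.Nonvanishing
import Mathlib.RingTheory.Ideal.KrullsHeightTheorem
import Mathlib.RingTheory.KrullDimension.Basic
import Mathlib.LinearAlgebra.DirectSum.Finsupp

/-!
Local cohomology in the highest possible degree.
-/

universe u

open CategoryTheory
open scoped TensorProduct
open Groth.Agent.Lib.LocalCoh Groth.Agent.Lib.LCFin.Seq Groth.Agent.Lib.LCFin.Cd

namespace Groth.Agent.Lib.LCFin.Top

variable {R : Type u} [CommRing R] (I : Ideal R) (i : ℕ)
variable {M N : Type u} [AddCommGroup M] [Module R M] [AddCommGroup N] [Module R N]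

lemma Hmap_add (f g : M →ₗ[R] N) : Hmap I i (f + g) = Hmap I i f + Hmap I i g :=
  congrArg ModuleCat.Hom.hom ((localCohomology I i).map_add (f := ModuleCat.ofHom f)
    (g := ModuleCat.ofHom g))

lemma Hmap_smul (r : R) (f : M →ₗ[R] N) : Hmap I i (r • f) = r • Hmap I i f := by
  have : r • f = LinearMap.lsmul R N r ∘ₗ f := rfl
  ext x
  rw [this, Hmap_comp, LinearMap.comp_apply, Hmap_lsmul]
  rfl

variable (M) in
/-- The natural map `H^i_I(R) ⊗ M → H^i_I(M)`. -/
noncomputable def θ : LocCoh.H I i R ⊗[R] M →ₗ[R] LocCoh.H I i M :=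
  TensorProduct.lift (LinearMap.flip
    { toFun := fun m => Hmap I i (LinearMap.toSpanSingleton R M m)
      map_add' := fun a b => by
        rw [← Hmap_add, LinearMap.toSpanSingleton_add]
      map_smul' := fun r a => by
        rw [RingHom.id_apply, ← Hmap_smul, LinearMap.toSpanSingleton_smul] })

lemma θ_tmul (h : LocCoh.H I i R) (m : M) :
    θ I i M (h ⊗ₜ m) = Hmap I i (LinearMap.toSpanSingleton R M m) h := rfl

lemma θ_natural (f : M →ₗ[R] N) (t : LocCoh.H I i R ⊗[R] M) :
    θ I i N (f.lTensor _ t) = Hmap I i f (θ I i M t) := by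
  induction t with
  | zero => simp
  | add a b ha hb => rw [map_add, map_add, ha, hb, map_add, map_add]
  | tmul h m =>
    rw [LinearMap.lTensor_tmul, θ_tmul, θ_tmul, ← LinearMap.comp_apply, ← Hmap_comp,
      LinearMap.comp_toSpanSingleton]

theorem θ_free_injective (X : Type u) : Function.Injective (θ I i (X →₀ R)) := by
  classical
  rw [← LinearMap.ker_eq_bot, Submodule.eq_bot_iff]
  intro t ht
  let e := TensorProduct.finsuppScalarRight R R (LocCoh.H I i R) X
  refine e.injective (Finsupp.ext fun j => ?_)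
  have h1 : e t j = TensorProduct.rid R _ ((Finsupp.lapply (R := R) j).lTensor _ t) := by
    clear ht
    induction t with
    | zero => simp
    | add a b ha hb => rw [map_add, Finsupp.add_apply, ha, hb, map_add, map_add]
    | tmul h f => simp [e]
  rw [h1, map_zero, Finsupp.zero_apply, LinearEquiv.map_eq_zero_iff]
  have h2 : ∀ u : LocCoh.H I i R ⊗[R] R, θ I i R u = TensorProduct.rid R _ u := by
    intro u
    induction u with
    | zero => simp
    | add a b ha hb => rw [map_add, map_add, ha, hb]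
    | tmul h r =>
      rw [θ_tmul, TensorProduct.rid_tmul]
      rw [show LinearMap.toSpanSingleton R R r = LinearMap.lsmul R R r from by ext; simp]
      exact Hmap_lsmul I i r h
  apply (TensorProduct.rid R (LocCoh.H I i R)).injective
  rw [← h2, map_zero, θ_natural, LinearMap.mem_ker.1 ht, map_zero]

variable [IsNoetherianRing R] {I} {d : ℕ}

theorem Hmap_surjective (hd : LocCoh.CdLE R I d) {f : M →ₗ[R] N} (hf : Function.Surjective f) :
    Function.Surjective (Hmap I d f) := fun x =>
  (exact_map_δ I (Submodule.injective_subtype _) hf (LinearMap.exact_subtype_ker_map f) d x).1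
    ((hd _ _ d.lt_succ_self).elim _ _)

theorem θ_surjective (hd : LocCoh.CdLE R I d) : Function.Surjective (θ I d M) := by
  intro x
  obtain ⟨S, hS, y, rfl⟩ := exists_fg_rep I d x
  have := Module.Finite.iff_fg.2 hS
  obtain ⟨s, f, hf⟩ := Module.Finite.exists_fin' R S
  obtain ⟨z, rfl⟩ := Hmap_surjective hd hf y
  refine ⟨(S.subtype ∘ₗ f).lTensor _ (∑ j : Fin s, Hmap I d (LinearMap.proj j) z ⊗ₜ
    (Pi.single j 1 : Fin s → R)), ?_⟩
  rw [θ_natural, map_sum, Hmap_comp, LinearMap.comp_apply]
  congr 2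
  have hid : (LinearMap.id : (Fin s → R) →ₗ[R] (Fin s → R)) =
      ∑ j : Fin s, LinearMap.toSpanSingleton R _ (Pi.single j 1) ∘ₗ LinearMap.proj j := by
    refine LinearMap.ext fun v => ?_
    rw [LinearMap.id_apply, LinearMap.sum_apply]
    funext k
    simp [Finset.sum_apply, Pi.single_apply]
  conv_rhs => rw [show z = Hmap I d LinearMap.id z by rw [Hmap_id]; rfl, hid]
  have hsum : ∀ (t : Finset (Fin s)) (g : Fin s → ((Fin s → R) →ₗ[R] (Fin s → R))),
      Hmap I d (∑ j ∈ t, g j) z = ∑ j ∈ t, Hmap I d (g j) z := by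
    intro t g
    induction t using Finset.cons_induction with
    | empty =>
      rw [Finset.sum_empty, Finset.sum_empty, show (0 : (Fin s → R) →ₗ[R] (Fin s → R)) =
        (0 : R) • LinearMap.id by simp, Hmap_smul, zero_smul, LinearMap.zero_apply]
    | cons a t ha ih => rw [Finset.sum_cons, Hmap_add, LinearMap.add_apply, ih, Finset.sum_cons]
  rw [hsum]
  refine Finset.sum_congr rfl fun j _ => ?_
  rw [θ_tmul, Hmap_comp]
  rfl

/-- In the top degree local cohomology is a tensor product. -/
theorem θ_bijective (hd : LocCoh.CdLE R I d) : Function.Bijective (θ I d M) := by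
  refine ⟨?_, θ_surjective hd⟩
  rw [← LinearMap.ker_eq_bot, Submodule.eq_bot_iff]
  intro t ht
  suffices key : ∀ (F : Type u) [AddCommGroup F] [Module R F] (π : F →ₗ[R] M),
      Function.Surjective π → Function.Injective (θ I d F) → t = 0 by
    exact key (M →₀ R) (Finsupp.linearCombination R id) (fun m => ⟨Finsupp.single m 1, by simp⟩)
      (θ_free_injective I d M)
  intro F _ _ π hπ hF
  have hex : Function.Exact (LinearMap.ker π).subtype π := LinearMap.exact_subtype_ker_map π
  obtain ⟨t', rfl⟩ := LinearMap.lTensor_surjective (LocCoh.H I d R) hπ t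
  have ht' : Hmap I d π (θ I d F t') = 0 :=
    (θ_natural I d π t').symm.trans (LinearMap.mem_ker.1 ht)
  have hexH := exact_map_map I (f := (LinearMap.ker π).subtype) (g := π)
    (Submodule.injective_subtype _) hπ hex d
  obtain ⟨w, hw⟩ := (hexH (θ I d F t')).1 ht'
  obtain ⟨u, hu⟩ := θ_surjective (I := I) (M := LinearMap.ker π) hd w
  have hw' : θ I d F ((LinearMap.ker π).subtype.lTensor _ u) = θ I d F t' :=
    ((θ_natural I d (LinearMap.ker π).subtype u).trans (congrArg _ hu)).trans hw
  have hexT := lTensor_exact (LocCoh.H I d R) hex hπ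
  exact (congrArg _ (hF hw').symm).trans (hexT.apply_apply_eq_zero u)

theorem nonempty_equiv_tensor (hd : LocCoh.CdLE R I d) :
    Nonempty (LocCoh.H I d M ≃ₗ[R] LocCoh.H I d R ⊗[R] M) :=
  ⟨(LinearEquiv.ofBijective _ (θ_bijective hd)).symm⟩

omit [IsNoetherianRing R] in
lemma ringKrullDim_atPrime_lt {p : Ideal R} [p.IsPrime] (hp : ¬ p.IsMaximal)
    (hd : ringKrullDim R ≤ d) : ringKrullDim (Localization.AtPrime p) < (d : WithBot ℕ∞) := by
  obtain ⟨m, hm, hpm⟩ := Ideal.exists_le_maximal p (Ideal.IsPrime.ne_top ‹_›)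
  have hlt : p < m := lt_of_le_of_ne hpm (by rintro rfl; exact hp hm)
  rw [IsLocalization.AtPrime.ringKrullDim_eq_height p]
  have hm' := (Ideal.height_le_ringKrullDim_of_ne_top hm.ne_top).trans hd
  have hm'' : m.height ≤ (d : ℕ∞) := by exact_mod_cast hm'
  have hfin : p.height < ⊤ :=
    ((Ideal.height_mono hpm).trans hm'').trans_lt (ENat.natCast_lt_top d)
  have : p.FiniteHeight := ⟨Or.inr hfin.ne⟩
  exact_mod_cast (Ideal.height_strict_mono_of_isPrime hlt).trans_le hm''

/-- Enlarging the ideal is surjective in the top degree when only maximal ideals lie in between. -/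
theorem HmapOfLE_top_surjective {I' : Ideal R} (hle : I ≤ I') (hd : ringKrullDim R ≤ d)
    (h : ∀ p : Ideal R, p.IsMaximal → I ≤ p → I' ≤ p) :
    Function.Surjective ((Dual2.HmapOfLE hle d).app (ModuleCat.of R M)).hom := by
  refine (HmapOfLE_surjective_injective_of_local M d I I' hle).1 fun p hp hp' => ?_
  exact lc_subsingleton_of_supportDim_lt d _ _ _
    ((Module.supportDim_le_ringKrullDim _ _).trans_lt
      (ringKrullDim_atPrime_lt (fun hm => hp' (h _ hm hp)) hd))

theorem subsingleton_top_of_le {I' : Ideal R} (hle : I ≤ I') (hd : ringKrullDim R ≤ d)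
    (h : ∀ p : Ideal R, p.IsMaximal → I ≤ p → I' ≤ p) (hvan : Subsingleton (LocCoh.H I' d M)) :
    Subsingleton (LocCoh.H I d M) :=
  (HmapOfLE_top_surjective hle hd h).subsingleton

omit [IsNoetherianRing R] in
/-- A prime with one dimensional quotient above a given ideal. -/
theorem exists_prime_dim_one [IsNoetherianRing R] [IsLocalRing R] (J : Ideal R)
    (hJ : 0 < ringKrullDim (R ⧸ J)) :
    ∃ q : Ideal R, q.IsPrime ∧ J ≤ q ∧ ringKrullDim (R ⧸ q) = 1 := by
  let S : Set (Ideal R) := {q | q.IsPrime ∧ J ≤ q ∧ q ≠ IsLocalRing.maximalIdeal R}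
  have hne : S.Nonempty := by
    by_contra hS
    rw [ringKrullDim_quotient] at hJ
    refine not_le.2 hJ (Order.krullDim_nonpos_iff_forall_isMax.2 ?_)
    rintro ⟨⟨p, hp⟩, hpJ⟩ ⟨⟨q, hq⟩, hqJ⟩ hpq
    have : p = IsLocalRing.maximalIdeal R := by
      by_contra hne
      exact hS ⟨p, hp, hpJ, hne⟩
    exact (IsLocalRing.le_maximalIdeal hq.ne_top).trans this.ge
  obtain ⟨q, ⟨hq, hJq, hqm⟩, hmax⟩ := exists_maximal_of_wellFoundedGT (· ∈ S) hne
  refine ⟨q, hq, hJq, ?_⟩
  rw [ringKrullDim_quotient]
  let a : PrimeSpectrum.zeroLocus (q : Set R) := ⟨⟨q, hq⟩, le_refl q⟩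
  let b : PrimeSpectrum.zeroLocus (q : Set R) :=
    ⟨IsLocalRing.closedPoint R, IsLocalRing.le_maximalIdeal hq.ne_top⟩
  refine le_antisymm (iSup_le fun s => ?_) ?_
  · by_contra hs
    have h2 : 2 ≤ s.length := by
      by_contra h
      exact hs (by exact_mod_cast (show s.length ≤ 1 by omega))
    have h01 := s.strictMono (show (⟨0, by omega⟩ : Fin (s.length + 1)) < ⟨1, by omega⟩ from
      Nat.zero_lt_one)
    have h12 := s.strictMono (show (⟨1, by omega⟩ : Fin (s.length + 1)) < ⟨2, by omega⟩ from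
      Nat.one_lt_two)
    let x := (s ⟨1, by omega⟩).1.asIdeal
    have hx : x ∈ S := ⟨(s ⟨1, by omega⟩).1.2, hJq.trans (s ⟨1, by omega⟩).2, fun e => by
      exact h12.not_ge ((IsLocalRing.le_maximalIdeal (s ⟨2, by omega⟩).1.2.ne_top).trans e.ge)⟩
    have hle : q ≤ (s ⟨0, by omega⟩).1.asIdeal := (s ⟨0, by omega⟩).2
    have := hmax hx (hle.trans h01.le)
    exact h01.not_ge (this.trans hle)
  · exact le_iSup_of_le ((RelSeries.singleton _ a).snoc b (lt_of_le_not_ge
      (IsLocalRing.le_maximalIdeal hq.ne_top)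
      fun h => hqm (le_antisymm (IsLocalRing.le_maximalIdeal hq.ne_top) h))) (by simp)

theorem not_cdLE_of_radical_eq [IsLocalRing R] (I : Ideal R)
    (hI : I.radical = IsLocalRing.maximalIdeal R) (n : ℕ) (hn : ringKrullDim R = n) :
    Nontrivial (LocCoh.H I n R) := by
  have h := (Nonvanishing.nontrivial_and_not_finite n R
    ((Module.supportDim_self_eq_ringKrullDim R).trans hn)).1
  have hle : I ≤ IsLocalRing.maximalIdeal R := hI ▸ Ideal.le_radical
  have hp : ∀ p : PrimeSpectrum R, I ≤ p.asIdeal → IsLocalRing.maximalIdeal R ≤ p.asIdeal :=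
    fun p hp => hI ▸ (p.2.radical_le_iff.2 hp)
  have hs := (HmapOfLE_surjective_injective_of_local R n I _ hle).2
    fun p hp₁ hp₂ => absurd (hp p hp₁) hp₂
  exact hs.nontrivial

end Groth.Agent.Lib.LCFin.Top
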