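import Groth.Agent.Lib.LCFin.Cd
import Groth.Agent.Lib.LCFin.Top
import Groth.Agent.Lib.LocalCoh.Height
import Mathlib.AlgebraicGeometry.AffineScheme

/-!
An affine open complement has cohomological dimension at most one.
-/

universe u

open CategoryTheory CategoryTheory.Limits
open Groth.Agent.Lib.LocalCoh Groth.Agent.Lib.LCFin.Seq

namespace Groth.Agent.Lib.LCFin.AffineComplement

variable {R : Type u} [CommRing R] [IsNoetherianRing R] (J : Ideal R)

theorem isPowerTorsion_of_forall {M : Type u} [AddCommGroup M] [Module R M]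
    (h : ∀ m : M, ∀ f ∈ J, ∃ n : ℕ, f ^ n • m = 0) : LocCoh.IsPowerTorsion J M := by
  intro m
  have hle : J ≤ Ideal.radical (LinearMap.ker (LinearMap.toSpanSingleton R M m)) := fun f hf => by
    obtain ⟨n, hn⟩ := h m f hf
    exact ⟨n, by simpa using hn⟩
  obtain ⟨N, hN⟩ := Ideal.exists_pow_le_of_le_radical_of_fg hle (IsNoetherian.noetherian J)
  exact ⟨N, fun a ha => by simpa using hN ha⟩

variable {B : Type u} [CommRing B] [Algebra R B]

theorem subsingleton_H_of_map_eq_top (hJB : J.map (algebraMap R B) = ⊤) (i : ℕ) :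
    Subsingleton (LocCoh.H J i B) := by
  refine subsingleton_of_forall_eq 0 fun x => ?_
  obtain ⟨n, hn⟩ := isPowerTorsion_lc J i (ModuleCat.of R B) x
  suffices h : ∀ j : ℕ, ∀ a ∈ J ^ (n - j), a • x = 0 by
    have h1 := h n (1 : R) (by rw [Nat.sub_self, pow_zero, Ideal.one_eq_top]; trivial)
    rwa [one_smul] at h1
  intro j
  induction j with
  | zero => intro a ha; exact hn a (by rwa [Nat.sub_zero] at ha)
  | succ j ih =>
    intro a ha
    let T : Ideal B :=
      { carrier := {b | Hmap J i (LinearMap.mulLeft R b) (a • x) = 0}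
        zero_mem' := by
          show Hmap J i (LinearMap.mulLeft R (0 : B)) (a • x) = 0
          rw [show LinearMap.mulLeft R (0 : B) = (0 : R) • (LinearMap.id : B →ₗ[R] B) from
            LinearMap.ext fun y => (zero_mul y).trans (zero_smul R y).symm, Top.Hmap_smul, zero_smul,
            LinearMap.zero_apply]
        add_mem' := fun {b c} hb hc => by
          change Hmap J i (LinearMap.mulLeft R b) (a • x) = 0 at hb
          change Hmap J i (LinearMap.mulLeft R c) (a • x) = 0 at hc
          show Hmap J i (LinearMap.mulLeft R (b + c)) (a • x) = 0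
          rw [show LinearMap.mulLeft R (b + c) = LinearMap.mulLeft R b + LinearMap.mulLeft R c from
            LinearMap.ext fun y => add_mul b c y, Top.Hmap_add, LinearMap.add_apply, hb, hc, add_zero]
        smul_mem' := fun c b hb => by
          change Hmap J i (LinearMap.mulLeft R b) (a • x) = 0 at hb
          show Hmap J i (LinearMap.mulLeft R (c • b)) (a • x) = 0
          rw [show LinearMap.mulLeft R (c • b) = LinearMap.mulLeft R c ∘ₗ LinearMap.mulLeft R b from
            LinearMap.ext fun y => mul_assoc c b y, Hmap_comp, LinearMap.comp_apply, hb, map_zero] }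
    have hT : J.map (algebraMap R B) ≤ T := Ideal.map_le_iff_le_comap.mpr fun f hf => by
      show Hmap J i (LinearMap.mulLeft R (algebraMap R B f)) (a • x) = 0
      rw [show LinearMap.mulLeft R (algebraMap R B f) = f • (LinearMap.id : B →ₗ[R] B) from
        LinearMap.ext fun y => (Algebra.smul_def f y).symm, Top.Hmap_smul, Hmap_id]
      show f • (a • x) = 0
      rw [smul_smul]
      refine ih _ ?_
      rcases Nat.lt_or_ge j n with h | h
      · rw [show n - j = n - (j + 1) + 1 by omega, pow_succ']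
        exact Ideal.mul_mem_mul hf ha
      · rw [show n - j = 0 by omega, pow_zero, Ideal.one_eq_top]; trivial
    have h1 : (1 : B) ∈ T := hT (hJB ▸ Submodule.mem_top)
    have h2 : Hmap J i (LinearMap.mulLeft R (1 : B)) (a • x) = 0 := h1
    rw [show LinearMap.mulLeft R (1 : B) = LinearMap.id from LinearMap.ext fun y => one_mul y,
      Hmap_id] at h2
    exact h2

theorem cdLE_one (hJB : J.map (algebraMap R B) = ⊤)
    (hK : ∀ a : R, algebraMap R B a = 0 → ∀ f ∈ J, ∃ n : ℕ, f ^ n * a = 0)
    (hC : ∀ b : B, ∀ f ∈ J, ∃ n : ℕ, ∃ a : R, f ^ n • b = algebraMap R B a) :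
    LocCoh.CdLE R J 1 := by
  refine Cd.cdLE_of_subsingleton_self J 1 fun i hi => ?_
  set g : R →ₗ[R] B := Algebra.linearMap R B
  obtain ⟨i, rfl⟩ : ∃ j, i = j + 2 := ⟨i - 2, by omega⟩
  have hKt : LocCoh.IsPowerTorsion J (LinearMap.ker g) := isPowerTorsion_of_forall J fun a f hf => by
    obtain ⟨n, hn⟩ := hK a.1 a.2 f hf
    exact ⟨n, Subtype.ext hn⟩
  have hCt : LocCoh.IsPowerTorsion J (B ⧸ LinearMap.range g) :=
    isPowerTorsion_of_forall J fun b f hf => by
      obtain ⟨b, rfl⟩ := Submodule.Quotient.mk_surjective _ b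
      obtain ⟨n, a, hn⟩ := hC b f hf
      refine ⟨n, ?_⟩
      rw [← Submodule.Quotient.mk_smul, Submodule.Quotient.mk_eq_zero, hn]
      exact ⟨a, rfl⟩
  have hM' : Subsingleton (LocCoh.H J (i + 2) (LinearMap.range g)) :=
    subsingleton_left J (f := (LinearMap.range g).subtype) (g := (LinearMap.range g).mkQ)
      (Submodule.injective_subtype _) (Submodule.mkQ_surjective _)
      (LinearMap.exact_subtype_mkQ _) (i + 1)
      (lc_subsingleton_of_isPowerTorsion J i (ModuleCat.of R (B ⧸ LinearMap.range g)) hCt)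
      (subsingleton_H_of_map_eq_top J hJB _)
  exact subsingleton_mid J (f := (LinearMap.ker g).subtype) (g := g.rangeRestrict)
    (Submodule.injective_subtype _) g.surjective_rangeRestrict
    (by rw [LinearMap.exact_iff, LinearMap.ker_rangeRestrict, Submodule.range_subtype]) (i + 2)
    (lc_subsingleton_of_isPowerTorsion J (i + 1) (ModuleCat.of R (LinearMap.ker g)) hKt) hM'

open AlgebraicGeometry TopologicalSpace in
theorem height_le_one {A : Type u} [CommRing A] [IsNoetherianRing A]
    (U : (Spec (CommRingCat.of A)).Opens) (hU : IsAffineOpen U) (J : Ideal A)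
    (hJ : (PrimeSpectrum.zeroLocus (J : Set A)) = ((U : Set (Spec (CommRingCat.of A)))ᶜ))
    (p : Ideal A) (hp : p ∈ J.minimalPrimes) : p.height ≤ 1 := by
  let X := Spec (CommRingCat.of A)
  let e := Scheme.ΓSpecIso (CommRingCat.of A)
  let B := Γ(X, U)
  letI : Algebra A B := (e.inv ≫ X.presheaf.map (homOfLE (le_top : U ≤ ⊤)).op).hom.toAlgebra
  have hbo : ∀ f : A, X.basicOpen (e.inv f) = PrimeSpectrum.basicOpen f := fun f =>
    AlgebraicGeometry.basicOpen_eq_of_affine (R := CommRingCat.of A) f
  have hfU : ∀ f ∈ J, X.basicOpen (e.inv f) ≤ U := fun f hf x hx => by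
    rw [hbo] at hx
    by_contra hxU
    have : x ∈ PrimeSpectrum.zeroLocus (J : Set A) := hJ ▸ hxU
    exact hx (this hf)
  have hg : ∀ f ∈ J, X.basicOpen (algebraMap A B f) = X.basicOpen (e.inv f) := fun f hf => by
    show X.basicOpen ((X.presheaf.map (homOfLE (le_top : U ≤ ⊤)).op).hom (e.inv f)) = _
    rw [Scheme.basicOpen_res]
    exact inf_eq_right.mpr (hfU f hf)
  refine Height.height_le_of_cdLE J 1 (cdLE_one (B := B) J ?_ ?_ ?_) p hp
  · refine (hU.self_le_iSup_basicOpen_iff (s := algebraMap A B '' (J : Set A))).mp fun x hx => ?_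
    have : x ∉ PrimeSpectrum.zeroLocus (J : Set A) := fun h => (hJ ▸ h :) hx
    obtain ⟨f, hf, hfx⟩ := Set.not_subset.mp this
    refine TopologicalSpace.Opens.mem_iSup.mpr ⟨⟨_, Set.mem_image_of_mem _ hf⟩, ?_⟩
    show x ∈ X.basicOpen (algebraMap A B f)
    rw [hg f hf, hbo]
    exact hfx
  on_goal 2 => intro b f hf
  on_goal 1 => intro b hf' f hf
  all_goals
    have hres : (X.presheaf.map (homOfLE (le_top : U ≤ ⊤)).op) ≫
        X.presheaf.map (homOfLE (hfU f hf)).op =
        X.presheaf.map (homOfLE (le_top : X.basicOpen (e.inv f) ≤ ⊤)).op := by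
      rw [← X.presheaf.map_comp]; rfl
    letI a₁ := (X.presheaf.map (homOfLE (le_top : X.basicOpen (e.inv f) ≤ ⊤)).op).hom.toAlgebra
    have h₁ : IsLocalization.Away (e.inv f) Γ(X, X.basicOpen (e.inv f)) :=
      (isAffineOpen_top X).isLocalization_of_eq_basicOpen _ (homOfLE le_top) rfl
    have hinv : Function.Bijective e.inv.hom := ConcreteCategory.bijective_of_isIso e.inv
  · obtain ⟨⟨_, n, rfl⟩, hn⟩ := (IsLocalization.map_eq_zero_iff (Submonoid.powers (e.inv f))
      Γ(X, X.basicOpen (e.inv f)) (e.inv b)).mp (by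
        show (X.presheaf.map _).hom (e.inv b) = 0
        rw [← hres, CommRingCat.hom_comp, RingHom.comp_apply]
        exact (congrArg _ (show (X.presheaf.map (homOfLE (le_top : U ≤ ⊤)).op).hom (e.inv b) = 0
          from hf')).trans (map_zero _))
    exact ⟨n, hinv.1 (by simpa using hn)⟩
  · letI a₂ := (X.presheaf.map (homOfLE (hfU f hf)).op).hom.toAlgebra
    have h₂ : IsLocalization.Away (algebraMap A B f) Γ(X, X.basicOpen (e.inv f)) :=
      hU.isLocalization_of_eq_basicOpen _ (homOfLE (hfU f hf)) (hg f hf).symm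
    obtain ⟨⟨a', ⟨_, n, rfl⟩⟩, ha⟩ := IsLocalization.surj (Submonoid.powers (e.inv f))
      (algebraMap B Γ(X, X.basicOpen (e.inv f)) b)
    obtain ⟨a, rfl⟩ := hinv.2 a'
    have hcomp : ∀ y : A, algebraMap Γ(X, ⊤) Γ(X, X.basicOpen (e.inv f)) (e.inv y) =
        algebraMap B Γ(X, X.basicOpen (e.inv f)) (algebraMap A B y) := fun y => by
      show (X.presheaf.map _).hom (e.inv y) = _
      rw [← hres]; rfl
    obtain ⟨⟨_, m, rfl⟩, hm⟩ := (IsLocalization.eq_iff_exists
      (Submonoid.powers (algebraMap A B f)) Γ(X, X.basicOpen (e.inv f))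
      (x := algebraMap A B f ^ n * b) (y := algebraMap A B a)).mp (by
        rw [map_mul, map_pow, ← hcomp, ← hcomp, mul_comm, ← map_pow]
        exact ha)
    refine ⟨m + n, f ^ m * a, ?_⟩
    rw [Algebra.smul_def, map_mul, map_pow, map_pow, pow_add, mul_assoc]
    exact hm

end Groth.Agent.Lib.LCFin.AffineComplement
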