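import Groth.Agent.Lib.LCFin.Top2
import Groth.Agent.Lib.LCFin.Duality
import Groth.Agent.Lib.InjHull.Complete
import Groth.Agent.Lib.Depth.Assoc
import Groth.Agent.Lib.Depth.CM
import Groth.Agent.Lib.Excellent.CatenaryDim

/-!
Modules whose Matlis dual is a top local cohomology module (canonical modules): the dual of
`Hom(M, K)`, associated primes, and cutting down by elements.
-/

universe u

open CategoryTheory
open scoped TensorProduct Pointwise
open Groth.Agent.Lib.LocalCoh Groth.Agent.Lib.LCFin.Seq Groth.Agent.Lib.LCFin.Cd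
  Groth.Agent.Lib.LCFin.Top Groth.Agent.Lib.InjHull

namespace Groth.Agent.Lib.LCFin.CanonBasic

section Dim

variable {R : Type u} [CommRing R] [IsNoetherianRing R]

theorem supportDim_le_of_annihilator_le {M N : Type u} [AddCommGroup M] [Module R M]
    [Module.Finite R M] [AddCommGroup N] [Module R N] [Module.Finite R N]
    (h : Module.annihilator R M ≤ Module.annihilator R N) :
    Module.supportDim R N ≤ Module.supportDim R M := by
  rw [Module.supportDim_eq_ringKrullDim_quotient_annihilator,
    Module.supportDim_eq_ringKrullDim_quotient_annihilator]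
  exact ringKrullDim_le_of_surjective (Ideal.Quotient.factor h) (Ideal.Quotient.factor_surjective h)

theorem supportDim_le_of_primes {N : Type u} [AddCommGroup N] [Module R N] [Module.Finite R N]
    {d : ℕ} (h : ∀ q : Ideal R, q.IsPrime → Module.annihilator R N ≤ q →
      ringKrullDim (R ⧸ q) ≤ d) : Module.supportDim R N ≤ d := by
  refine iSup_le fun s => ?_
  have hq := s.head.2
  rw [Module.mem_support_iff_of_finite] at hq
  have h1 := h s.head.1.asIdeal inferInstance hq
  rw [Excellent.CatenaryDim.ringKrullDim_quotient_eq_coheight s.head.1] at h1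
  let t : LTSeries (PrimeSpectrum R) := s.map (fun x => x.1) fun _ _ hlt => hlt
  have h2 := Order.length_le_coheight (p := t) (x := s.head.1)
    (show s.head.1 ≤ t.head from le_rfl)
  refine le_trans ?_ h1
  exact_mod_cast (show (s.length : ℕ∞) ≤ Order.coheight s.head.1 from h2)

theorem supportDim_lt_of_primes [IsLocalRing R] {N : Type u} [AddCommGroup N] [Module R N]
    [Module.Finite R N] {d : ℕ} (h : ∀ q : Ideal R, q.IsPrime → Module.annihilator R N ≤ q →
      ringKrullDim (R ⧸ q) < d) : Module.supportDim R N < d := by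
  rcases subsingleton_or_nontrivial N with hN | hN
  · rw [Module.supportDim_eq_bot_of_subsingleton]
    exact WithBot.bot_lt_coe _
  obtain ⟨k, hk⟩ := Depth.CM.supportDim_eq_nat (R := R) N
  rw [hk]
  cases d with
  | zero =>
    obtain ⟨q, hq⟩ := Module.nonempty_support_of_nontrivial (R := R) (M := N)
    rw [Module.mem_support_iff_of_finite] at hq
    exact absurd (h q.asIdeal inferInstance hq)
      (not_lt.2 (by exact_mod_cast ringKrullDim_nonneg_of_nontrivial))
  | succ e =>
    have hle : Module.supportDim R N ≤ e := supportDim_le_of_primes fun q hq hle => by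
      obtain ⟨l, hl⟩ := Depth.CM.supportDim_eq_nat (R := R) (R ⧸ q)
      rw [Module.supportDim_quotient_eq_ringKrullDim] at hl
      have := h q hq hle
      rw [hl] at this ⊢
      have : l < e + 1 := by exact_mod_cast this
      exact_mod_cast (show l ≤ e by omega)
    rw [hk] at hle
    have : k ≤ e := by exact_mod_cast hle
    exact_mod_cast Nat.lt_succ_of_le this

omit [IsNoetherianRing R] in
theorem annihilator_le_annihilator_H (I : Ideal R) (i : ℕ) (Q : Type u) [AddCommGroup Q]
    [Module R Q] : Module.annihilator R Q ≤ Module.annihilator R (LocCoh.H I i Q) := by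
  intro r hr
  rw [Module.mem_annihilator] at hr ⊢
  intro z
  rw [← Hmap_lsmul, show LinearMap.lsmul R Q r = (0 : R) • LinearMap.id from
    LinearMap.ext fun q => by simp [hr q], Hmap_smul, zero_smul, LinearMap.zero_apply]

theorem subsingleton_of_annihilator_le (I : Ideal R) {M N : Type u} [AddCommGroup M] [Module R M]
    [Module.Finite R M] [AddCommGroup N] [Module R N] [Module.Finite R N]
    (h : Module.annihilator R M ≤ Module.annihilator R N) {i : ℕ}
    (hi : Module.supportDim R M < i) : Subsingleton (LocCoh.H I i N) :=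
  lc_subsingleton_of_supportDim_lt i R I N ((supportDim_le_of_annihilator_le h).trans_lt hi)

theorem annihilator_le_of_injective {M N : Type u} [AddCommGroup M] [Module R M] [AddCommGroup N]
    [Module R N] (g : N →ₗ[R] M) (hg : Function.Injective g) :
    Module.annihilator R M ≤ Module.annihilator R N := g.annihilator_le_of_injective hg

end Dim

section Dual

variable {R : Type u} [CommRing R] {E : Type u} [AddCommGroup E] [Module R E]
  (K : Type u) [AddCommGroup K] [Module R K]

/-- The natural map `Hom(K, E) ⊗ M → Hom(Hom(M, K), E)`. -/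
noncomputable def ev (M : Type u) [AddCommGroup M] [Module R M] :
    (K →ₗ[R] E) ⊗[R] M →ₗ[R] ((M →ₗ[R] K) →ₗ[R] E) :=
  TensorProduct.lift (LinearMap.mk₂ R (fun φ m => φ ∘ₗ LinearMap.applyₗ m)
    (fun a b m => by ext; simp) (fun c a m => by ext; simp) (fun a m n => by ext; simp)
    (fun c a m => by ext; simp))

lemma ev_tmul {M : Type u} [AddCommGroup M] [Module R M] (φ : K →ₗ[R] E) (m : M)
    (g : M →ₗ[R] K) : ev K M (φ ⊗ₜ m) g = φ (g m) := rfl

lemma ev_natural {M N : Type u} [AddCommGroup M] [Module R M] [AddCommGroup N] [Module R N]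
    (π : M →ₗ[R] N) (t : (K →ₗ[R] E) ⊗[R] M) (g : N →ₗ[R] K) :
    ev K N (π.lTensor _ t) g = ev K M t (g ∘ₗ π) := by
  induction t with
  | zero => simp
  | add a b ha hb => simp only [map_add, LinearMap.add_apply, ha, hb]
  | tmul φ m => simp [ev_tmul]

theorem ev_free_bijective (s : ℕ) : Function.Bijective (ev (R := R) (E := E) K (Fin s → R)) := by
  classical
  have key : ∀ φ : Fin s → (K →ₗ[R] E), ∀ g : (Fin s → R) →ₗ[R] K,
      ev K (Fin s → R) (∑ j, φ j ⊗ₜ Pi.single j 1) g = ∑ j, φ j (g (Pi.single j 1)) := fun φ g => by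
    simp [ev_tmul]
  let B := TensorProduct.piScalarRight R R (K →ₗ[R] E) (Fin s)
  have hB : ∀ t, t = ∑ j, B t j ⊗ₜ[R] (Pi.single j 1 : Fin s → R) := by
    intro t
    apply B.injective
    funext k
    simp [B, Pi.single_apply, Finset.sum_apply]
  let j₀ : Fin s → (K →ₗ[R] ((Fin s → R) →ₗ[R] K)) := fun j =>
    { toFun := fun x => LinearMap.toSpanSingleton R K x ∘ₗ LinearMap.proj j
      map_add' := fun a b => by ext; simp
      map_smul' := fun c a => by ext; simp [smul_comm c] }
  refine ⟨?_, fun θ => ?_⟩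
  · rw [← LinearMap.ker_eq_bot, Submodule.eq_bot_iff]
    intro t ht
    have hz : ∀ j, B t j = 0 := fun j => LinearMap.ext fun x => by
      have h := LinearMap.congr_fun (LinearMap.mem_ker.1 ht) (j₀ j x)
      rw [hB t, key, LinearMap.zero_apply] at h
      simpa [j₀, Pi.single_apply, apply_ite] using h
    rw [hB t]
    simp [hz]
  · refine ⟨∑ j, (θ ∘ₗ j₀ j) ⊗ₜ Pi.single j 1, LinearMap.ext fun g => ?_⟩
    rw [key]
    simp only [LinearMap.comp_apply]
    rw [← map_sum]
    congr 1
    refine LinearMap.ext fun v => ?_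
    conv_rhs => rw [pi_eq_sum_univ' v, map_sum]
    simp [j₀]

variable [IsNoetherianRing R]

theorem ev_surjective (hE : Module.Injective R E) (M : Type u) [AddCommGroup M] [Module R M]
    [Module.Finite R M] : Function.Surjective (ev (R := R) (E := E) K M) := by
  intro θ
  obtain ⟨s, π, hπ⟩ := Module.Finite.exists_fin' R M
  have hinj : Function.Injective (LinearMap.lcomp R K π) := fun a b h => LinearMap.ext fun x => by
    obtain ⟨z, rfl⟩ := hπ x
    exact LinearMap.congr_fun h z
  obtain ⟨θ', hθ'⟩ := hE.out _ hinj θ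
  obtain ⟨t, rfl⟩ := (ev_free_bijective K s).2 θ'
  exact ⟨π.lTensor _ t, LinearMap.ext fun g => (ev_natural K π t g).trans (hθ' g)⟩

theorem ev_bijective (hE : Module.Injective R E) (M : Type u) [AddCommGroup M] [Module R M]
    [Module.Finite R M] : Function.Bijective (ev (R := R) (E := E) K M) := by
  refine ⟨?_, ev_surjective K hE M⟩
  rw [← LinearMap.ker_eq_bot, Submodule.eq_bot_iff]
  intro t₀ ht
  obtain ⟨s, π, hπ⟩ := Module.Finite.exists_fin' R M
  obtain ⟨t, rfl⟩ := LinearMap.lTensor_surjective (K →ₗ[R] E) hπ t₀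
  let L := LinearMap.ker π
  -- factor through restriction to the kernel
  let res : ((Fin s → R) →ₗ[R] K) →ₗ[R] (L →ₗ[R] K) := LinearMap.lcomp R K L.subtype
  have hker : ∀ g, res.rangeRestrict g = 0 → ev K (Fin s → R) t g = 0 := by
    intro g hg
    have hg' : g ∘ₗ L.subtype = 0 := congrArg Subtype.val hg
    obtain ⟨g', hg''⟩ := Duality.exists_factor π hπ g fun v hv => LinearMap.congr_fun hg' ⟨v, hv⟩
    rw [show g = g' ∘ₗ π from LinearMap.ext fun v => (hg'' v).symm, ← ev_natural,
      LinearMap.mem_ker.1 ht, LinearMap.zero_apply]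
  obtain ⟨χ, hχ⟩ := Duality.exists_factor res.rangeRestrict res.surjective_rangeRestrict _ hker
  obtain ⟨χ', hχ'⟩ := hE.out _ (LinearMap.range res).injective_subtype χ
  obtain ⟨u, hu⟩ := ev_surjective K hE L χ'
  have h1 : L.subtype.lTensor _ u = t := by
    refine (ev_free_bijective K s).1 (LinearMap.ext fun g => ?_)
    rw [ev_natural, hu, ← hχ g, ← hχ']
    rfl
  rw [← h1]
  exact (lTensor_exact _ (LinearMap.exact_subtype_ker_map π) hπ).apply_apply_eq_zero u

end Dual

variable {R : Type u} [CommRing R] [IsNoetherianRing R] [IsLocalRing R] {E : Type u}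
  [AddCommGroup E] [Module R E] {f : IsLocalRing.ResidueField R →ₗ[R] E}

local notation "𝔪" => IsLocalRing.maximalIdeal R

variable {K : Type u} [AddCommGroup K] [Module R K]
  {Q : Type u} [AddCommGroup Q] [Module R Q] [Module.Finite R Q] {d : ℕ}

/-- The top local cohomology is dual to `Hom(M, K)`. -/
theorem nonempty_H_equiv_dual_hom (hE : Module.Injective R E) (hcd : LocCoh.CdLE R 𝔪 d)
    (e : (K →ₗ[R] E) ≃ₗ[R] LocCoh.H 𝔪 d R) (M : Type u) [AddCommGroup M] [Module R M]
    [Module.Finite R M] :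
    Nonempty (LocCoh.H 𝔪 d M ≃ₗ[R] ((M →ₗ[R] K) →ₗ[R] E)) :=
  ⟨(LinearEquiv.ofBijective _ (θ_bijective hcd)).symm.trans
    ((TensorProduct.congr e.symm (LinearEquiv.refl R M)).trans
      (LinearEquiv.ofBijective _ (ev_bijective K hE M)))⟩

/-- A map from top local cohomology that a prime kills vanishes when the reduction does. -/
theorem eq_zero_of_killed (hQ : Module.supportDim R Q ≤ d) (p : Ideal R)
    (h : Subsingleton (LocCoh.H 𝔪 d (Q ⧸ p • (⊤ : Submodule R Q))))
    {Y : Type u} [AddCommGroup Y] [Module R Y] (φ : LocCoh.H 𝔪 d Q →ₗ[R] Y)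
    (hY : ∀ r ∈ p, ∀ z, r • φ z = 0) : φ = 0 := by
  classical
  obtain ⟨k, s, hs⟩ := Submodule.fg_iff_exists_fin_generating_family.1
    (IsNoetherian.noetherian p)
  let π : (Fin k → Q) →ₗ[R] Q := ∑ j, s j • LinearMap.proj j
  have hrange : LinearMap.range π = p • (⊤ : Submodule R Q) := by
    refine le_antisymm ?_ (Submodule.smul_le.2 fun r hr q _ => ?_)
    · rintro _ ⟨v, rfl⟩
      simp only [π, LinearMap.sum_apply, LinearMap.smul_apply, LinearMap.proj_apply]
      refine Submodule.sum_mem _ fun j _ => Submodule.smul_mem_smul ?_ Submodule.mem_top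
      exact hs ▸ Submodule.subset_span ⟨j, rfl⟩
    · rw [← hs] at hr
      induction hr using Submodule.span_induction with
      | mem x hx =>
        obtain ⟨j, rfl⟩ := hx
        exact ⟨Pi.single j q, by simp [π, Pi.single_apply]⟩
      | zero => rw [zero_smul]; exact zero_mem _
      | add a b _ _ ha hb => rw [add_smul]; exact add_mem ha hb
      | smul c a _ ha => rw [smul_eq_mul, mul_smul]; exact Submodule.smul_mem _ c ha
  rw [← hrange] at h
  have hnext : Subsingleton (LocCoh.H 𝔪 (d + 1) (LinearMap.ker π.rangeRestrict)) := by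
    refine subsingleton_of_annihilator_le 𝔪 (M := Q) ?_ (hQ.trans_lt (by exact_mod_cast d.lt_succ_self))
    refine le_trans ?_ (annihilator_le_of_injective _ (LinearMap.ker π.rangeRestrict).injective_subtype)
    intro r hr
    rw [Module.mem_annihilator] at hr ⊢
    exact fun v => funext fun j => hr (v j)
  refine LinearMap.ext fun z => ?_
  obtain ⟨w, rfl⟩ := (exact_map_map 𝔪 (LinearMap.range π).injective_subtype
    (LinearMap.range π).mkQ_surjective (LinearMap.exact_subtype_mkQ _) d z).1 (h.elim _ _)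
  obtain ⟨v, rfl⟩ := (exact_map_δ 𝔪 (LinearMap.ker π.rangeRestrict).injective_subtype
    π.surjective_rangeRestrict (LinearMap.exact_subtype_ker_map _) d w).1 (hnext.elim _ _)
  rw [← LinearMap.comp_apply (f := Hmap 𝔪 d _), ← Hmap_comp,
    show (LinearMap.range π).subtype ∘ₗ π.rangeRestrict = π from rfl, Duality.Hmap_sum,
    map_sum, LinearMap.zero_apply]
  refine Finset.sum_eq_zero fun j _ => ?_
  rw [Hmap_smul, LinearMap.smul_apply, map_smul]
  exact hY _ (hs ▸ Submodule.subset_span ⟨j, rfl⟩) _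

/-- An associated prime of `K` sees the top degree of `Q`. -/
theorem le_supportDim_quot_of_mem (hf : InjHull.IsInjectiveHull f) (hQ : Module.supportDim R Q ≤ d)
    (T : LocCoh.H 𝔪 d Q →ₗ[R] (K →ₗ[R] E)) (hT : Function.Surjective T)
    {p : Ideal R} (hp : p ∈ associatedPrimes R K) :
    (d : WithBot ℕ∞) ≤ Module.supportDim R (Q ⧸ p • (⊤ : Submodule R Q)) := by
  obtain ⟨hprime, x, hx⟩ := (isAssociatedPrime_iff (I := p) (M := K)).1 hp
  by_contra hc
  have h0 := eq_zero_of_killed hQ p
    (lc_subsingleton_of_supportDim_lt d R 𝔪 _ (not_le.1 hc)) (LinearMap.applyₗ x ∘ₗ T)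
    (fun r hr z => by
      rw [hx, Submodule.mem_colon_singleton, Submodule.mem_bot] at hr
      show r • T z x = 0
      rw [← map_smul, hr, map_zero])
  have hx0 : x = 0 := by
    refine Matlis.eq_zero_of_forall_dual hf fun φ => ?_
    obtain ⟨z, rfl⟩ := hT φ
    exact LinearMap.congr_fun h0 z
  exact hprime.ne_top ((Ideal.eq_top_iff_one _).2 (by
    rw [hx, Submodule.mem_colon_singleton, hx0, smul_zero]; exact zero_mem _))

theorem annihilator_le (hf : InjHull.IsInjectiveHull f)
    (T : LocCoh.H 𝔪 d Q →ₗ[R] (K →ₗ[R] E)) (hT : Function.Surjective T) :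
    Module.annihilator R Q ≤ Module.annihilator R K := by
  rw [Matlis.annihilator_dual hf K]
  exact (annihilator_le_annihilator_H 𝔪 d Q).trans (T.annihilator_le_of_surjective hT)

theorem annihilator_le_of_mem (hf : InjHull.IsInjectiveHull f)
    (T : LocCoh.H 𝔪 d Q →ₗ[R] (K →ₗ[R] E)) (hT : Function.Surjective T)
    {p : Ideal R} (hp : p ∈ associatedPrimes R K) : Module.annihilator R Q ≤ p := by
  refine (annihilator_le hf T hT).trans ?_
  have h := IsAssociatedPrime.annihilator_le hp
  rwa [Submodule.annihilator_top] at h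

/-- Associated primes of `K` have dimension at least `d`. -/
theorem le_dim_of_mem (hf : InjHull.IsInjectiveHull f) (hQ : Module.supportDim R Q ≤ d)
    (T : LocCoh.H 𝔪 d Q →ₗ[R] (K →ₗ[R] E)) (hT : Function.Surjective T)
    {p : Ideal R} (hp : p ∈ associatedPrimes R K) : (d : WithBot ℕ∞) ≤ ringKrullDim (R ⧸ p) := by
  refine (le_supportDim_quot_of_mem hf hQ T hT hp).trans ?_
  rw [← Module.supportDim_quotient_eq_ringKrullDim p]
  refine supportDim_le_of_annihilator_le ?_
  rw [Ideal.annihilator_quotient]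
  intro r hr
  rw [Module.mem_annihilator]
  intro q
  obtain ⟨q, rfl⟩ := Submodule.Quotient.mk_surjective _ q
  rw [← Submodule.Quotient.mk_smul, Submodule.Quotient.mk_eq_zero]
  exact Submodule.smul_mem_smul hr Submodule.mem_top

variable [Module.Finite R K]

/-- A prime of full dimension in the support of `Q` is associated to `K`. -/
theorem mem_associatedPrimes_of_dim (hf : InjHull.IsInjectiveHull f)
    (hQ : Module.supportDim R Q ≤ d) (e : (K →ₗ[R] E) ≃ₗ[R] LocCoh.H 𝔪 d Q)
    {p : Ideal R} [hp : p.IsPrime] (hle : Module.annihilator R Q ≤ p)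
    (hdim : ringKrullDim (R ⧸ p) = d) : p ∈ associatedPrimes R K := by
  suffices hKp : Module.annihilator R K ≤ p by
    refine Module.associatedPrimes.minimalPrimes_annihilator_subset_associatedPrimes R K
      ⟨⟨hp, hKp⟩, fun q ⟨hq, hKq⟩ hqp => ?_⟩
    by_contra hne
    have h1 := Depth.Assoc.ringKrullDim_quotient_add_one_le_of_lt
      (lt_of_le_not_ge hqp hne : q < p)
    have h2 : ringKrullDim (R ⧸ q) ≤ d := by
      refine le_trans ?_ hQ
      rw [Module.supportDim_eq_ringKrullDim_quotient_annihilator]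
      exact ringKrullDim_le_of_surjective
        (Ideal.Quotient.factor ((annihilator_le hf e.symm.toLinearMap e.symm.surjective).trans hKq))
        (Ideal.Quotient.factor_surjective _)
    have := h1.trans h2
    rw [hdim] at this
    exact absurd this (not_le.2 (by exact_mod_cast d.lt_succ_self))
  intro s hs
  by_contra hsp
  let N := Q ⧸ p • (⊤ : Submodule R Q)
  have hQN : Module.annihilator R Q ≤ Module.annihilator R N :=
    (p • (⊤ : Submodule R Q)).mkQ.annihilator_le_of_surjective (Submodule.mkQ_surjective _)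
  have hNle : Module.supportDim R N ≤ d := (supportDim_le_of_annihilator_le hQN).trans hQ
  have hNp : Module.annihilator R N ≤ p := by
    obtain ⟨g, hg⟩ := Top2.exists_hom_ne_zero (p := p) (M := Q)
      (Module.mem_support_iff_of_finite.2 hle)
    have hle' : p • (⊤ : Submodule R Q) ≤ LinearMap.ker g := Submodule.smul_le.2 fun r hr q _ => by
      rw [LinearMap.mem_ker, map_smul]
      obtain ⟨b, hb⟩ := Ideal.Quotient.mk_surjective (g q)
      rw [← hb, Algebra.smul_def, Ideal.Quotient.algebraMap_eq,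
        Ideal.Quotient.eq_zero_iff_mem.2 hr, zero_mul]
    intro r hr
    obtain ⟨q, hq⟩ : ∃ q, g q ≠ 0 := by
      by_contra hall
      push Not at hall
      exact hg (LinearMap.ext hall)
    have h1 : r • g q = 0 := by
      rw [← map_smul]
      refine hle' ?_
      rw [← Submodule.Quotient.mk_eq_zero, Submodule.Quotient.mk_smul]
      exact Module.mem_annihilator.1 hr _
    rw [Algebra.smul_def, Ideal.Quotient.algebraMap_eq, mul_eq_zero,
      Ideal.Quotient.eq_zero_iff_mem] at h1
    exact h1.resolve_right hq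
  have hN : Module.supportDim R N = d := le_antisymm hNle (by
    rw [← hdim, Module.supportDim_eq_ringKrullDim_quotient_annihilator]
    exact ringKrullDim_le_of_surjective (Ideal.Quotient.factor hNp)
      (Ideal.Quotient.factor_surjective hNp))
  have hnt : Nontrivial (LocCoh.H 𝔪 d N) := (Nonvanishing.nontrivial_and_not_finite d N hN).1
  -- `s` kills the top cohomology of `N`
  have hkill : ∀ z : LocCoh.H 𝔪 d N, s • z = 0 := by
    intro z
    have hnext : Subsingleton (LocCoh.H 𝔪 (d + 1) (p • (⊤ : Submodule R Q) : Submodule R Q)) :=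
      subsingleton_of_annihilator_le 𝔪 (M := Q)
        (annihilator_le_of_injective _ (p • (⊤ : Submodule R Q)).injective_subtype)
        (hQ.trans_lt (by exact_mod_cast d.lt_succ_self))
    obtain ⟨y, rfl⟩ := (exact_map_δ 𝔪 (p • (⊤ : Submodule R Q)).injective_subtype
      (Submodule.mkQ_surjective _) (LinearMap.exact_subtype_mkQ _) d z).1 (hnext.elim _ _)
    obtain ⟨φ, rfl⟩ := e.surjective y
    have hKs : s • φ = 0 := LinearMap.ext fun x => by
      rw [LinearMap.smul_apply, ← map_smul, Module.mem_annihilator.1 hs, map_zero,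
        LinearMap.zero_apply]
    rw [← map_smul, ← map_smul, hKs, map_zero, map_zero]
  -- and `s` is surjective on it
  let μ : N →ₗ[R] N := LinearMap.lsmul R N s
  have h1 : Subsingleton (LocCoh.H 𝔪 (d + 1) (LinearMap.ker μ.rangeRestrict)) :=
    subsingleton_of_annihilator_le 𝔪 (M := N)
      (annihilator_le_of_injective _ (LinearMap.ker μ.rangeRestrict).injective_subtype)
      (hNle.trans_lt (by exact_mod_cast d.lt_succ_self))
  have h2 : Subsingleton (LocCoh.H 𝔪 d (N ⧸ LinearMap.range μ)) := by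
    refine lc_subsingleton_of_supportDim_lt d R 𝔪 _ (supportDim_lt_of_primes fun q hq hann => ?_)
    have hpq : p ≤ q := fun r hr => hann (Module.mem_annihilator.2 fun z => by
      obtain ⟨z, rfl⟩ := Submodule.Quotient.mk_surjective _ z
      obtain ⟨z, rfl⟩ := Submodule.Quotient.mk_surjective _ z
      rw [← Submodule.Quotient.mk_smul, ← Submodule.Quotient.mk_smul,
        (Submodule.Quotient.mk_eq_zero _).2 (Submodule.smul_mem_smul hr Submodule.mem_top),
        Submodule.Quotient.mk_zero])
    have hsq : s ∈ q := hann (Module.mem_annihilator.2 fun z => by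
      obtain ⟨z, rfl⟩ := Submodule.Quotient.mk_surjective _ z
      rw [← Submodule.Quotient.mk_smul, Submodule.Quotient.mk_eq_zero]
      exact ⟨z, rfl⟩)
    have hlt : p < q := lt_of_le_of_ne hpq fun he => hsp (he ▸ hsq)
    obtain ⟨k, hk⟩ := Depth.CM.supportDim_eq_nat (R := R) (R ⧸ q)
    rw [Module.supportDim_quotient_eq_ringKrullDim] at hk
    have h3 := Depth.Assoc.ringKrullDim_quotient_add_one_le_of_lt hlt
    rw [hk, hdim] at h3
    rw [hk]
    have h4 : k + 1 ≤ d := by exact_mod_cast h3
    exact_mod_cast h4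
  obtain ⟨z, hz⟩ := exists_ne (0 : LocCoh.H 𝔪 d N)
  apply hz
  obtain ⟨w, rfl⟩ := (exact_map_map 𝔪 (LinearMap.range μ).injective_subtype
    (Submodule.mkQ_surjective _) (LinearMap.exact_subtype_mkQ _) d z).1 (h2.elim _ _)
  obtain ⟨v, rfl⟩ := (exact_map_δ 𝔪 (LinearMap.ker μ.rangeRestrict).injective_subtype
    μ.surjective_rangeRestrict (LinearMap.exact_subtype_ker_map _) d w).1 (h1.elim _ _)
  rw [← LinearMap.comp_apply (f := Hmap 𝔪 d _), ← Hmap_comp]
  exact (Hmap_lsmul 𝔪 d s v).trans (hkill v)

/-- The associated primes of `K`. -/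
theorem associatedPrimes_eq (hf : InjHull.IsInjectiveHull f) (hQ : Module.supportDim R Q ≤ d)
    (e : (K →ₗ[R] E) ≃ₗ[R] LocCoh.H 𝔪 d Q) :
    associatedPrimes R K =
      {p : Ideal R | p.IsPrime ∧ Module.annihilator R Q ≤ p ∧ ringKrullDim (R ⧸ p) = d} := by
  refine Set.ext fun p => ⟨fun hp => ?_, fun ⟨h1, h2, h3⟩ => mem_associatedPrimes_of_dim hf hQ e h2 h3⟩
  have h2 := annihilator_le_of_mem hf e.symm.toLinearMap e.symm.surjective hp
  refine ⟨hp.isPrime, h2, le_antisymm ?_ (le_dim_of_mem hf hQ e.symm.toLinearMap e.symm.surjective hp)⟩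
  refine le_trans ?_ hQ
  rw [Module.supportDim_eq_ringKrullDim_quotient_annihilator]
  exact ringKrullDim_le_of_surjective (Ideal.Quotient.factor h2) (Ideal.Quotient.factor_surjective h2)

theorem isSMulRegular_of_avoid (hf : InjHull.IsInjectiveHull f) (hQ : Module.supportDim R Q ≤ d)
    (e : (K →ₗ[R] E) ≃ₗ[R] LocCoh.H 𝔪 d Q) {a : R}
    (ha : ∀ p : Ideal R, p.IsPrime → Module.annihilator R Q ≤ p →
      ringKrullDim (R ⧸ p) = d → a ∉ p) : IsSMulRegular K a := by
  by_contra hc
  have : a ∈ ⋃ p ∈ associatedPrimes R K, (p : Set R) := by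
    rw [biUnion_associatedPrimes_eq_compl_regular]
    exact hc
  obtain ⟨p, hp, hap⟩ := Set.mem_iUnion₂.1 this
  rw [associatedPrimes_eq hf hQ e] at hp
  exact ha p hp.1 hp.2.1 hp.2.2 hap

theorem dim_le_of_mem (hQ : Module.supportDim R Q ≤ (d + 1 : ℕ)) {a : R}
    (ha : ∀ p : Ideal R, p.IsPrime → Module.annihilator R Q ≤ p →
      ringKrullDim (R ⧸ p) = (d + 1 : ℕ) → a ∉ p) {q : Ideal R} (hq : q.IsPrime)
    (hQq : Module.annihilator R Q ≤ q) (haq : a ∈ q) : ringKrullDim (R ⧸ q) ≤ d := by
  obtain ⟨k, hk⟩ := Depth.CM.supportDim_eq_nat (R := R) (R ⧸ q)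
  rw [Module.supportDim_quotient_eq_ringKrullDim] at hk
  have h1 : ringKrullDim (R ⧸ q) ≤ (d + 1 : ℕ) := by
    refine le_trans ?_ hQ
    rw [Module.supportDim_eq_ringKrullDim_quotient_annihilator]
    exact ringKrullDim_le_of_surjective (Ideal.Quotient.factor hQq)
      (Ideal.Quotient.factor_surjective hQq)
  have h2 := fun h => ha q hq hQq h haq
  rw [hk] at h1 h2 ⊢
  have h3 : k ≤ d + 1 := by exact_mod_cast h1
  have h4 : k ≠ d + 1 := fun h => h2 (by exact_mod_cast h)
  exact_mod_cast (show k ≤ d by omega)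

theorem supportDim_quot_le (hQ : Module.supportDim R Q ≤ (d + 1 : ℕ)) {a : R}
    (ha : ∀ p : Ideal R, p.IsPrime → Module.annihilator R Q ≤ p →
      ringKrullDim (R ⧸ p) = (d + 1 : ℕ) → a ∉ p) :
    Module.supportDim R (Q ⧸ a • (⊤ : Submodule R Q)) ≤ d := by
  refine supportDim_le_of_primes fun q hq hann => dim_le_of_mem hQ ha hq
    (((a • (⊤ : Submodule R Q)).mkQ.annihilator_le_of_surjective
      (Submodule.mkQ_surjective _)).trans hann) (hann (Module.mem_annihilator.2 fun z => ?_))
  obtain ⟨z, rfl⟩ := Submodule.Quotient.mk_surjective _ z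
  rw [← Submodule.Quotient.mk_smul, Submodule.Quotient.mk_eq_zero]
  exact Submodule.smul_mem_pointwise_smul z a _ Submodule.mem_top

omit [Module.Finite R K] in
/-- Cutting down by an element. -/
theorem exists_torsion_map (hf : InjHull.IsInjectiveHull f)
    (e : (K →ₗ[R] E) ≃ₗ[R] LocCoh.H 𝔪 (d + 1) Q) (hQ : Module.supportDim R Q ≤ (d + 1 : ℕ))
    {a : R} (ha : ∀ p : Ideal R, p.IsPrime → Module.annihilator R Q ≤ p →
      ringKrullDim (R ⧸ p) = (d + 1 : ℕ) → a ∉ p) :
    ∃ T : LocCoh.H 𝔪 d (Q ⧸ a • (⊤ : Submodule R Q)) →ₗ[R]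
        ((K ⧸ a • (⊤ : Submodule R K)) →ₗ[R] E),
      Function.Surjective T ∧ (Subsingleton (LocCoh.H 𝔪 d Q) → Function.Injective T) := by
  let W : Submodule R Q := a • ⊤
  let g : Q →ₗ[R] W := (LinearMap.lsmul R Q a).codRestrict W
    fun q => Submodule.smul_mem_pointwise_smul q a _ Submodule.mem_top
  have hgs : Function.Surjective g := by
    rintro ⟨w, hw⟩
    obtain ⟨q, -, rfl⟩ := (Submodule.mem_smul_pointwise_iff_exists _ _ _).1 hw
    exact ⟨q, rfl⟩
  have hdN : Module.supportDim R (LinearMap.ker g) ≤ d :=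
    supportDim_le_of_primes fun q hq hann => dim_le_of_mem hQ ha hq
      ((annihilator_le_of_injective _ (LinearMap.ker g).injective_subtype).trans hann)
      (hann (Module.mem_annihilator.2 fun x => Subtype.ext (by
        have := congrArg Subtype.val (LinearMap.mem_ker.1 x.2)
        exact this)))
  have hN1 : Subsingleton (LocCoh.H 𝔪 (d + 1) (LinearMap.ker g)) :=
    lc_subsingleton_of_supportDim_lt _ R 𝔪 _ (hdN.trans_lt (by exact_mod_cast d.lt_succ_self))
  have hN2 : Subsingleton (LocCoh.H 𝔪 (d + 1 + 1) (LinearMap.ker g)) :=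
    lc_subsingleton_of_supportDim_lt _ R 𝔪 _
      (hdN.trans_lt (by exact_mod_cast (show d < d + 1 + 1 by omega)))
  have hgbij : Function.Bijective (Hmap 𝔪 (d + 1) g) := by
    constructor
    · rw [← LinearMap.ker_eq_bot, Submodule.eq_bot_iff]
      intro z hz
      obtain ⟨w, rfl⟩ := (exact_map_map 𝔪 (LinearMap.ker g).injective_subtype hgs
        (LinearMap.exact_subtype_ker_map g) (d + 1) z).1 hz
      rw [hN1.elim w 0, map_zero]
    · exact fun z => (exact_map_δ 𝔪 (LinearMap.ker g).injective_subtype hgs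
        (LinearMap.exact_subtype_ker_map g) (d + 1) z).1 (hN2.elim _ _)
  let Φ := LinearEquiv.ofBijective _ hgbij
  let δ' := δ 𝔪 W.injective_subtype W.mkQ_surjective (LinearMap.exact_subtype_mkQ W) d
  let S : LocCoh.H 𝔪 d (Q ⧸ W) →ₗ[R] (K →ₗ[R] E) :=
    e.symm.toLinearMap ∘ₗ Φ.symm.toLinearMap ∘ₗ δ'
  have hcomp : ∀ y, a • y = Hmap 𝔪 (d + 1) W.subtype (Φ y) := fun y => by
    rw [← Hmap_lsmul, show LinearMap.lsmul R Q a = W.subtype ∘ₗ g from rfl]
    exact LinearMap.congr_fun (Hmap_comp 𝔪 (d + 1) W.subtype g) y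
  let pK := LinearMap.lcomp R E (a • (⊤ : Submodule R K)).mkQ
  have hpK : Function.Injective pK := fun u v h => LinearMap.ext fun x => by
    obtain ⟨x, rfl⟩ := Submodule.Quotient.mk_surjective _ x
    exact LinearMap.congr_fun h x
  have hrange : ∀ φ, φ ∈ LinearMap.range pK ↔ a • φ = 0 := by
    intro φ
    constructor
    · rintro ⟨u, rfl⟩
      refine LinearMap.ext fun x => ?_
      show a • u (Submodule.Quotient.mk x) = 0
      rw [← map_smul, ← Submodule.Quotient.mk_smul, (Submodule.Quotient.mk_eq_zero _).2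
        (Submodule.smul_mem_pointwise_smul x a _ Submodule.mem_top), map_zero]
    · intro h
      refine ⟨(a • (⊤ : Submodule R K)).liftQ φ ?_, rfl⟩
      intro x hx
      obtain ⟨y, -, rfl⟩ := (Submodule.mem_smul_pointwise_iff_exists _ _ _).1 hx
      rw [LinearMap.mem_ker, map_smul]
      exact LinearMap.congr_fun h y
  have hS : ∀ z, S z ∈ LinearMap.range pK := fun z => by
    rw [hrange]
    apply e.injective
    rw [map_smul, map_zero]
    show a • e (e.symm (Φ.symm (δ' z))) = 0
    rw [e.apply_symm_apply, hcomp, Φ.apply_symm_apply]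
    exact (exact_δ_map 𝔪 W.injective_subtype W.mkQ_surjective (LinearMap.exact_subtype_mkQ W)
      d).apply_apply_eq_zero z
  refine ⟨(LinearEquiv.ofInjective pK hpK).symm.toLinearMap ∘ₗ S.codRestrict _ hS, fun u => ?_,
    fun h z₁ z₂ h0 => ?_⟩
  · have h0 : a • e (pK u) = 0 := by rw [← map_smul, (hrange _).1 ⟨u, rfl⟩, map_zero]
    rw [hcomp] at h0
    obtain ⟨z, hz⟩ := (exact_δ_map 𝔪 W.injective_subtype W.mkQ_surjective
      (LinearMap.exact_subtype_mkQ W) d _).1 h0
    refine ⟨z, (LinearEquiv.ofInjective pK hpK).injective (Subtype.ext ?_)⟩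
    rw [LinearMap.comp_apply, LinearEquiv.coe_coe, LinearEquiv.apply_symm_apply]
    show e.symm (Φ.symm (δ' z)) = pK u
    rw [show δ' z = Φ (e (pK u)) from hz, Φ.symm_apply_apply, e.symm_apply_apply]
  · have h' := (LinearEquiv.ofInjective pK hpK).symm.injective h0
    have h1 : δ' z₁ = δ' z₂ := Φ.symm.injective (e.symm.injective (congrArg Subtype.val h'))
    rw [← sub_eq_zero, ← map_sub] at h1
    obtain ⟨w, hw⟩ := (exact_map_δ 𝔪 W.injective_subtype W.mkQ_surjective
      (LinearMap.exact_subtype_mkQ W) d _).1 h1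
    rw [h.elim w 0, map_zero] at hw
    exact sub_eq_zero.1 hw.symm

end Groth.Agent.Lib.LCFin.CanonBasic
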