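import Groth.Agent.Lib.LCFin.HLVT
import Groth.Agent.Lib.LCFin.CanonBasic
import Groth.Agent.Lib.Cohen.PSRegular
import Groth.Agent.Lib.Regular.Serre
import Groth.Agent.Lib.LocalCoh.Transfer

/-!
The Hartshorne–Lichtenbaum vanishing theorem and the associated primes of the dual of the top
local cohomology of a finite module over a complete local ring.
-/

universe u

open CategoryTheory
open scoped Pointwise
open Groth.Agent.Lib.LocalCoh Groth.Agent.Lib.LCFin.Seq Groth.Agent.Lib.LCFin.Cd
  Groth.Agent.Lib.LCFin.Top Groth.Agent.Lib.InjHull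

namespace Groth.Agent.Lib.LCFin.HLVT

/-- Only the maximal ideal lies strictly above a prime of dimension one. -/
theorem eq_or_eq_of_dim_one {R : Type u} [CommRing R] [IsNoetherianRing R] [IsLocalRing R]
    {p q : Ideal R} [p.IsPrime] [q.IsPrime] (hp : ringKrullDim (R ⧸ p) = 1) (hpq : p ≤ q) :
    q = p ∨ q = IsLocalRing.maximalIdeal R := by
  by_contra hne
  push Not at hne
  have h1 := Depth.Assoc.ringKrullDim_quotient_add_one_le_of_lt (lt_of_le_of_ne hpq hne.1.symm)
  have h2 := Depth.Assoc.ringKrullDim_quotient_add_one_le_of_lt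
    (lt_of_le_of_ne (IsLocalRing.le_maximalIdeal (Ideal.IsPrime.ne_top ‹q.IsPrime›)) hne.2)
  rw [hp] at h1
  obtain ⟨l, hl⟩ := Depth.CM.supportDim_eq_nat (R := R) (R ⧸ q)
  rw [Module.supportDim_quotient_eq_ringKrullDim] at hl
  let : Field (R ⧸ IsLocalRing.maximalIdeal R) := Ideal.Quotient.field _
  rw [hl, ringKrullDim_eq_zero_of_field] at h2
  rw [hl] at h1
  have h3 : l + 1 ≤ 1 := by exact_mod_cast h1
  have h4 : 0 + 1 ≤ l := by exact_mod_cast h2
  omega

/-- Hartshorne–Lichtenbaum vanishing for a complete local domain. -/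
theorem subsingleton_domain {S : Type u} [CommRing S] [IsNoetherianRing S] [IsLocalRing S]
    [IsDomain S] [IsAdicComplete (IsLocalRing.maximalIdeal S) S] {d : ℕ} (hd : ringKrullDim S = d)
    (J : Ideal S) (hJ : 0 < ringKrullDim (S ⧸ J)) : Subsingleton (LocCoh.H J d S) := by
  classical
  obtain ⟨p, hp, hJp, hp1⟩ := exists_prime_dim_one J hJ
  refine subsingleton_top_of_le hJp hd.le (fun q hq _ => by
    rw [IsLocalRing.eq_maximalIdeal hq]; exact IsLocalRing.le_maximalIdeal hp.ne_top) ?_
  -- a regular Noether normalisation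
  obtain ⟨Λ, _, n, g, hΛ, hinj, hfin, -⟩ := Cohen.CompleteNagata.exists_finite_injective S
  have hreg : IsRegularLocalRing (MvPowerSeries (Fin n) Λ) := by
    rcases hΛ with hΛ | hΛ
    · let := hΛ.toField
      exact (Cohen.PSRegular.mvPowerSeries Λ n).1
    · obtain ⟨_, _, _, -⟩ := hΛ
      exact (Cohen.PSRegular.mvPowerSeries Λ n).1
  let A := MvPowerSeries (Fin n) Λ
  have : IsDomain A := hinj.isDomain g
  let : Algebra A S := g.toAlgebra
  have : Module.Finite A S := hfin
  have : IsIntegrallyClosed A := Regular.UFD.isIntegrallyClosed A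
  have : FaithfulSMul A S := (faithfulSMul_iff_algebraMap_injective A S).2 hinj
  have : Algebra.IsIntegral A S := Algebra.IsIntegral.of_finite A S
  -- choose the generator
  obtain ⟨b, hbp, hb⟩ : ∃ b ∈ p, ∀ q : Ideal S, q.IsPrime → q.under A = p.under A → q ≠ p → b ∉ q := by
    set T : Set (Ideal S) := {q | q.IsPrime ∧ q.under A = p.under A ∧ q ≠ p}
    have hT : T.Finite := by
      refine (Ideal.finite_minimalPrimes_of_isNoetherianRing S ((p.under A).map (algebraMap A S))).subset ?_
      intro q ⟨hq, hqA, _⟩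
      refine ⟨⟨hq, Ideal.map_le_iff_le_comap.2 hqA.ge⟩, fun q' ⟨hq', hpq'⟩ hle => ?_⟩
      by_contra hne
      have h1 := Ideal.comap_lt_comap_of_integral_mem_sdiff hle
        (x := (SetLike.not_le_iff_exists.1 hne).choose)
        ⟨(SetLike.not_le_iff_exists.1 hne).choose_spec.1, (SetLike.not_le_iff_exists.1 hne).choose_spec.2⟩
        (Algebra.IsIntegral.isIntegral (R := A) _)
      exact h1.not_ge (hqA.trans_le (Ideal.map_le_iff_le_comap.1 hpq'))
    by_contra hc
    push Not at hc
    obtain ⟨q, hq, hpq⟩ : ∃ q ∈ hT.toFinset, p ≤ q := by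
      refine (Ideal.subset_union_prime (f := id) p p fun q hq _ _ => (hT.mem_toFinset.1 hq).1).1 ?_
      intro x hx
      obtain ⟨q, hq, hqA, hne, hxq⟩ := hc x hx
      exact Set.mem_biUnion (hT.mem_toFinset.2 ⟨hq, hqA, hne⟩) hxq
    obtain ⟨hq', hqA, hne⟩ := hT.mem_toFinset.1 hq
    obtain ⟨x, hxq, hxp⟩ := SetLike.exists_of_lt (lt_of_le_of_ne hpq hne.symm)
    exact (Ideal.comap_lt_comap_of_integral_mem_sdiff hpq ⟨hxq, hxp⟩
      (Algebra.IsIntegral.isIntegral (R := A) x)).ne hqA.symm
  have hbint : IsIntegral A b := Algebra.IsIntegral.isIntegral b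
  let B := Algebra.adjoin A ({b} : Set S)
  have : Module.Finite A B := Module.Finite.iff_fg.2 hbint.fg_adjoin_singleton
  have : IsNoetherianRing B := IsNoetherianRing.of_finite A B
  have : Module.Finite B S := Module.Finite.of_restrictScalars_finite A B S
  have : Algebra.IsIntegral B S := Algebra.IsIntegral.of_finite B S
  have hBinj : Function.Injective (algebraMap B S) := Subtype.val_injective
  have : FaithfulSMul B S := (faithfulSMul_iff_algebraMap_injective B S).2 hBinj
  have : IsLocalRing B := IsLocalRing.of_unique_max_ideal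
    ⟨(IsLocalRing.maximalIdeal S).comap (algebraMap B S),
      Ideal.isMaximal_comap_of_isIntegral_of_isMaximal _, fun M hM => by
      obtain ⟨Q, hQ, hQM⟩ := Ideal.exists_ideal_over_maximal_of_isIntegral M
        (by rw [(RingHom.injective_iff_ker_eq_bot _).1 hBinj]; exact bot_le)
      rw [← hQM, IsLocalRing.eq_maximalIdeal hQ]⟩
  have : LocCoh.IsGorensteinRing A := Goren.Rings.isGorensteinRing_of_isRegularRing A
  have : LocCoh.IsGorensteinRing B := by
    have := Goren.Rings.isGorensteinRing_adjoinRoot (minpoly.monic hbint)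
    exact Goren.Rings.isGorensteinRing_of_ringEquiv (minpoly.equivAdjoin hbint).toRingEquiv
  have : LocCoh.IsGorensteinLocalRing B := by
    have := LocCoh.IsGorensteinRing.isGorensteinLocalRing_localization (IsLocalRing.maximalIdeal B)
    have : IsLocalization.AtPrime B (IsLocalRing.maximalIdeal B) := IsLocalization.self fun x hx => by
      by_contra hu
      exact hx ((IsLocalRing.mem_maximalIdeal x).2 hu)
    exact Goren.Flat.isGorensteinLocalRing_ringEquiv
      (R := Localization.AtPrime (IsLocalRing.maximalIdeal B)) (IsLocalization.algEquiv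
      (IsLocalRing.maximalIdeal B).primeCompl (Localization.AtPrime (IsLocalRing.maximalIdeal B))
      B).toRingEquiv
  have : IsPrecomplete (IsLocalRing.maximalIdeal B) B :=
    isPrecomplete_of_injective hBinj (Ideal.map_le_iff_le_comap.2 (IsLocalRing.eq_maximalIdeal
      (Ideal.isMaximal_comap_of_isIntegral_of_isMaximal (R := B) (IsLocalRing.maximalIdeal S))).ge)
  -- descend to it
  let pB := p.under B
  have hdB : ringKrullDim B = d := (Dim.Integral.ringKrullDim_eq_of_isIntegral (A := S)).symm.trans hd
  have hpB : ringKrullDim (B ⧸ pB) = (1 : ℕ) :=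
    ((Dim.Integral.ringKrullDim_quotient_eq_under p).symm.trans hp1).trans Nat.cast_one.symm
  have hvan := subsingleton_gorenstein pB hpB hdB
  obtain ⟨e, rfl⟩ : ∃ e, d = e + 1 := by
    refine Nat.exists_eq_succ_of_ne_zero ?_
    rintro rfl
    have := ringKrullDim_le_of_surjective (Ideal.Quotient.mk p) Ideal.Quotient.mk_surjective
    rw [hp1, hd] at this
    exact absurd this (not_le.2 (by exact_mod_cast Nat.zero_lt_one))
  have hcd : LocCoh.CdLE B pB e := cdLE_of_subsingleton_self pB e fun i hi => by
    rcases eq_or_lt_of_le (Nat.succ_le_of_lt hi) with rfl | hi'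
    · exact hvan
    · exact cdLE_of_ringKrullDim pB (e + 1) hdB.le B i hi'
  have hS : Subsingleton (LocCoh.H (pB.map (algebraMap B S)) (e + 1) S) :=
    cdLE_map (B := S) hcd S (e + 1) e.lt_succ_self
  have hp1A : ringKrullDim (A ⧸ p.under A) = 1 :=
    (Dim.Integral.ringKrullDim_quotient_eq_under p).symm.trans hp1
  have hnone : ∀ q : PrimeSpectrum S, pB.map (algebraMap B S) ≤ q.asIdeal → p ≤ q.asIdeal := by
    intro q hq
    have hbq : b ∈ q.asIdeal := hq (Ideal.mem_map_of_mem (algebraMap B S)
      (x := (⟨b, Algebra.self_mem_adjoin_singleton A b⟩ : B)) hbp)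
    have hle : p.under A ≤ q.asIdeal.under A := fun a ha =>
      hq (Ideal.mem_map_of_mem (algebraMap B S) (x := algebraMap A B a) ha)
    rcases eq_or_eq_of_dim_one hp1A hle with h | h
    · by_contra hne
      exact hb q.asIdeal q.2 h (fun h' => hne h'.ge) hbq
    · have hmax : q.asIdeal.IsMaximal := Ideal.isMaximal_of_isIntegral_of_isMaximal_comap
        (R := A) q.asIdeal (h ▸ IsLocalRing.maximalIdeal.isMaximal A :)
      rw [IsLocalRing.eq_maximalIdeal hmax]
      exact IsLocalRing.le_maximalIdeal hp.ne_top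
  exact ((HmapOfLE_surjective_injective_of_local S (e + 1) (pB.map (algebraMap B S)) p
    (Ideal.map_comap_le)).2 fun q hq hq' => absurd (hnone q hq) hq').subsingleton

variable {R : Type u} [CommRing R] [IsNoetherianRing R] [IsLocalRing R]

/-- Vanishing for a module killed by a prime which is not a generic point. -/
theorem subsingleton_of_prime_killed [IsAdicComplete (IsLocalRing.maximalIdeal R) R] (I p : Ideal R)
    [p.IsPrime] {n : ℕ} (hn : ringKrullDim (R ⧸ p) = n)
    (hI : (I ⊔ p).radical ≠ IsLocalRing.maximalIdeal R) (hIp : I ⊔ p ≠ ⊤)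
    (N : Type u) [AddCommGroup N] [Module R N] (hN : ∀ r ∈ p, ∀ x : N, r • x = 0) :
    Subsingleton (LocCoh.H I n N) := by
  have : IsLocalRing (R ⧸ p) := IsLocalRing.of_surjective' _ Ideal.Quotient.mk_surjective
  have : IsAdicComplete (IsLocalRing.maximalIdeal (R ⧸ p)) (R ⧸ p) := by
    rw [← IsLocalRing.map_maximalIdeal_of_surjective (Ideal.Quotient.mk p)
      Ideal.Quotient.mk_surjective]
    exact Adic.Complete.isAdicComplete_quotient p
  let J := I.map (algebraMap R (R ⧸ p))
  have hJ : 0 < ringKrullDim ((R ⧸ p) ⧸ J) := by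
    rw [show ringKrullDim ((R ⧸ p) ⧸ J) = ringKrullDim (R ⧸ p ⊔ I) from
      ringKrullDim_eq_of_ringEquiv (DoubleQuot.quotQuotEquivQuotSup p I), sup_comm]
    have : Nontrivial (R ⧸ I ⊔ p) := Ideal.Quotient.nontrivial_iff.2 hIp
    refine lt_of_le_of_ne ringKrullDim_nonneg_of_nontrivial fun h0 => hI ?_
    rw [Ideal.radical_eq_sInf]
    refine le_antisymm (sInf_le ⟨IsLocalRing.le_maximalIdeal hIp, inferInstance⟩) (le_sInf ?_)
    rintro q ⟨hIq, hq⟩
    by_contra hqm
    have h1 := Depth.Assoc.ringKrullDim_quotient_add_one_le_of_lt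
      (lt_of_le_not_ge (IsLocalRing.le_maximalIdeal hq.ne_top) hqm)
    let : Field (R ⧸ IsLocalRing.maximalIdeal R) := Ideal.Quotient.field _
    have h2 := h1.trans (ringKrullDim_le_of_surjective (Ideal.Quotient.factor hIq)
      (Ideal.Quotient.factor_surjective _))
    rw [ringKrullDim_eq_zero_of_field, ← h0] at h2
    exact absurd h2 (by simp)
  obtain ⟨e, rfl⟩ : ∃ e, n = e + 1 := by
    refine Nat.exists_eq_succ_of_ne_zero ?_
    rintro rfl
    have := hJ.trans_le (ringKrullDim_le_of_surjective (Ideal.Quotient.mk J)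
      Ideal.Quotient.mk_surjective)
    rw [hn] at this
    exact absurd this (by simp)
  have hvan := subsingleton_domain hn J hJ
  have hcd : LocCoh.CdLE (R ⧸ p) J e := cdLE_of_subsingleton_self J e fun i hi => by
    rcases eq_or_lt_of_le (Nat.succ_le_of_lt hi) with rfl | hi'
    · exact hvan
    · exact cdLE_of_ringKrullDim J (e + 1) hn.le (R ⧸ p) i hi'
  have htors : Module.IsTorsionBySet R N (p : Set R) := fun x r => hN r r.2 x
  let : Module (R ⧸ p) N := htors.module
  have : IsScalarTower R (R ⧸ p) N := htors.isScalarTower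
  obtain ⟨ε⟩ := nonempty_lcRestrictIso (R ⧸ p) I (ModuleCat.of (R ⧸ p) N) (e + 1)
  let ε' := ε ≪≫ (localCohomology I (e + 1)).mapIso (resObjIso (R ⧸ p) N)
  exact @Equiv.subsingleton _ _ ε'.symm.toLinearEquiv.toEquiv (hcd N (e + 1) e.lt_succ_self)

omit [IsLocalRing R] in
/-- A map out of top local cohomology killed by an ideal vanishes when the reduction does. -/
theorem eq_zero_of_killed (I : Ideal R) {n : ℕ} {M : Type u} [AddCommGroup M] [Module R M]
    [Module.Finite R M] (hM : Module.supportDim R M ≤ n) (p : Ideal R)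
    (h : Subsingleton (LocCoh.H I n (M ⧸ p • (⊤ : Submodule R M))))
    {Y : Type u} [AddCommGroup Y] [Module R Y] (φ : LocCoh.H I n M →ₗ[R] Y)
    (hY : ∀ r ∈ p, ∀ z, r • φ z = 0) : φ = 0 := by
  classical
  obtain ⟨k, s, hs⟩ := Submodule.fg_iff_exists_fin_generating_family.1
    (IsNoetherian.noetherian p)
  let π : (Fin k → M) →ₗ[R] M := ∑ j, s j • LinearMap.proj j
  have hrange : LinearMap.range π = p • (⊤ : Submodule R M) := by
    refine le_antisymm ?_ (Submodule.smul_le.2 fun r hr q _ => ?_)
    · rintro _ ⟨v, rfl⟩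
      simp only [π, LinearMap.sum_apply, LinearMap.smul_apply, LinearMap.proj_apply]
      refine Submodule.sum_mem _ fun j _ => Submodule.smul_mem_smul ?_ Submodule.mem_top
      exact hs ▸ Submodule.subset_span ⟨j, rfl⟩
    · rw [← hs] at hr
      induction hr using Submodule.span_induction with
      | mem x hx =>
        obtain ⟨j, rfl⟩ := hx
        exact ⟨Pi.single j q, by simp [π, Pi.single_apply]⟩
      | zero => rw [zero_smul]; exact zero_mem _
      | add a b _ _ ha hb => rw [add_smul]; exact add_mem ha hb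
      | smul c a _ ha => rw [smul_eq_mul, mul_smul]; exact Submodule.smul_mem _ c ha
  rw [← hrange] at h
  have hnext : Subsingleton (LocCoh.H I (n + 1) (LinearMap.ker π.rangeRestrict)) := by
    refine CanonBasic.subsingleton_of_annihilator_le I (M := M) ?_
      (hM.trans_lt (by exact_mod_cast n.lt_succ_self))
    refine le_trans ?_ (CanonBasic.annihilator_le_of_injective _
      (LinearMap.ker π.rangeRestrict).injective_subtype)
    intro r hr
    rw [Module.mem_annihilator] at hr ⊢
    exact fun v => funext fun j => hr (v j)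
  refine LinearMap.ext fun z => ?_
  obtain ⟨w, rfl⟩ := (exact_map_map I (LinearMap.range π).injective_subtype
    (LinearMap.range π).mkQ_surjective (LinearMap.exact_subtype_mkQ _) n z).1 (h.elim _ _)
  obtain ⟨v, rfl⟩ := (exact_map_δ I (LinearMap.ker π.rangeRestrict).injective_subtype
    π.surjective_rangeRestrict (LinearMap.exact_subtype_ker_map _) n w).1 (hnext.elim _ _)
  rw [← LinearMap.comp_apply (f := Hmap I n _), ← Hmap_comp,
    show (LinearMap.range π).subtype ∘ₗ π.rangeRestrict = π from rfl, Duality.Hmap_sum,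
    map_sum, LinearMap.zero_apply]
  refine Finset.sum_eq_zero fun j _ => ?_
  rw [Hmap_smul, LinearMap.smul_apply, map_smul]
  exact hY _ (hs ▸ Submodule.subset_span ⟨j, rfl⟩) _

/-- Top local cohomology is right exact: the reduction is a quotient. -/
theorem surjective_Hmap_mkQ (I : Ideal R) {n : ℕ} {M : Type u} [AddCommGroup M] [Module R M]
    [Module.Finite R M] (hM : Module.supportDim R M ≤ n) (W : Submodule R M) :
    Function.Surjective (Hmap I n W.mkQ) := by
  intro z
  have h : Subsingleton (LocCoh.H I (n + 1) W) :=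
    CanonBasic.subsingleton_of_annihilator_le I (M := M)
      (CanonBasic.annihilator_le_of_injective _ W.injective_subtype)
      (hM.trans_lt (by exact_mod_cast n.lt_succ_self))
  exact (exact_map_δ I W.injective_subtype W.mkQ_surjective
    (LinearMap.exact_subtype_mkQ W) n z).1 (h.elim _ _)

theorem supportDim_quot_lt {n : ℕ} {M : Type u} [AddCommGroup M] [Module R M] [Module.Finite R M]
    (q : Ideal R) [q.IsPrime] (hq : ringKrullDim (R ⧸ q) < (n : WithBot ℕ∞)) :
    Module.supportDim R (M ⧸ q • (⊤ : Submodule R M)) < n := by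
  refine CanonBasic.supportDim_lt_of_primes fun q' _ hann => lt_of_le_of_lt ?_ hq
  refine ringKrullDim_le_of_surjective (Ideal.Quotient.factor fun r hr => hann ?_)
    (Ideal.Quotient.factor_surjective _)
  rw [Module.mem_annihilator]
  intro z
  obtain ⟨z, rfl⟩ := Submodule.Quotient.mk_surjective _ z
  rw [← Submodule.Quotient.mk_smul, Submodule.Quotient.mk_eq_zero]
  exact Submodule.smul_mem_smul hr Submodule.mem_top

variable {E : Type u} [AddCommGroup E] [Module R E] {f : IsLocalRing.ResidueField R →ₗ[R] E}

/-- The associated primes of the dual of the top local cohomology. -/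
theorem associatedPrimes_dual_eq [IsAdicComplete (IsLocalRing.maximalIdeal R) R]
    (hf : InjHull.IsInjectiveHull f) (I : Ideal R) {M : Type u} [AddCommGroup M] [Module R M]
    [Module.Finite R M] {n : ℕ} (hn : Module.supportDim R M ≤ n) :
    associatedPrimes R (LocCoh.H I n M →ₗ[R] E) = {p : Ideal R | p.IsPrime ∧
      Module.annihilator R M ≤ p ∧ ringKrullDim (R ⧸ p) = n ∧
      (I ⊔ p).radical = IsLocalRing.maximalIdeal R} := by
  have hdim : ∀ p : Ideal R, Module.annihilator R M ≤ p → ringKrullDim (R ⧸ p) ≤ n := fun p hp => by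
    refine le_trans ?_ hn
    rw [Module.supportDim_eq_ringKrullDim_quotient_annihilator]
    exact ringKrullDim_le_of_surjective (Ideal.Quotient.factor hp)
      (Ideal.Quotient.factor_surjective hp)
  ext q
  constructor
  · intro hq
    obtain ⟨hprime, x, hx⟩ := (isAssociatedPrime_iff (I := q)).1 hq
    have hx0 : x ≠ 0 := fun h => hprime.ne_top ((Ideal.eq_top_iff_one _).2 (by
      rw [hx, Submodule.mem_colon_singleton, h, smul_zero]; exact zero_mem _))
    have hkill : ∀ r ∈ q, ∀ z, r • x z = 0 := fun r hr z => by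
      rw [hx, Submodule.mem_colon_singleton, Submodule.mem_bot] at hr
      exact LinearMap.congr_fun hr z
    have hann : Module.annihilator R M ≤ q := by
      intro r hr
      rw [hx, Submodule.mem_colon_singleton, Submodule.mem_bot]
      refine LinearMap.ext fun z => ?_
      rw [LinearMap.smul_apply, ← map_smul,
        Module.mem_annihilator.1 (CanonBasic.annihilator_le_annihilator_H I n M hr) z, map_zero,
        LinearMap.zero_apply]
    have hne : ¬ Subsingleton (LocCoh.H I n (M ⧸ q • (⊤ : Submodule R M))) := fun h =>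
      hx0 (eq_zero_of_killed I hn q h x hkill)
    have hdimq : ringKrullDim (R ⧸ q) = n := by
      refine le_antisymm (hdim q hann) (not_lt.1 fun hlt => hne ?_)
      exact lc_subsingleton_of_supportDim_lt n R I _ (supportDim_quot_lt q hlt)
    have hN : ∀ r ∈ q, ∀ z : M ⧸ q • (⊤ : Submodule R M), r • z = 0 := fun r hr z => by
      obtain ⟨z, rfl⟩ := Submodule.Quotient.mk_surjective _ z
      rw [← Submodule.Quotient.mk_smul, Submodule.Quotient.mk_eq_zero]
      exact Submodule.smul_mem_smul hr Submodule.mem_top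
    refine ⟨hprime, hann, hdimq, ?_⟩
    by_contra hrad
    refine hne (subsingleton_of_prime_killed I q hdimq hrad (fun htop => hne ?_) _ hN)
    obtain ⟨a, ha, b, hb, hab⟩ := Submodule.mem_sup.1 (htop ▸ Submodule.mem_top : (1 : R) ∈ I ⊔ q)
    have hid : ∀ z : M ⧸ q • (⊤ : Submodule R M), a • z = z := fun z => by
      conv_rhs => rw [← one_smul R z, ← hab, add_smul, hN b hb, add_zero]
    refine lc_subsingleton_of_smul_bijective I n _ ha ?_
    show Function.Bijective fun z : M ⧸ q • (⊤ : Submodule R M) => a • z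
    simp only [hid]
    exact Function.bijective_id
  · rintro ⟨hprime, hann, hdimq, hrad⟩
    set N := M ⧸ q • (⊤ : Submodule R M) with hNdef
    have hqN : ∀ r ∈ q, ∀ z : N, r • z = 0 := fun r hr z => by
      obtain ⟨z, rfl⟩ := Submodule.Quotient.mk_surjective _ z
      rw [← Submodule.Quotient.mk_smul, Submodule.Quotient.mk_eq_zero]
      exact Submodule.smul_mem_smul hr Submodule.mem_top
    have hsupp : Module.annihilator R N ≤ q := by
      refine (Module.mem_support_iff_of_finite (p := (⟨q, hprime⟩ : PrimeSpectrum R))).1 ?_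
      rw [Module.support_quotient]
      exact ⟨(Module.mem_support_iff_of_finite (p := (⟨q, hprime⟩ : PrimeSpectrum R))).2 hann, le_refl q⟩
    have hN : Module.supportDim R N = n := by
      refine le_antisymm ((CanonBasic.supportDim_le_of_annihilator_le
        ((q • (⊤ : Submodule R M)).mkQ.annihilator_le_of_surjective
          (Submodule.mkQ_surjective _))).trans hn) ?_
      rw [← hdimq, Module.supportDim_eq_ringKrullDim_quotient_annihilator]
      exact ringKrullDim_le_of_surjective (Ideal.Quotient.factor hsupp)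
        (Ideal.Quotient.factor_surjective _)
    have hIm : I ≤ IsLocalRing.maximalIdeal R := le_sup_left.trans (Ideal.le_radical.trans hrad.le)
    have hzero : ∀ (j : ℕ) (p : PrimeSpectrum R), I ≤ p.asIdeal →
        ¬ IsLocalRing.maximalIdeal R ≤ p.asIdeal →
        Subsingleton (LocCoh.H (IsLocalRing.maximalIdeal (Localization.AtPrime p.asIdeal)) j
          (LocalizedModule p.asIdeal.primeCompl N)) := by
      intro j p hp hpm
      have hnot : ¬ q ≤ p.asIdeal := fun hqp =>
        hpm (hrad.ge.trans ((p.2.radical_le_iff).2 (sup_le hp hqp)))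
      have : Subsingleton (LocalizedModule p.asIdeal.primeCompl N) := by
        rw [← Module.notMem_support_iff, Module.mem_support_iff_of_finite]
        exact fun h => hnot (fun r hr => h (Module.mem_annihilator.2 (hqN r hr)))
      refine lc_subsingleton_of_supportDim_lt j _ _ _ ?_
      rw [Module.supportDim_eq_bot_of_subsingleton]
      exact WithBot.bot_lt_coe _
    obtain ⟨h1, h2⟩ := HmapOfLE_surjective_injective_of_local N n I _ hIm
    have hbij : Function.Bijective ((Dual2.HmapOfLE hIm n).app (ModuleCat.of R N)).hom :=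
      ⟨h2 fun p hp hp' j _ => hzero j p hp hp', h1 (hzero n)⟩
    have : Nontrivial (LocCoh.H (IsLocalRing.maximalIdeal R) n N) :=
      (Nonvanishing.nontrivial_and_not_finite n N hN).1
    have hnt : Nontrivial (LocCoh.H I n N) := hbij.1.nontrivial
    let D := LocCoh.H I n N →ₗ[R] E
    have : Nontrivial D := by
      obtain ⟨z, hz⟩ := exists_ne (0 : LocCoh.H I n N)
      by_contra hD
      rw [not_nontrivial_iff_subsingleton] at hD
      exact hz (Matlis.eq_zero_of_forall_dual hf fun φ => by rw [hD.elim φ 0, LinearMap.zero_apply])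
    obtain ⟨q', hq'⟩ := associatedPrimes.nonempty R D
    obtain ⟨hprime', x, hx⟩ := (isAssociatedPrime_iff (I := q')).1 hq'
    have hx0 : x ≠ 0 := fun h => hprime'.ne_top ((Ideal.eq_top_iff_one _).2 (by
      rw [hx, Submodule.mem_colon_singleton, h, smul_zero]; exact zero_mem _))
    have hle : q ≤ q' := fun r hr => by
      rw [hx, Submodule.mem_colon_singleton, Submodule.mem_bot]
      refine LinearMap.ext fun z => ?_
      rw [LinearMap.smul_apply, ← map_smul, Module.mem_annihilator.1
        (CanonBasic.annihilator_le_annihilator_H I n N (Module.mem_annihilator.2 (hqN r hr))) z,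
        map_zero, LinearMap.zero_apply]
    have heq : q = q' := by
      by_contra hne
      refine hx0 (eq_zero_of_killed I hN.le q' (lc_subsingleton_of_supportDim_lt n R I _
        (supportDim_quot_lt q' ?_)) x fun r hr z => ?_)
      · have h3 := Depth.Assoc.ringKrullDim_quotient_add_one_le_of_lt (lt_of_le_of_ne hle hne)
        obtain ⟨l, hl⟩ := Depth.CM.supportDim_eq_nat (R := R) (R ⧸ q')
        rw [Module.supportDim_quotient_eq_ringKrullDim] at hl
        rw [hl, hdimq] at h3
        rw [hl]
        have h4 : l + 1 ≤ n := by exact_mod_cast h3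
        exact_mod_cast h4
      · rw [hx, Submodule.mem_colon_singleton, Submodule.mem_bot] at hr
        exact LinearMap.congr_fun hr z
    rw [← heq] at hq'
    refine associatedPrimes.subset_of_injective (f := LinearMap.lcomp R E
      (Hmap I n (q • (⊤ : Submodule R M)).mkQ)) (fun u v huv => LinearMap.ext fun z => ?_) hq'
    obtain ⟨z, rfl⟩ := surjective_Hmap_mkQ I hn _ z
    exact LinearMap.congr_fun huv z

end Groth.Agent.Lib.LCFin.HLVT
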