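import Groth.Agent.Lib.LCFin.Connected
import Groth.Agent.Lib.LocalCoh.ConnDim

/-!
# Connectedness bounds in complete local rings
-/

universe u

open Groth.Agent.Lib.LocalCoh Groth.Agent.Lib.LCFin.Cd Groth.Agent.Lib.LCFin.Connected PrimeSpectrum

namespace Groth.Agent.Lib.LCFin.ConnBound

variable {R : Type u} [CommRing R] [IsNoetherianRing R]

theorem dim_quot_map (q e : Ideal R) :
    ringKrullDim ((R ⧸ q) ⧸ e.map (algebraMap R (R ⧸ q))) = ringKrullDim (R ⧸ q ⊔ e) :=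
  ringKrullDim_eq_of_ringEquiv (DoubleQuot.quotQuotEquivQuotSup q e)

omit [IsNoetherianRing R] in
theorem dim_sup_le {q P e : Ideal R} (h : P ≤ q) :
    ringKrullDim (R ⧸ q ⊔ e) ≤ ringKrullDim (R ⧸ P ⊔ e) :=
  ringKrullDim_le_of_surjective (Ideal.Quotient.factor (sup_le_sup_right h e))
    (Ideal.Quotient.factor_surjective _)

variable [IsLocalRing R]

/-- A bound on the dimension by the cohomological dimension. -/
theorem le_add_of_cdLE {e : ℕ} (he : ringKrullDim R = e) :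
    ∀ (d : ℕ) (I : Ideal R), I ≠ ⊤ → ringKrullDim (R ⧸ I) ≤ d → ∀ k, LocCoh.CdLE R I k → e ≤ k + d := by
  intro d
  induction d using Nat.strong_induction_on with
  | _ d ih =>
    intro I hI hd k hk
    obtain ⟨d', hd'⟩ := exists_dim_eq I hI
    have hd'd : d' ≤ d := by rw [hd'] at hd; exact_mod_cast hd
    cases d' with
    | zero =>
      have hm : I.radical = IsLocalRing.maximalIdeal R := by
        rw [Ideal.radical_eq_sInf]
        refine le_antisymm (sInf_le ⟨IsLocalRing.le_maximalIdeal hI, inferInstance⟩) (le_sInf ?_)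
        rintro q ⟨hq, hprime⟩
        by_contra hne
        have h1 := (Depth.Assoc.ringKrullDim_quotient_add_one_le_of_lt (lt_of_le_not_ge
          (IsLocalRing.le_maximalIdeal hprime.ne_top) hne)).trans
          (ringKrullDim_le_of_surjective (Ideal.Quotient.factor hq)
            (Ideal.Quotient.factor_surjective _))
        let : Field (R ⧸ IsLocalRing.maximalIdeal R) := Ideal.Quotient.field _
        rw [ringKrullDim_eq_zero_of_field, hd'] at h1
        exact absurd h1 (by decide)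
      by_contra hc
      exact not_subsingleton_iff_nontrivial.2 (Top.not_cdLE_of_radical_eq I hm e he)
        (hk R e (by omega))
    | succ d' =>
      obtain ⟨y, hy, hyd⟩ := exists_dim_drop I hI hd'
      have := ih d' (by omega) (I ⊔ Ideal.span {y}) (fun h =>
        (IsLocalRing.maximalIdeal.isMaximal R).ne_top (top_le_iff.1 (h ▸
          sup_le (IsLocalRing.le_maximalIdeal hI) ((Ideal.span_singleton_le_iff_mem _).2 hy))))
        hyd (k + 1) (cdLE_sup_span_singleton hk y)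
      omega

/-- The bound for one prime. -/
theorem dim_prime_le {q : Ideal R} [q.IsPrime] {I : Ideal R} (hI : I ≠ ⊤) {k d : ℕ}
    (hk : LocCoh.CdLE R I k) (hd : ringKrullDim (R ⧸ q ⊔ I) ≤ d) :
    ringKrullDim (R ⧸ q) ≤ (d + k : ℕ) := by
  obtain ⟨e, he⟩ := exists_dim_eq q (Ideal.IsPrime.ne_top ‹_›)
  have : Nontrivial (R ⧸ q) := Ideal.Quotient.nontrivial_iff.2 (Ideal.IsPrime.ne_top ‹_›)
  have : IsLocalRing (R ⧸ q) :=
    IsLocalRing.of_surjective' (Ideal.Quotient.mk q) Ideal.Quotient.mk_surjective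
  have hne : I.map (algebraMap R (R ⧸ q)) ≠ ⊤ := fun h => by
    have hm : Ideal.map (algebraMap R (R ⧸ q)) (IsLocalRing.maximalIdeal R) =
        IsLocalRing.maximalIdeal (R ⧸ q) :=
      IsLocalRing.map_maximalIdeal_of_surjective _ Ideal.Quotient.mk_surjective
    have := Ideal.map_mono (f := algebraMap R (R ⧸ q)) (IsLocalRing.le_maximalIdeal hI)
    rw [h, top_le_iff, hm] at this
    exact (IsLocalRing.maximalIdeal.isMaximal (R ⧸ q)).ne_top this
  have := le_add_of_cdLE he d _ hne (by rw [dim_quot_map]; exact hd) k (cdLE_map hk)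
  rw [he]
  exact_mod_cast (show e ≤ d + k by omega)

theorem component_of_minimal {P : Ideal R} (hP : P ∈ minimalPrimes R) :
    zeroLocus (P : Set R) ∈ irreducibleComponents (PrimeSpectrum R) := by
  rw [← PrimeSpectrum.zeroLocus_minimalPrimes]
  exact ⟨P, hP, rfl⟩

/-- The general connectedness bound. -/
theorem min_le [IsAdicComplete (IsLocalRing.maximalIdeal R) R] (a b : Ideal R) (ha : a ≠ ⊤)
    (hb : b ≠ ⊤) (d : ℕ) (hd : ringKrullDim (R ⧸ a ⊔ b) = d)
    (hda : (d : WithBot ℕ∞) < ringKrullDim (R ⧸ a)) (hdb : (d : WithBot ℕ∞) < ringKrullDim (R ⧸ b))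
    (k : ℕ) (hk : LocCoh.CdLE R (a ⊓ b) k) :
    min (LocCoh.connDim (PrimeSpectrum R) + 1) (LocCoh.subdim (PrimeSpectrum R)) ≤
      ((d + k + 1 : ℕ) : WithBot ℕ∞) := by
  classical
  have hab : a ⊔ b ≠ ⊤ := fun h => (IsLocalRing.maximalIdeal.isMaximal R).ne_top
    (top_le_iff.1 (h ▸ sup_le (IsLocalRing.le_maximalIdeal ha) (IsLocalRing.le_maximalIdeal hb)))
  have hfin := minimalPrimes.finite_of_isNoetherianRing R
  by_cases hcase : ∃ P ∈ minimalPrimes R, (d : WithBot ℕ∞) < ringKrullDim (R ⧸ P ⊔ a) ∧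
      (d : WithBot ℕ∞) < ringKrullDim (R ⧸ P ⊔ b)
  · obtain ⟨P, hP, hPa, hPb⟩ := hcase
    have : P.IsPrime := hP.1.1
    have : Nontrivial (R ⧸ P) := Ideal.Quotient.nontrivial_iff.2 hP.1.1.ne_top
    have : IsLocalRing (R ⧸ P) :=
      IsLocalRing.of_surjective' (Ideal.Quotient.mk P) Ideal.Quotient.mk_surjective
    have : IsAdicComplete (IsLocalRing.maximalIdeal (R ⧸ P)) (R ⧸ P) := by
      have h := Adic.Complete.isAdicComplete_quotient (I := IsLocalRing.maximalIdeal R) P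
      rwa [IsLocalRing.map_maximalIdeal_of_surjective _ (Ideal.Quotient.mk_surjective (I := P))] at h
    let f := algebraMap R (R ⧸ P)
    have hsup : a.map f ⊔ b.map f = (a ⊔ b).map f := (Ideal.map_sup f a b).symm
    obtain ⟨n, hn⟩ := exists_dim_eq P hP.1.1.ne_top
    have hle : ringKrullDim ((R ⧸ P) ⧸ a.map f ⊔ b.map f) ≤ d := by
      rw [hsup, dim_quot_map]
      exact hd ▸ ringKrullDim_le_of_surjective (Ideal.Quotient.factor le_sup_right)
        (Ideal.Quotient.factor_surjective _)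
    have hne : a.map f ⊔ b.map f ≠ ⊤ := fun h => by
      rw [hsup] at h
      have hm : Ideal.map f (IsLocalRing.maximalIdeal R) = ⊤ :=
        top_le_iff.1 (h ▸ Ideal.map_mono (IsLocalRing.le_maximalIdeal hab))
      rw [show Ideal.map f (IsLocalRing.maximalIdeal R) = IsLocalRing.maximalIdeal (R ⧸ P) from
        IsLocalRing.map_maximalIdeal_of_surjective f Ideal.Quotient.mk_surjective] at hm
      exact (IsLocalRing.maximalIdeal.isMaximal (R ⧸ P)).ne_top hm
    obtain ⟨d', hd'⟩ := exists_dim_eq _ hne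
    have hd'd : d' ≤ d := by rw [hd'] at hle; exact_mod_cast hle
    have hcd : LocCoh.CdLE (R ⧸ P) (a.map f ⊓ b.map f) k := by
      refine (cdLE_congr (le_inf (Ideal.map_mono inf_le_left) (Ideal.map_mono inf_le_right))
        (fun q hq hle => ?_) k).1 (cdLE_map hk)
      rcases (hq.comap f).inf_le.1 (Ideal.map_le_iff_le_comap.1 hle) with h | h
      · exact inf_le_left.trans (Ideal.map_le_iff_le_comap.2 h)
      · exact inf_le_right.trans (Ideal.map_le_iff_le_comap.2 h)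
    have := le_cd_add hn d (a.map f) (b.map f) hne hle
      (lt_of_le_of_lt hle (by rw [dim_quot_map]; exact hPa))
      (lt_of_le_of_lt hle (by rw [dim_quot_map]; exact hPb)) k hcd d' hd'
    refine (min_le_right _ _).trans ((iInf₂_le _ (component_of_minimal hP)).trans ?_)
    rw [ConnDim.dim_zeroLocus, hn]
    exact_mod_cast (show n ≤ d + k + 1 by omega)
  · push Not at hcase
    let S₁ := hfin.toFinset.filter fun P => ringKrullDim (R ⧸ P ⊔ b) ≤ d
    let S₂ := hfin.toFinset.filter fun P => ¬ ringKrullDim (R ⧸ P ⊔ b) ≤ d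
    let c₁ : Ideal R := S₁.inf id
    let c₂ : Ideal R := S₂.inf id
    have hmem₁ : ∀ P ∈ S₁, P ∈ minimalPrimes R ∧ ringKrullDim (R ⧸ P ⊔ b) ≤ d := fun P hP =>
      ⟨hfin.mem_toFinset.1 (Finset.mem_filter.1 hP).1, (Finset.mem_filter.1 hP).2⟩
    have hmem₂ : ∀ P ∈ S₂, P ∈ minimalPrimes R ∧ ringKrullDim (R ⧸ P ⊔ a) ≤ d := fun P hP => by
      refine ⟨hfin.mem_toFinset.1 (Finset.mem_filter.1 hP).1, ?_⟩
      by_contra h
      exact (Finset.mem_filter.1 hP).2
        (hcase P (hfin.mem_toFinset.1 (Finset.mem_filter.1 hP).1) (not_le.1 h))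
    have hexists : ∀ c : Ideal R, (d : WithBot ℕ∞) < ringKrullDim (R ⧸ c) →
        ∃ P ∈ minimalPrimes R, (d : WithBot ℕ∞) < ringKrullDim (R ⧸ P ⊔ c) := fun c hc => by
      by_contra hh
      push Not at hh
      refine (not_le.2 hc) ?_
      rw [← Module.supportDim_quotient_eq_ringKrullDim]
      refine CanonBasic.supportDim_le_of_primes fun q hq hann => ?_
      rw [Ideal.annihilator_quotient] at hann
      obtain ⟨P, hP, hPq⟩ := Ideal.exists_minimalPrimes_le (I := ⊥) (J := q) bot_le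
      exact (ringKrullDim_le_of_surjective (Ideal.Quotient.factor (sup_le hPq hann))
        (Ideal.Quotient.factor_surjective _)).trans (hh P hP)
    obtain ⟨P₁, hP₁, hP₁'⟩ := hexists a hda
    obtain ⟨P₂, hP₂, hP₂'⟩ := hexists b hdb
    have hP₁S : P₁ ∈ S₁ := Finset.mem_filter.2 ⟨hfin.mem_toFinset.2 hP₁, hcase P₁ hP₁ hP₁'⟩
    have hP₂S : P₂ ∈ S₂ := Finset.mem_filter.2 ⟨hfin.mem_toFinset.2 hP₂, not_le.2 hP₂'⟩
    have hle₁ : ∀ q : Ideal R, q.IsPrime → c₁ ≤ q → ∃ P ∈ S₁, P ≤ q := fun q hq h =>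
      hq.inf_le'.1 h
    have hle₂ : ∀ q : Ideal R, q.IsPrime → c₂ ≤ q → ∃ P ∈ S₂, P ≤ q := fun q hq h =>
      hq.inf_le'.1 h
    let Z : Set (PrimeSpectrum R) := zeroLocus (c₁ : Set R) ∩ zeroLocus (c₂ : Set R)
    have hZc : IsClosed Z := (isClosed_zeroLocus _).inter (isClosed_zeroLocus _)
    have hcov : ∀ x : PrimeSpectrum R, x ∈ zeroLocus (c₁ : Set R) ∨ x ∈ zeroLocus (c₂ : Set R) := by
      intro x
      obtain ⟨P, hP, hPx⟩ := Ideal.exists_minimalPrimes_le (I := ⊥) (J := x.asIdeal) bot_le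
      by_cases hb' : ringKrullDim (R ⧸ P ⊔ b) ≤ d
      · exact Or.inl ((mem_zeroLocus _ _).2 ((Finset.inf_le (f := id)
          (Finset.mem_filter.2 ⟨hfin.mem_toFinset.2 hP, hb'⟩)).trans hPx))
      · exact Or.inr ((mem_zeroLocus _ _).2 ((Finset.inf_le (f := id)
          (Finset.mem_filter.2 ⟨hfin.mem_toFinset.2 hP, hb'⟩)).trans hPx))
    have hdis : ¬ IsConnected Zᶜ := fun hc => by
      let x₁ : PrimeSpectrum R := ⟨P₁, hP₁.1.1⟩
      let x₂ : PrimeSpectrum R := ⟨P₂, hP₂.1.1⟩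
      have h1 : x₁ ∉ zeroLocus (c₂ : Set R) := fun h => by
        obtain ⟨Q, hQ, hQP⟩ := hle₂ P₁ hP₁.1.1 ((mem_zeroLocus _ _).1 h)
        have : Q = P₁ := le_antisymm hQP (hP₁.2 ⟨(hmem₂ Q hQ).1.1.1, bot_le⟩ hQP)
        subst this
        exact (Finset.mem_filter.1 hQ).2 (Finset.mem_filter.1 hP₁S).2
      have h2 : x₂ ∉ zeroLocus (c₁ : Set R) := fun h => by
        obtain ⟨Q, hQ, hQP⟩ := hle₁ P₂ hP₂.1.1 ((mem_zeroLocus _ _).1 h)
        have : Q = P₂ := le_antisymm hQP (hP₂.2 ⟨(hmem₁ Q hQ).1.1.1, bot_le⟩ hQP)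
        subst this
        exact (Finset.mem_filter.1 hP₂S).2 (Finset.mem_filter.1 hQ).2
      obtain ⟨x, -, hx1, hx2⟩ := hc.isPreconnected _ _
        (isClosed_zeroLocus (c₂ : Set R)).isOpen_compl (isClosed_zeroLocus (c₁ : Set R)).isOpen_compl
        (fun x hx => by
          by_contra h
          simp only [Set.mem_union, Set.mem_compl_iff, not_or, not_not] at h
          exact hx ⟨h.2, h.1⟩)
        ⟨x₁, fun h => h1 h.2, h1⟩ ⟨x₂, fun h => h2 h.1, h2⟩
      exact (hcov x).elim hx2 hx1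
    have hconn : LocCoh.connDim (PrimeSpectrum R) ≤ ((d + k : ℕ) : WithBot ℕ∞) := by
      refine (iInf₂_le Z ⟨hZc, hdis⟩).trans ?_
      rw [show Z = zeroLocus ((c₁ ⊔ c₂ : Ideal R) : Set R) from (zeroLocus_sup c₁ c₂).symm,
        ConnDim.dim_zeroLocus, ← Module.supportDim_quotient_eq_ringKrullDim]
      refine CanonBasic.supportDim_le_of_primes fun q hq hann => ?_
      rw [Ideal.annihilator_quotient] at hann
      obtain ⟨P, hP, hPq⟩ := hle₁ q hq (le_sup_left.trans hann)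
      obtain ⟨Q, hQ, hQq⟩ := hle₂ q hq (le_sup_right.trans hann)
      refine dim_prime_le (fun h => ha (eq_top_iff.2 (h.ge.trans inf_le_left))) hk ?_
      rw [← Module.supportDim_quotient_eq_ringKrullDim]
      refine CanonBasic.supportDim_le_of_primes fun r hr hann' => ?_
      rw [Ideal.annihilator_quotient] at hann'
      rcases hr.inf_le.1 (le_sup_right.trans hann') with h | h
      · exact ((ringKrullDim_le_of_surjective
          (Ideal.Quotient.factor (sup_le (le_sup_left.trans hann') h))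
          (Ideal.Quotient.factor_surjective _)).trans (dim_sup_le hQq)).trans (hmem₂ Q hQ).2
      · exact ((ringKrullDim_le_of_surjective
          (Ideal.Quotient.factor (sup_le (le_sup_left.trans hann') h))
          (Ideal.Quotient.factor_surjective _)).trans (dim_sup_le hPq)).trans (hmem₁ P hP).2
    refine (min_le_left _ _).trans ?_
    rw [Nat.cast_add (d + k) 1, Nat.cast_one]
    gcongr

/-- The bound by the connectedness dimension of a quotient. -/
theorem min_le_quotient [IsAdicComplete (IsLocalRing.maximalIdeal R) R] (a : Ideal R) (ha : a ≠ ⊤)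
    (k : ℕ) (hk : LocCoh.CdLE R a k) :
    ∃ d : ℕ, LocCoh.connDim (PrimeSpectrum (R ⧸ a)) = d ∧
      min (LocCoh.connDim (PrimeSpectrum R) + 1) (LocCoh.subdim (PrimeSpectrum R)) ≤
        ((d + k + 1 : ℕ) : WithBot ℕ∞) := by
  have : Nontrivial (R ⧸ a) := Ideal.Quotient.nontrivial_iff.2 ha
  have : IsLocalRing (R ⧸ a) :=
    IsLocalRing.of_surjective' (Ideal.Quotient.mk a) Ideal.Quotient.mk_surjective
  obtain ⟨na, hna⟩ := exists_dim_eq a ha
  let 𝒵 := {Z : Set (PrimeSpectrum (R ⧸ a)) | IsClosed Z ∧ ¬ IsConnected Zᶜ}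
  have hne : 𝒵.Nonempty := ⟨Set.univ, isClosed_univ, by
    rw [Set.compl_univ]; exact fun h => Set.not_nonempty_empty h.1⟩
  obtain ⟨Z, hZ, hmin⟩ : ∃ Z ∈ 𝒵, ∀ Z' ∈ 𝒵,
      topologicalKrullDim ↥Z ≤ topologicalKrullDim ↥Z' := by
    obtain ⟨_, ⟨Z, hZ, rfl⟩, hmin⟩ := wellFounded_lt.has_min
      ((fun Z : Set (PrimeSpectrum (R ⧸ a)) => topologicalKrullDim ↥Z) '' 𝒵) (hne.image _)
    exact ⟨Z, hZ, fun Z' hZ' => not_lt.1 (hmin _ ⟨Z', hZ', rfl⟩)⟩
  have hc : LocCoh.connDim (PrimeSpectrum (R ⧸ a)) = topologicalKrullDim ↥Z :=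
    le_antisymm (iInf₂_le Z hZ) (le_iInf₂ fun Z' hZ' => hmin Z' hZ')
  obtain ⟨J, hJ⟩ := (isClosed_iff_zeroLocus_ideal Z).1 hZ.1
  have hJne : J ≠ ⊤ := fun h => hZ.2 (by
    rw [hJ, h, Submodule.top_coe, zeroLocus_univ, Set.compl_empty]
    refine ⟨Set.univ_nonempty, fun U V hU hV hcov ⟨x, _, hx⟩ ⟨y, _, hy⟩ => ?_⟩
    rcases hcov (Set.mem_univ (IsLocalRing.closedPoint (R ⧸ a))) with h | h
    · exact ⟨y, trivial, (IsLocalRing.specializes_closedPoint y).mem_open hU h, hy⟩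
    · exact ⟨x, trivial, hx, (IsLocalRing.specializes_closedPoint x).mem_open hV h⟩)
  obtain ⟨d, hd⟩ := exists_dim_eq J hJne
  have hZd : topologicalKrullDim ↥Z = d := by rw [hJ, ConnDim.dim_zeroLocus, hd]
  refine ⟨d, hc.trans hZd, ?_⟩
  rcases eq_or_ne Z Set.univ with hu | hu
  · obtain ⟨P, hP⟩ := Ideal.nonempty_minimalPrimes (show (⊥ : Ideal R) ≠ ⊤ from bot_ne_top)
    have : P.IsPrime := hP.1.1
    refine (min_le_right _ _).trans ((iInf₂_le _ (component_of_minimal hP)).trans ?_)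
    rw [ConnDim.dim_zeroLocus]
    refine (dim_prime_le ha hk (d := d) ?_).trans (by exact_mod_cast Nat.le_succ _)
    rw [← hZd, hu, ConnDim.dim_univ, PrimeSpectrum.topologicalKrullDim_eq_ringKrullDim]
    exact ringKrullDim_le_of_surjective (Ideal.Quotient.factor le_sup_right)
      (Ideal.Quotient.factor_surjective _)
  have hfin : topologicalKrullDim (PrimeSpectrum (R ⧸ a)) < ⊤ := by
    rw [PrimeSpectrum.topologicalKrullDim_eq_ringKrullDim, hna]
    exact WithBot.coe_lt_coe.2 (ENat.natCast_lt_top na)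
  have hpre : ¬ IsPreconnected Zᶜ := fun h => hZ.2 ⟨Set.nonempty_compl.2 hu, h⟩
  simp only [IsPreconnected, not_forall] at hpre
  obtain ⟨U, V, hU, hV, hUV, ⟨x, hxZ, hxU⟩, ⟨y, hyZ, hyV⟩, hdisj⟩ := hpre
  rw [Set.not_nonempty_iff_eq_empty] at hdisj
  have hnirr : ¬ IrreducibleSpace (PrimeSpectrum (R ⧸ a)) := fun h => by
    obtain ⟨v, hv, hvU, hvV⟩ := (ConnDim.isPreirreducible_diff
      (PreirreducibleSpace.isPreirreducible_univ (X := PrimeSpectrum (R ⧸ a))) hZ.1).isPreconnected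
      U V hU hV (fun v hv => hUV hv.2) ⟨x, ⟨trivial, hxZ⟩, hxU⟩ ⟨y, ⟨trivial, hyZ⟩, hyV⟩
    exact Set.eq_empty_iff_forall_notMem.1 hdisj v ⟨hv.2, hvU, hvV⟩
  obtain ⟨hcs, hiff⟩ := ConnDim.connDim_le_subdim hfin
  have hlt : LocCoh.connDim (PrimeSpectrum (R ⧸ a)) < LocCoh.subdim (PrimeSpectrum (R ⧸ a)) :=
    lt_of_le_of_ne hcs fun h => hnirr (hiff.1 h)
  have big : ∀ (W : Set (PrimeSpectrum (R ⧸ a))), IsClosed W → ∀ (O : Set (PrimeSpectrum (R ⧸ a))),
      IsOpen O → O ∩ Zᶜ ⊆ W → ∀ z ∈ O, z ∈ Zᶜ → (d : WithBot ℕ∞) < topologicalKrullDim ↥W := by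
    intro W hW O hO hOW z hzO hzZ
    obtain ⟨C, hC, hzC⟩ := ConnDim.exists_component z
    have hCW : C ⊆ W := by
      refine fun w hw => hW.closure_subset_iff.2 hOW ?_
      have := subset_closure_inter_of_isPreirreducible_of_isOpen hC.1.2
        (hO.inter hZ.1.isOpen_compl) ⟨z, hzC, hzO, hzZ⟩ hw
      exact closure_mono Set.inter_subset_right this
    calc (d : WithBot ℕ∞) = LocCoh.connDim (PrimeSpectrum (R ⧸ a)) := (hc.trans hZd).symm
      _ < LocCoh.subdim (PrimeSpectrum (R ⧸ a)) := hlt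
      _ ≤ topologicalKrullDim ↥C := iInf₂_le C hC
      _ ≤ _ := ConnDim.dim_mono hCW
  let W₁ := Uᶜ ∪ Z
  let W₂ := Vᶜ ∪ Z
  have hW₁ : IsClosed W₁ := hU.isClosed_compl.union hZ.1
  have hW₂ : IsClosed W₂ := hV.isClosed_compl.union hZ.1
  obtain ⟨J₁, hJ₁⟩ := (isClosed_iff_zeroLocus_ideal W₁).1 hW₁
  obtain ⟨J₂, hJ₂⟩ := (isClosed_iff_zeroLocus_ideal W₂).1 hW₂
  have hinter : W₁ ∩ W₂ = Z := by
    refine Set.Subset.antisymm (fun z hz => ?_) fun z hz => ⟨Or.inr hz, Or.inr hz⟩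
    by_contra hzZ
    rcases hUV hzZ with h | h
    · exact hz.1.elim (fun h' => h' h) hzZ
    · exact hz.2.elim (fun h' => h' h) hzZ
  have h1 : (d : WithBot ℕ∞) < topologicalKrullDim ↥W₁ := big W₁ hW₁ V hV
    (fun z hz => Or.inl fun h => Set.eq_empty_iff_forall_notMem.1 hdisj z ⟨hz.2, h, hz.1⟩) y hyV hyZ
  have h2 : (d : WithBot ℕ∞) < topologicalKrullDim ↥W₂ := big W₂ hW₂ U hU
    (fun z hz => Or.inl fun h => Set.eq_empty_iff_forall_notMem.1 hdisj z ⟨hz.2, hz.1, h⟩) x hxU hxZ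
  let f := Ideal.Quotient.mk a
  have hf : Function.Surjective f := Ideal.Quotient.mk_surjective
  have hdim : ∀ J : Ideal (R ⧸ a), ringKrullDim (R ⧸ J.comap f) = ringKrullDim ((R ⧸ a) ⧸ J) :=
    fun J => ringKrullDim_eq_of_ringEquiv (RingEquiv.ofBijective
      (Ideal.quotientMap J f le_rfl)
      ⟨Ideal.quotientMap_injective, Ideal.quotientMap_surjective hf⟩)
  have hsup : J₁.comap f ⊔ J₂.comap f = (J₁ ⊔ J₂).comap f := by
    rw [← Ideal.map_comap_of_surjective f hf J₁, ← Ideal.map_comap_of_surjective f hf J₂,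
      ← Ideal.map_sup, Ideal.map_comap_of_surjective f hf J₁, Ideal.map_comap_of_surjective f hf J₂,
      Ideal.comap_map_of_surjective f hf]
    refine (sup_eq_left.2 (le_trans ?_ le_sup_left)).symm
    exact Ideal.comap_mono bot_le
  rw [hJ₁, ConnDim.dim_zeroLocus, ← hdim] at h1
  rw [hJ₂, ConnDim.dim_zeroLocus, ← hdim] at h2
  have hd12 : ringKrullDim (R ⧸ J₁.comap f ⊔ J₂.comap f) = d := by
    rw [hsup, hdim, ← ConnDim.dim_zeroLocus, zeroLocus_sup, ← hJ₁, ← hJ₂, hinter, hZd]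
  refine min_le (J₁.comap f) (J₂.comap f) ?_ ?_ d hd12 h1 h2 k ?_
  · intro h
    have : Subsingleton (R ⧸ J₁.comap f) := Ideal.Quotient.subsingleton_iff.2 h
    rw [ringKrullDim_eq_bot_of_subsingleton] at h1
    exact absurd h1 not_lt_bot
  · intro h
    have : Subsingleton (R ⧸ J₂.comap f) := Ideal.Quotient.subsingleton_iff.2 h
    rw [ringKrullDim_eq_bot_of_subsingleton] at h2
    exact absurd h2 not_lt_bot
  refine (cdLE_congr (le_inf ?_ ?_) (fun q hq hle => ?_) k).1 hk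
  · exact fun r hr => by
      rw [Ideal.mem_comap, Ideal.Quotient.eq_zero_iff_mem.2 hr]; exact zero_mem _
  · exact fun r hr => by
      rw [Ideal.mem_comap, Ideal.Quotient.eq_zero_iff_mem.2 hr]; exact zero_mem _
  · have : (q.map f).IsPrime := Ideal.map_isPrime_of_surjective hf (by rwa [Ideal.mk_ker])
    let z : PrimeSpectrum (R ⧸ a) := ⟨q.map f, this⟩
    have hq' : (q.map f).comap f = q := by
      rw [Ideal.comap_map_of_surjective f hf, ← RingHom.ker_eq_comap_bot, Ideal.mk_ker,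
        sup_eq_left.2 hle]
    have hz : z ∈ W₁ ∨ z ∈ W₂ := by
      by_cases hzZ : z ∈ Z
      · exact Or.inl (Or.inr hzZ)
      · rcases hUV hzZ with h | h
        · exact Or.inr (Or.inl fun h' => Set.eq_empty_iff_forall_notMem.1 hdisj z ⟨hzZ, h, h'⟩)
        · exact Or.inl (Or.inl fun h' => Set.eq_empty_iff_forall_notMem.1 hdisj z ⟨hzZ, h', h⟩)
    rcases hz with h | h
    · rw [hJ₁, mem_zeroLocus] at h
      exact inf_le_left.trans ((Ideal.comap_mono h).trans hq'.le)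
    · rw [hJ₂, mem_zeroLocus] at h
      exact inf_le_right.trans ((Ideal.comap_mono h).trans hq'.le)

end Groth.Agent.Lib.LCFin.ConnBound
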