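import Groth.Agent.Lib.DMod.FlatDegree
import Groth.Agent.Lib.RGamma.LocalKill
import Groth.Agent.Lib.LocalCoh.LocDepth
import Groth.Agent.Lib.LCFin.ConnBound
import Groth.Agent.Lib.Regular.Completion
import Groth.Agent.S1779
import Groth.Prelude.Def_Formal2

/-!
Depths at primes of completions of localizations.
-/

universe u

open CategoryTheory TensorProduct

attribute [local instance] HasDerivedCategory.standard

namespace Groth.Agent.Lib.LCFin.Bootstrap

open Groth.Agent.Lib.DMod

variable {A : Type u} [CommRing A] [IsNoetherianRing A]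

/-- `dim (A/p)_q` in terms of degrees. -/
theorem dimBetween_eq {ω : Dual.D A} (hω : Dual.IsDualizing A ω) (p q : PrimeSpectrum A)
    (hpq : p ≤ q) : Formal2.dimBetween A p.asIdeal q.asIdeal =
      (((Degree.deg hω q - Degree.deg hω p).toNat : ℕ) : WithBot ℕ∞) := by
  let R := Localization.AtPrime q.asIdeal
  let e : (R ⧸ p.asIdeal.map (algebraMap A R)) ≃ₗ[R]
      LocalizedModule q.asIdeal.primeCompl (A ⧸ p.asIdeal) :=
    (Algebra.TensorProduct.quotIdealMapEquivTensorQuot R p.asIdeal).toLinearEquiv.trans
      (LocalizedModule.equivTensorProduct q.asIdeal.primeCompl (A ⧸ p.asIdeal)).symm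
  show ringKrullDim (R ⧸ p.asIdeal.map (algebraMap A R)) = _
  rw [← Module.supportDim_quotient_eq_ringKrullDim, Module.supportDim_eq_of_equiv e]
  exact DimDegree.supportDim_localized_eq hω q p _ hpq
    ((HomSupp.mem_support_quotient_prime p p).2 le_rfl)
    fun r hr _ => Degree.deg_le hω ((HomSupp.mem_support_quotient_prime p r).1 hr)

theorem depth_eq_top (R : Type u) [CommRing R] [IsLocalRing R] (N : Type u) [AddCommGroup N]
    [Module R N] [Subsingleton N] : LocCoh.depth R N = ⊤ := by
  rw [LocCoh.depth, LocCoh.idealDepth, if_pos (Subsingleton.elim _ _)]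

variable {ω : Dual.D A} (hω : Dual.IsDualizing A ω) (I : Ideal A) (M : Type u) [AddCommGroup M]
  [Module A M] [Module.Finite A M] (q : PrimeSpectrum A)

local notation "R" => Localization.AtPrime q.asIdeal
local notation "B" =>
  AdicCompletion (I.map (algebraMap A (Localization.AtPrime q.asIdeal)))
    (Localization.AtPrime q.asIdeal)

include hω in
theorem exists_dualizing : ∃ ω' : Dual.D B, Dual.IsDualizing B ω' := by
  have : DRing.HasLBaseChange (algebraMap R B) := DR.BaseChangeU.hasLBaseChange _
  exact ⟨_, S1779.result R (I.map (algebraMap A R)) _ (RGamma.LocalKill.isDualizing_local q hω)⟩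

/-- The prime of `A` below a prime of the completion. -/
noncomputable abbrev below (p' : PrimeSpectrum B) : PrimeSpectrum A :=
  PrimeSpectrum.comap (algebraMap A R) (PrimeSpectrum.comap (algebraMap R B) p')

omit [IsNoetherianRing A] in
theorem below_asIdeal (p' : PrimeSpectrum B) :
    (below I q p').asIdeal = p'.asIdeal.comap (algebraMap A B) := by
  rw [IsScalarTower.algebraMap_eq A R B, ← Ideal.comap_comap]
  rfl

omit [IsNoetherianRing A] in
theorem below_le (p' : PrimeSpectrum B) : below I q p' ≤ q :=
  (Ideal.comap_mono (IsLocalRing.le_maximalIdeal (PrimeSpectrum.comap (algebraMap R B) p').isPrime.ne_top)).trans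
    (IsLocalization.AtPrime.under_maximalIdeal R q.asIdeal).le

include hω in
/-- The data at a prime of the completion. -/
theorem exists_deg (hq : I ≤ q.asIdeal) :
    ∃ (ω' : Dual.D B) (hω' : Dual.IsDualizing B ω') (_ : IsLocalRing B),
      Degree.deg hω' (IsLocalRing.closedPoint B) = Degree.deg hω q ∧
      ∀ p' : PrimeSpectrum B,
        Degree.deg hω (below I q p') ≤ Degree.deg hω' p' ∧
        (p'.asIdeal ∈ ((p'.asIdeal.comap (algebraMap R B)).map (algebraMap R B)).minimalPrimes →
          Degree.deg hω' p' = Degree.deg hω (below I q p')) ∧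
        ((LocCoh.depth (Localization.AtPrime (below I q p').asIdeal)
            (LocalizedModule (below I q p').asIdeal.primeCompl M) = ⊤ ∧
          LocCoh.depth (Localization.AtPrime p'.asIdeal) (LocalizedModule p'.asIdeal.primeCompl
            (AdicCompletion (I.map (algebraMap A R)) (LocalizedModule q.asIdeal.primeCompl M))) = ⊤) ∨
          ∃ n m : ℕ, LocCoh.depth (Localization.AtPrime (below I q p').asIdeal)
              (LocalizedModule (below I q p').asIdeal.primeCompl M) = n ∧
            LocCoh.depth (Localization.AtPrime p'.asIdeal) (LocalizedModule p'.asIdeal.primeCompl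
              (AdicCompletion (I.map (algebraMap A R))
                (LocalizedModule q.asIdeal.primeCompl M))) = m ∧
            (m : ℤ) - n = Degree.deg hω' p' - Degree.deg hω (below I q p')) := by
  let J := I.map (algebraMap A R)
  have hJ : J ≠ ⊤ := fun h => (IsLocalRing.maximalIdeal.isMaximal R).ne_top (top_le_iff.1
    (h ▸ (Ideal.map_mono hq).trans (IsLocalization.AtPrime.map_eq_maximalIdeal q.asIdeal R).le))
  have := Regular.Completion.isLocalRing J hJ
  have := AdicCompletion.flat_of_isNoetherian J
  have := Excellent.CompletionNoetherian.isNoetherianRing_adicCompletion J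
  have : DRing.HasLBaseChange (algebraMap R B) := DR.BaseChangeU.hasLBaseChange _
  have hωR := RGamma.LocalKill.isDualizing_local q hω
  have hωB : Dual.IsDualizing B ((FlatHom.L R B).obj ((FlatHom.L A R).obj ω)) :=
    LBC.isDualizing_of_iso ((FlatHom.isoLBaseChange R B).app _) (S1779.result R J _ hωR)
  have hdR : ∀ P : PrimeSpectrum R,
      Degree.deg hωR P = Degree.deg hω (PrimeSpectrum.comap (algebraMap A R) P) := fun P =>
    FlatDegree.deg_eq_of_map_eq hω hωR P (IsLocalization.map_comap q.asIdeal.primeCompl R P.asIdeal)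
  refine ⟨_, hωB, inferInstance, ?_, fun p' => ⟨?_, fun hmin => ?_, ?_⟩⟩
  · have hm := Regular.Completion.map_maximalIdeal J hJ
    have hc : PrimeSpectrum.comap (algebraMap R B) (IsLocalRing.closedPoint B) =
        IsLocalRing.closedPoint R := by
      have := Regular.Completion.isLocalHom J hJ
      exact IsLocalRing.comap_closedPoint (algebraMap R B)
    rw [FlatDegree.deg_eq_of_map_eq hωR hωB (IsLocalRing.closedPoint B) (by rw [hc]; exact hm), hc,
      hdR]
    exact congrArg (Degree.deg hω)
      (PrimeSpectrum.ext (IsLocalization.AtPrime.under_maximalIdeal R q.asIdeal))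
  · exact (hdR _).symm.trans_le (FlatDegree.deg_comap_le hωR hωB p')
  · exact (FlatDegree.deg_eq_of_minimal hωR hωB p' hmin).trans (hdR _)
  · let N := LocalizedModule q.asIdeal.primeCompl M
    let P := PrimeSpectrum.comap (algebraMap R B) p'
    have : Module.Finite R N := Module.Finite.of_isLocalizedModule q.asIdeal.primeCompl
      (LocalizedModule.mkLinearMap q.asIdeal.primeCompl M)
    let e : (B ⊗[R] N) ≃ₗ[B] AdicCompletion J N :=
      LinearEquiv.ofBijective (AdicCompletion.ofTensorProduct J N)
        (AdicCompletion.ofTensorProductEquivOfFiniteNoetherian J N).bijective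
    have hd : LocCoh.depth (Localization.AtPrime p'.asIdeal)
          (LocalizedModule p'.asIdeal.primeCompl (AdicCompletion J N)) =
        LocCoh.depth (Localization.AtPrime p'.asIdeal)
          (LocalizedModule p'.asIdeal.primeCompl (B ⊗[R] N)) :=
      Depth.Basic.depth_congr (IsLocalizedModule.mapEquiv p'.asIdeal.primeCompl
        (LocalizedModule.mkLinearMap p'.asIdeal.primeCompl (AdicCompletion J N))
        (LocalizedModule.mkLinearMap p'.asIdeal.primeCompl (B ⊗[R] N))
        (Localization.AtPrime p'.asIdeal) e.symm)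
    have hA : LocCoh.depth (Localization.AtPrime (below I q p').asIdeal)
          (LocalizedModule (below I q p').asIdeal.primeCompl M) =
        LocCoh.depth (Localization.AtPrime P.asIdeal) (LocalizedModule P.asIdeal.primeCompl N) :=
      LocalCoh.LocDepth.depth_eq q.asIdeal.primeCompl M P.asIdeal _ rfl
    rw [hA, hd]
    by_cases hN : P ∈ Module.support R N
    · obtain ⟨n, m, hn, hm, hnm⟩ := FlatDegree.depth_eq hωR hωB p' N hN
      exact Or.inr ⟨n, m, hn, hm, hnm.trans (congrArg (_ - ·) (hdR _))⟩
    · left
      have h1 : Subsingleton (LocalizedModule P.asIdeal.primeCompl N) :=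
        Module.notMem_support_iff.1 hN
      have h2 : Subsingleton (LocalizedModule p'.asIdeal.primeCompl (B ⊗[R] N)) := by
        refine Module.notMem_support_iff.1 fun h => hN ?_
        rw [Module.mem_support_iff'] at h ⊢
        obtain ⟨z, hz⟩ := h
        by_contra hc
        push Not at hc
        suffices h' : ∃ t : R, t ∉ P.asIdeal ∧ t • z = 0 by
          obtain ⟨t, ht, h0⟩ := h'
          exact hz (algebraMap R B t) ht (by rw [algebraMap_smul, h0])
        clear hz
        induction z using TensorProduct.induction_on with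
        | zero => exact ⟨1, P.isPrime.one_notMem, smul_zero _⟩
        | tmul b m =>
          obtain ⟨t, ht, ht'⟩ := hc m
          exact ⟨t, ht, by rw [← TensorProduct.tmul_smul, ht', TensorProduct.tmul_zero]⟩
        | add x y hx hy =>
          obtain ⟨s, hs, hsx⟩ := hx
          obtain ⟨t, ht, hty⟩ := hy
          exact ⟨s * t, P.isPrime.mul_notMem hs ht, by
            rw [smul_add, mul_comm, mul_smul, hsx, smul_zero, zero_add, mul_comm, mul_smul, hty,
              smul_zero]⟩
      exact ⟨depth_eq_top _ _, depth_eq_top _ _⟩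

include hω in
/-- Depth above `s` on a prime with no prime of `V(I)` outside `q` between. -/
theorem depth_gt_of_minimal (s : ℕ) (hq : I ≤ q.asIdeal) (p : PrimeSpectrum A) (hpq : p ≤ q)
    (hp : ¬ I ≤ p.asIdeal)
    (hmin : ∀ r : PrimeSpectrum A, p ≤ r → r ≤ q → I ≤ r.asIdeal → r = q)
    (h6 : ∀ p' : PrimeSpectrum B, ¬ I.map (algebraMap A B) ≤ p'.asIdeal →
      (∀ q' : PrimeSpectrum B, p' ≤ q' → I.map (algebraMap A B) ≤ q'.asIdeal → q'.asIdeal.IsMaximal) →
      (s : ℕ∞) < LocCoh.depth (Localization.AtPrime p'.asIdeal) (LocalizedModule p'.asIdeal.primeCompl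
        (AdicCompletion (I.map (algebraMap A R)) (LocalizedModule q.asIdeal.primeCompl M)))) :
    (s : ℕ∞) < LocCoh.depth (Localization.AtPrime p.asIdeal)
      (LocalizedModule p.asIdeal.primeCompl M) := by
  let J := I.map (algebraMap A R)
  have hJ : J ≠ ⊤ := fun h => (IsLocalRing.maximalIdeal.isMaximal R).ne_top (top_le_iff.1
    (h ▸ (Ideal.map_mono hq).trans (IsLocalization.AtPrime.map_eq_maximalIdeal q.asIdeal R).le))
  have := Regular.Completion.isLocalRing J hJ
  have := AdicCompletion.flat_of_isNoetherian J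
  have := Excellent.CompletionNoetherian.isNoetherianRing_adicCompletion J
  have := Regular.Completion.isLocalHom J hJ
  have : Module.FaithfullyFlat R B := Module.FaithfullyFlat.of_flat_of_isLocalHom
  have hdisj : Disjoint (q.asIdeal.primeCompl : Set A) p.asIdeal :=
    Set.disjoint_left.2 fun x hx hx' => hx (hpq hx')
  let pR : PrimeSpectrum R := ⟨p.asIdeal.map (algebraMap A R),
    IsLocalization.isPrime_of_isPrime_disjoint q.asIdeal.primeCompl R p.asIdeal p.isPrime hdisj⟩
  have hpR : PrimeSpectrum.comap (algebraMap A R) pR = p := PrimeSpectrum.ext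
    (IsLocalization.comap_map_of_isPrime_disjoint q.asIdeal.primeCompl R p.isPrime hdisj)
  obtain ⟨P, hP⟩ : ∃ P : PrimeSpectrum B, PrimeSpectrum.comap (algebraMap R B) P = pR :=
    PrimeSpectrum.comap_surjective_of_faithfullyFlat pR
  obtain ⟨Q, hQ, hQP⟩ := Ideal.exists_minimalPrimes_le (I := pR.asIdeal.map (algebraMap R B))
    (J := P.asIdeal) (Ideal.map_le_iff_le_comap.2 (congrArg PrimeSpectrum.asIdeal hP).ge)
  let p' : PrimeSpectrum B := ⟨Q, hQ.1.1⟩
  have hcQ : PrimeSpectrum.comap (algebraMap R B) p' = pR := PrimeSpectrum.ext (le_antisymm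
    ((Ideal.comap_mono hQP).trans (congrArg PrimeSpectrum.asIdeal hP).le)
    (Ideal.map_le_iff_le_comap.1 hQ.1.2))
  have hbelow : below I q p' = p := (congrArg _ hcQ).trans hpR
  obtain ⟨ω', hω', -, -, hdata⟩ := exists_deg hω I M q hq
  obtain ⟨-, hd, hdep⟩ := hdata p'
  rw [hbelow] at hd hdep
  have hd' := hd (by
    rw [show p'.asIdeal.comap (algebraMap R B) = pR.asIdeal from congrArg PrimeSpectrum.asIdeal hcQ]
    exact hQ)
  have h := h6 p' (fun h => hp ?_) fun q' hq' hIq' => ?_
  · rcases hdep with ⟨hn, hm⟩ | ⟨n, m, hn, hm, hnm⟩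
    · rw [hn]; exact ENat.natCast_lt_top s
    · rw [hm] at h
      rw [hn]
      have : n = m := by omega
      subst this
      exact h
  · rw [← hbelow, below_asIdeal]
    exact Ideal.map_le_iff_le_comap.1 h
  · have h1 : below I q q' = q := by
      refine hmin _ ?_ (below_le I q q') ?_
      · rw [← hbelow]
        exact Ideal.comap_mono (Ideal.comap_mono hq')
      · rw [below_asIdeal]
        exact Ideal.map_le_iff_le_comap.1 hIq'
    have h2 : (IsLocalRing.maximalIdeal R).map (algebraMap R B) ≤ q'.asIdeal := by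
      rw [Ideal.map_le_iff_le_comap,
        ← IsLocalization.AtPrime.map_eq_maximalIdeal q.asIdeal R, Ideal.map_le_iff_le_comap]
      exact (congrArg PrimeSpectrum.asIdeal h1).ge
    rw [Regular.Completion.map_maximalIdeal J hJ] at h2
    exact ((IsLocalRing.maximalIdeal.isMaximal B).eq_of_le q'.isPrime.ne_top h2) ▸
      IsLocalRing.maximalIdeal.isMaximal B

include hω in
/-- The depth condition on completions from the depth condition on `A`. -/
theorem depth_gt_completion (s d : ℕ) (hcd : LocCoh.CdLE A I d) (hq : I ≤ q.asIdeal)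
    (p' : PrimeSpectrum B) (hp' : ¬ I.map (algebraMap A B) ≤ p'.asIdeal)
    (hmax : ∀ q' : PrimeSpectrum B, p' ≤ q' → I.map (algebraMap A B) ≤ q'.asIdeal →
      q'.asIdeal.IsMaximal)
    (hc : ∀ p : PrimeSpectrum A, p ≤ q → ¬ I ≤ p.asIdeal →
      (s : ℕ∞) < LocCoh.depth (Localization.AtPrime p.asIdeal)
          (LocalizedModule p.asIdeal.primeCompl M) ∨
        (((d + s : ℕ) : ℕ∞) : WithBot ℕ∞) < ((LocCoh.depth (Localization.AtPrime p.asIdeal)
          (LocalizedModule p.asIdeal.primeCompl M) : ℕ∞) : WithBot ℕ∞) +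
            Formal2.dimBetween A p.asIdeal q.asIdeal) :
    (s : ℕ∞) < LocCoh.depth (Localization.AtPrime p'.asIdeal) (LocalizedModule p'.asIdeal.primeCompl
      (AdicCompletion (I.map (algebraMap A R)) (LocalizedModule q.asIdeal.primeCompl M))) := by
  obtain ⟨ω', hω', _, hclosed, hdata⟩ := exists_deg hω I M q hq
  have := hω'.isNoetherianRing
  obtain ⟨hd, -, hdep⟩ := hdata p'
  rcases hdep with ⟨-, hm⟩ | ⟨n, m, hn, hm, hnm⟩
  · rw [hm]; exact ENat.natCast_lt_top s
  rw [hm]
  have hle := below_le I q p'
  have hIp : ¬ I ≤ (below I q p').asIdeal := by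
    rw [below_asIdeal, ← Ideal.map_le_iff_le_comap]
    exact hp'
  rcases hc _ hle hIp with h | h
  · rw [hn] at h
    have : s < n := by exact_mod_cast h
    exact_mod_cast (show s < m by omega)
  · rw [hn, dimBetween_eq hω _ q hle] at h
    have h' : d + s < n + (Degree.deg hω q - Degree.deg hω (below I q p')).toNat := by
      exact_mod_cast h
    have hcdB : LocCoh.CdLE B (I.map (algebraMap A B)) d := Cd.cdLE_map hcd
    have hJB : I.map (algebraMap A B) ≠ ⊤ := fun htop => by
      have h1 : below I q (IsLocalRing.closedPoint B) ≤ q := below_le I q _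
      have hIm : I.map (algebraMap A B) ≤ IsLocalRing.maximalIdeal B := by
        rw [Ideal.map_le_iff_le_comap, IsScalarTower.algebraMap_eq A R B, ← Ideal.comap_comap,
          ← Ideal.map_le_iff_le_comap, ← Ideal.map_le_iff_le_comap]
        have hJ : I.map (algebraMap A R) ≠ ⊤ := fun h => (IsLocalRing.maximalIdeal.isMaximal R).ne_top
          (top_le_iff.1 (h ▸ (Ideal.map_mono hq).trans
            (IsLocalization.AtPrime.map_eq_maximalIdeal q.asIdeal R).le))
        rw [← Regular.Completion.map_maximalIdeal _ hJ]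
        exact Ideal.map_mono (IsLocalRing.le_maximalIdeal hJ)
      exact (IsLocalRing.maximalIdeal.isMaximal B).ne_top (top_le_iff.1 (htop ▸ hIm))
    have h0 : ringKrullDim (B ⧸ p'.asIdeal ⊔ I.map (algebraMap A B)) ≤ (0 : ℕ) := by
      have : Ring.KrullDimLE 0 (B ⧸ p'.asIdeal ⊔ I.map (algebraMap A B)) :=
        Ring.krullDimLE_zero_iff.2 fun P hP => by
          have hQ : (P.comap (Ideal.Quotient.mk _)).IsPrime := hP.comap _
          have hle' : p'.asIdeal ⊔ I.map (algebraMap A B) ≤ P.comap (Ideal.Quotient.mk _) :=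
            Ideal.mk_ker.ge.trans (Ideal.comap_mono bot_le)
          have := hmax ⟨_, hQ⟩ (le_sup_left.trans hle') (le_sup_right.trans hle')
          rw [← Ideal.map_comap_of_surjective (Ideal.Quotient.mk _) Ideal.Quotient.mk_surjective P]
          exact Ideal.IsMaximal.map_of_surjective_of_ker_le Ideal.Quotient.mk_surjective
            (Ideal.comap_mono bot_le)
      exact_mod_cast (Ring.krullDimLE_iff.1 this)
    have h2 := ConnBound.dim_prime_le hJB hcdB h0
    rw [DimDegree.ringKrullDim_quotient_eq hω'] at h2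
    have h3 : (Degree.deg hω' (IsLocalRing.closedPoint B) - Degree.deg hω' p').toNat ≤ 0 + d := by
      exact_mod_cast h2
    exact_mod_cast (show s < m by omega)

end Groth.Agent.Lib.LCFin.Bootstrap
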