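import Groth.Agent.Lib.Goren.Flat
import Groth.Agent.Lib.Depth.CM
import Groth.Agent.Lib.LCFin.CMDim

/-!
The depth along an ideal in terms of a Cohen–Macaulay closed fibre.
-/

universe u

open IsLocalRing
open scoped Pointwise

namespace Groth.Agent.Lib.LCFin.FibreDepth


variable {A B : Type u} [CommRing A] [IsLocalRing A] [IsNoetherianRing A] [CommRing B]
  [IsLocalRing B] [IsNoetherianRing B] [Algebra A B] [IsLocalHom (algebraMap A B)]

theorem regular_flat_of_fibre_module {M : Type u} [AddCommGroup M] [Module A M] [Module B M]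
    [IsScalarTower A B M] [Module.Finite B M] [Module.Flat A M] (y : B)
    (hy : IsSMulRegular (M ⧸ (maximalIdeal A).map (algebraMap A B) • (⊤ : Submodule B M)) y) :
    IsSMulRegular M y ∧ Module.Flat A (QuotSMulTop y M) := by
  let u : M →ₗ[A] M := (LinearMap.lsmul B M y).restrictScalars A
  have hmem : ∀ z : M, z ∈ maximalIdeal A • (⊤ : Submodule A M) ↔
      z ∈ (maximalIdeal A).map (algebraMap A B) • (⊤ : Submodule B M) := fun z => by
    rw [← Submodule.restrictScalars_mem A ((maximalIdeal A).map (algebraMap A B) • (⊤ : Submodule B M)),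
      Ideal.smul_restrictScalars, Submodule.restrictScalars_top]
  have h : Function.Injective (u.lTensor (ResidueField A)) := by
    refine (LocalFlat.SmulTop.lTensor_quotient_injective_iff (maximalIdeal A) u).mpr fun x hx => ?_
    rw [hmem] at hx ⊢
    rw [← Submodule.Quotient.mk_eq_zero] at hx ⊢
    refine hy ?_
    show y • Submodule.Quotient.mk x = y • 0
    rw [smul_zero, ← Submodule.Quotient.mk_smul]
    exact hx
  refine ⟨LocalFlat.InjMod.injective_of_injective_mod u h B, ?_⟩
  have := LocalFlat.InjMod.flat_coker u h B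
  refine Module.Flat.of_linearEquiv (R := A) (M := M ⧸ LinearMap.range u)
    (Submodule.quotEquivOfEq ((y • (⊤ : Submodule B M)).restrictScalars A) (LinearMap.range u) ?_)
  ext z
  rw [Submodule.restrictScalars_mem, Submodule.mem_smul_pointwise_iff_exists]
  exact ⟨fun ⟨a, _, ha⟩ => ⟨a, ha⟩, fun ⟨a, ha⟩ => ⟨a, Submodule.mem_top, ha⟩⟩

/-- A sequence regular on the closed fibre is regular. -/
theorem isWeaklyRegular_of_fibre : ∀ (rs : List B) (M : Type u) [AddCommGroup M] [Module A M]
    [Module B M] [IsScalarTower A B M] [Module.Finite B M] [Module.Flat A M],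
    RingTheory.Sequence.IsWeaklyRegular
      (M ⧸ (maximalIdeal A).map (algebraMap A B) • (⊤ : Submodule B M)) rs →
    RingTheory.Sequence.IsWeaklyRegular M rs := by
  intro rs
  induction rs with
  | nil => exact fun M _ _ _ _ _ _ _ => RingTheory.Sequence.IsWeaklyRegular.nil B M
  | cons y rs ih =>
    intro M _ _ _ _ _ _ h
    rw [RingTheory.Sequence.isWeaklyRegular_cons_iff] at h ⊢
    obtain ⟨hreg, hflat⟩ := regular_flat_of_fibre_module y h.1
    refine ⟨hreg, ?_⟩
    have := hflat
    refine ih (QuotSMulTop y M) ((LinearEquiv.isWeaklyRegular_congr ?_ rs).1 h.2)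
    set J := (maximalIdeal A).map (algebraMap A B) with hJ
    set S := J • (⊤ : Submodule B M)
    set T := y • (⊤ : Submodule B M)
    let e1 : QuotSMulTop y (M ⧸ S) ≃ₗ[B] M ⧸ S ⊔ T :=
      (Submodule.quotEquivOfEq _ _ (by
        rw [Submodule.map_pointwise_smul, Submodule.map_top, Submodule.range_mkQ])).trans
        (Submodule.quotientQuotientEquivQuotientSup S T)
    let e2 : (QuotSMulTop y M ⧸ J • (⊤ : Submodule B (QuotSMulTop y M))) ≃ₗ[B] M ⧸ T ⊔ S :=
      (Submodule.quotEquivOfEq _ _ (by
        rw [Submodule.map_smul'', Submodule.map_top, Submodule.range_mkQ])).trans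
        (Submodule.quotientQuotientEquivQuotientSup T S)
    exact e1.trans ((Submodule.quotEquivOfEq _ _ (sup_comm _ _)).trans e2.symm)

/-- The depth along an ideal is at least the one on the closed fibre. -/
theorem le_idealDepth_of_fibre [Module.Flat A B] (I : Ideal B) (hI : I ≠ ⊤) :
    LocCoh.idealDepth I (B ⧸ (maximalIdeal A).map (algebraMap A B)) ≤ LocCoh.idealDepth I B := by
  set J := (maximalIdeal A).map (algebraMap A B)
  have : Nontrivial (B ⧸ J) := Ideal.Quotient.nontrivial_iff.2 fun h =>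
    (maximalIdeal.isMaximal B).ne_top (top_le_iff.1 (h ▸ IsLocalRing.map_maximalIdeal_le (algebraMap A B)))
  refine ENat.forall_natCast_le_iff_le.1 fun n hn => ?_
  obtain ⟨rs, rfl, hmem, hreg⟩ := (Depth.Basic.le_idealDepth_iff_of_ne_top
    (Depth.Basic.smul_top_ne_top hI) n).1 hn
  refine Depth.Basic.length_le_idealDepth (isWeaklyRegular_of_fibre (A := A) rs B ?_) hmem
  refine (LinearEquiv.isWeaklyRegular_congr ?_ rs).1 hreg
  exact Submodule.quotEquivOfEq _ _ (by
    rw [smul_eq_mul, Ideal.mul_top])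

/-- The inequality relating dimensions on a Cohen–Macaulay fibre with the depth. -/
theorem dim_le_add [Module.Flat A B] (I : Ideal B) (hI : I ≠ ⊤)
    (hCM : LocCoh.IsCohenMacaulayLocalRing (B ⧸ (maximalIdeal A).map (algebraMap A B))) :
    ringKrullDim (B ⧸ (maximalIdeal A).map (algebraMap A B)) ≤
      ringKrullDim (B ⧸ ((maximalIdeal A).map (algebraMap A B) ⊔ I)) +
        ((LocCoh.idealDepth I B : ℕ∞) : WithBot ℕ∞) := by
  set J := (maximalIdeal A).map (algebraMap A B)
  set F := B ⧸ J
  set I' := I.map (algebraMap B F)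
  have hIm : I' ≤ maximalIdeal F := by
    rw [← IsLocalRing.map_maximalIdeal_of_surjective (algebraMap B F) Ideal.Quotient.mk_surjective]
    exact Ideal.map_mono (le_maximalIdeal hI)
  have hne : I' • (⊤ : Submodule F F) ≠ ⊤ := by
    rw [smul_eq_mul, Ideal.mul_top]
    exact fun h => (maximalIdeal.isMaximal F).ne_top (top_le_iff.1 (h ▸ hIm))
  obtain ⟨q, hIq, hq⟩ := Depth.Local.exists_depth_localization_eq hne
  obtain ⟨d, hd⟩ := Depth.CM.supportDim_eq_nat (R := F) F
  rw [Module.supportDim_self_eq_ringKrullDim] at hd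
  obtain ⟨a, b, ha, hb, hab⟩ := LCFin.CMDim.exists_dims q.asIdeal hd
  have := Depth.CM.isCohenMacaulayLocalRing_localization q.asIdeal
  have ha' : LocCoh.depth (Localization.AtPrime q.asIdeal) (Localization.AtPrime q.asIdeal) = (a : ℕ∞) :=
    WithBot.coe_injective (Depth.CM.ringKrullDim_eq_depth.symm.trans ha)
  have hg : (a : ℕ∞) ≤ LocCoh.idealDepth I B := by
    refine le_trans (le_of_eq ?_) (le_idealDepth_of_fibre (A := A) I hI)
    rw [Depth.Basic.idealDepth_eq_map_of_surjective (R := B) (S := F) (M := F) Ideal.Quotient.mk_surjective I]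
    exact ha'.symm.trans hq.symm
  have hb' : (b : WithBot ℕ∞) ≤ ringKrullDim (B ⧸ (J ⊔ I)) := by
    rw [← hb, ← ringKrullDim_eq_of_ringEquiv (DoubleQuot.quotQuotEquivQuotSup J I)]
    exact ringKrullDim_le_of_surjective (Ideal.Quotient.factor hIq) (Ideal.Quotient.factor_surjective _)
  rw [hd, ← hab]
  calc ((a + b : ℕ) : WithBot ℕ∞) = (b : WithBot ℕ∞) + ((a : ℕ∞) : WithBot ℕ∞) := by
        rw [add_comm a b, Nat.cast_add]; rfl
    _ ≤ _ := add_le_add hb' (WithBot.coe_le_coe.2 hg)

end Groth.Agent.Lib.LCFin.FibreDepth
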