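import Groth.Agent.Lib.LCFin.Faltings
import Groth.Agent.Lib.LCFin.Duality
import Groth.Agent.Lib.LCFin.Cd
import Mathlib.RingTheory.Ideal.AssociatedPrime.Basic

/-!
Finiteness of the first local cohomology, prime by prime.
-/

universe u

open CategoryTheory
open Groth.Agent.Lib.LocalCoh Groth.Agent.Lib.LCFin.Seq

namespace Groth.Agent.Lib.LCFin.FiniteH1

variable {A : Type u} [CommRing A] [IsNoetherianRing A] (I : Ideal A)
  {M N P : Type u} [AddCommGroup M] [Module A M] [AddCommGroup N] [Module A N]
  [AddCommGroup P] [Module A P]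

theorem finite_mid {f : M →ₗ[A] N} {g : N →ₗ[A] P} (hf : Function.Injective f)
    (hg : Function.Surjective g) (h : Function.Exact f g) (i : ℕ)
    (hM : Module.Finite A (LocCoh.H I i M)) (hP : Module.Finite A (LocCoh.H I i P)) :
    Module.Finite A (LocCoh.H I i N) := by
  have hex := exact_map_map I hf hg h i
  have h1 : (LinearMap.range (Hmap I i f)).FG := by
    rw [LinearMap.range_eq_map]; exact hM.fg_top.map _
  have h2 : ((⊤ : Submodule A (LocCoh.H I i N)).map (Hmap I i g)).FG := IsNoetherian.noetherian _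
  refine ⟨Submodule.fg_of_fg_map_of_fg_inf_ker (Hmap I i g) h2 ?_⟩
  rw [top_inf_eq, LinearMap.exact_iff.1 hex]
  exact h1

/-- An injection induces a map with finite kernel in degree one. -/
theorem finite_left {f : M →ₗ[A] N} {g : N →ₗ[A] P} (hf : Function.Injective f)
    (hg : Function.Surjective g) (h : Function.Exact f g) [Module.Finite A P]
    (hN : Module.Finite A (LocCoh.H I 1 N)) : Module.Finite A (LocCoh.H I 1 M) := by
  have := Faltings.finite_H_zero I P
  have h1 : ((⊤ : Submodule A (LocCoh.H I 1 M)).map (Hmap I 1 f)).FG := IsNoetherian.noetherian _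
  refine ⟨Submodule.fg_of_fg_map_of_fg_inf_ker (Hmap I 1 f) h1 ?_⟩
  rw [top_inf_eq, LinearMap.exact_iff.1 (exact_δ_map I hf hg h 0), LinearMap.range_eq_map]
  exact Module.Finite.fg_top.map _

theorem finite_pi (i : ℕ) (s : ℕ) (hM : Module.Finite A (LocCoh.H I i M)) :
    Module.Finite A (LocCoh.H I i (Fin s → M)) := by
  classical
  let T : LocCoh.H I i (Fin s → M) →ₗ[A] (Fin s → LocCoh.H I i M) :=
    LinearMap.pi fun j => Hmap I i (LinearMap.proj j)
  refine Module.Finite.of_injective T fun a b hab => ?_
  have key : ∀ z, z = ∑ j, Hmap I i (LinearMap.single A (fun _ => M) j) (T z j) := fun z => by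
    have hid : (LinearMap.id : (Fin s → M) →ₗ[A] (Fin s → M)) =
        ∑ j, (LinearMap.single A (fun _ => M) j) ∘ₗ LinearMap.proj j :=
      LinearMap.ext fun v => funext fun k => by simp [Pi.single_apply]
    conv_lhs => rw [← LinearMap.id_apply (R := A) z, ← Hmap_id I i, hid, Duality.Hmap_sum]
    refine Finset.sum_congr rfl fun j _ => ?_
    rw [Hmap_comp]
    rfl
  rw [key a, key b, hab]

/-- A torsion free module over `A ⧸ p` embeds into a free one. -/
theorem exists_embedding {W : Type u} [AddCommGroup W] [Module A W] [Module.Finite A W] (p : Ideal A)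
    [p.IsPrime] (hp : ∀ r ∈ p, ∀ w : W, r • w = 0) (htf : ∀ (c : A) (w : W), c • w = 0 → c ∈ p ∨ w = 0) :
    ∃ (r : ℕ) (g : W →ₗ[A] (Fin r → A ⧸ p)), Function.Injective g := by
  classical
  obtain ⟨U, ⟨r, f, hf, rfl⟩, hmax⟩ := exists_maximal_of_wellFoundedGT
    (· ∈ {U : Submodule A W | ∃ (r : ℕ) (f : (Fin r → A ⧸ p) →ₗ[A] W),
      Function.Injective f ∧ LinearMap.range f = U})
    ⟨_, 0, 0, fun a b _ => Subsingleton.elim a b, rfl⟩
  have hsat : ∀ w : W, ∃ c : A, c ∉ p ∧ c • w ∈ LinearMap.range f := by
    intro w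
    by_contra hc
    push Not at hc
    let e₀ : (A ⧸ p) →ₗ[A] W := Submodule.liftQ p (LinearMap.toSpanSingleton A W w)
      (fun a ha => by simpa using hp a ha w)
    let f' : (Fin (r + 1) → A ⧸ p) →ₗ[A] W :=
      e₀ ∘ₗ LinearMap.proj 0 + f ∘ₗ LinearMap.pi (fun j : Fin r => LinearMap.proj j.succ)
    have hf' : Function.Injective f' := by
      rw [← LinearMap.ker_eq_bot, Submodule.eq_bot_iff]
      intro v hv
      obtain ⟨a, ha⟩ := Ideal.Quotient.mk_surjective (v 0)
      have h1 : a • w + f (fun j => v j.succ) = 0 := by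
        have : e₀ (v 0) + f (fun j => v j.succ) = 0 := hv
        rwa [← ha] at this
      have hap : a ∈ p := by
        by_contra hap
        exact hc a hap ⟨-(fun j => v j.succ), by rw [map_neg, eq_neg_of_add_eq_zero_left h1]⟩
      rw [hp a hap, zero_add] at h1
      have h2 := (map_eq_zero_iff f hf).1 h1
      refine funext fun j => Fin.cases ?_ (fun j => congrFun h2 j) j
      rw [← ha]
      exact Ideal.Quotient.eq_zero_iff_mem.2 hap
    have hle : LinearMap.range f ≤ LinearMap.range f' := by
      rintro _ ⟨v, rfl⟩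
      refine ⟨Fin.cons 0 v, ?_⟩
      simp only [f', LinearMap.add_apply, LinearMap.comp_apply, LinearMap.proj_apply, Fin.cons_zero, map_zero, zero_add]
      exact congrArg f (funext fun j => by simp)
    have hw : w ∈ LinearMap.range f := hmax ⟨r + 1, f', hf', rfl⟩ hle
      ⟨Fin.cons (Ideal.Quotient.mk p 1) 0, by
        simp only [f', LinearMap.add_apply, LinearMap.comp_apply, LinearMap.proj_apply, Fin.cons_zero]
        rw [show (LinearMap.pi fun j : Fin r => LinearMap.proj j.succ)
          (Fin.cons (Ideal.Quotient.mk p 1) 0 : Fin (r + 1) → A ⧸ p) = 0 from funext fun j => by simp,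
          map_zero, add_zero]
        exact one_smul A w⟩
    exact hc 1 (fun h => ‹p.IsPrime›.ne_top ((Ideal.eq_top_iff_one _).2 h)) (by rwa [one_smul])
  choose c hcp hc using hsat
  obtain ⟨s, hs⟩ := (Module.Finite.fg_top (R := A) (M := W))
  set C := ∏ w ∈ s, c w
  have hC : C ∉ p := fun h => by
    obtain ⟨w, -, hw⟩ := (Ideal.IsPrime.prod_mem_iff (p := p)).1 h
    exact hcp w hw
  have hmem : ∀ w : W, C • w ∈ LinearMap.range f := fun w => by
    have hw : w ∈ Submodule.span A (s : Set W) := hs ▸ Submodule.mem_top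
    induction hw using Submodule.span_induction with
    | mem x hx =>
      rw [show C = (∏ w ∈ s.erase x, c w) * c x from (Finset.prod_erase_mul _ _ hx).symm, mul_smul]
      exact Submodule.smul_mem _ _ (hc x)
    | zero => rw [smul_zero]; exact zero_mem _
    | add a b _ _ ha hb => rw [smul_add]; exact add_mem ha hb
    | smul t a _ ha => rw [smul_comm]; exact Submodule.smul_mem _ t ha
  refine ⟨r, (LinearEquiv.ofInjective f hf).symm.toLinearMap ∘ₗ
    (LinearMap.lsmul A W C).codRestrict _ hmem, fun a b hab => ?_⟩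
  have h1 : C • a = C • b := congrArg Subtype.val ((LinearEquiv.ofInjective f hf).symm.injective hab)
  rw [← sub_eq_zero, ← smul_sub] at h1
  exact sub_eq_zero.1 ((htf _ _ h1).resolve_left hC)

/-- Finiteness of `H^1` follows from the associated primes. -/
theorem finite_H_one [Module.Finite A M]
    (h : ∀ p ∈ associatedPrimes A M, Module.Finite A (LocCoh.H I 1 (A ⧸ p))) :
    Module.Finite A (LocCoh.H I 1 M) := by
  suffices key : ∀ U : Submodule A M, (∀ p ∈ associatedPrimes A (M ⧸ U),
      Module.Finite A (LocCoh.H I 1 (A ⧸ p))) → Module.Finite A (LocCoh.H I 1 (M ⧸ U)) by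
    let e : (M ⧸ (⊥ : Submodule A M)) ≃ₗ[A] M := Submodule.quotEquivOfEqBot ⊥ rfl
    have := key ⊥ (fun p hp => h p (hp.map_of_injective e.toLinearMap e.injective))
    exact Module.Finite.equiv (lcLinearEquiv I 1 e)
  intro U
  induction U using WellFoundedGT.induction with
  | _ U ih =>
    intro hU
    rcases subsingleton_or_nontrivial (M ⧸ U) with hs | hs
    · have : Subsingleton (LocCoh.H I 1 (M ⧸ U)) := ModuleCat.subsingleton_of_isZero
        ((localCohomology I 1).map_isZero (ModuleCat.isZero_of_subsingleton (ModuleCat.of A (M ⧸ U))))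
      infer_instance
    set Q := M ⧸ U
    obtain ⟨p, hp, hpmax⟩ := exists_maximal_of_wellFoundedGT (· ∈ associatedPrimes A Q)
      (associatedPrimes.nonempty A Q)
    have := hp.isPrime
    set W : Submodule A Q := Submodule.torsionBySet A Q (p : Set A)
    have hW : ∀ r ∈ p, ∀ w : W, r • w = 0 := fun r hr w =>
      Subtype.ext ((Submodule.mem_torsionBySet_iff _ _).1 w.2 ⟨r, hr⟩)
    have hassW : ∀ q ∈ associatedPrimes A W, q = p := by
      intro q hq
      obtain ⟨hprime, x, hx⟩ := (isAssociatedPrime_iff (I := q)).1 hq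
      have hle : p ≤ q := fun r hr => by
        rw [hx, Submodule.mem_colon_singleton, hW r hr x]; exact zero_mem _
      exact le_antisymm (hpmax (hq.map_of_injective W.subtype W.injective_subtype) hle) hle
    have htf : ∀ (c : A) (w : W), c • w = 0 → c ∈ p ∨ w = 0 := fun c w hcw => by
      refine or_iff_not_imp_right.2 fun hw => ?_
      have : c ∈ ⋃ q ∈ associatedPrimes A W, (q : Set A) := by
        rw [biUnion_associatedPrimes_eq_compl_regular]
        exact fun hreg => hw (hreg (show c • w = c • 0 by rw [hcw, smul_zero]))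
      obtain ⟨q, hq, hcq⟩ := Set.mem_iUnion₂.1 this
      exact hassW q hq ▸ hcq
    obtain ⟨r, g, hg⟩ := exists_embedding (W := W) p hW htf
    have hWfin : Module.Finite A (LocCoh.H I 1 W) :=
      finite_left I hg (Submodule.mkQ_surjective _) g.exact_map_mkQ_range (finite_pi I 1 r (hU p hp))
    obtain ⟨k, s, hs⟩ := Submodule.fg_iff_exists_fin_generating_family.1 (IsNoetherian.noetherian p)
    let D : Q →ₗ[A] (Fin k → Q) := LinearMap.pi fun j => LinearMap.lsmul A Q (s j)
    have hker : LinearMap.ker D = W := by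
      ext z
      rw [LinearMap.mem_ker, Submodule.mem_torsionBySet_iff]
      refine ⟨fun hz => fun ⟨a, ha⟩ => ?_, fun hz => funext fun j =>
        hz ⟨s j, hs ▸ Submodule.subset_span ⟨j, rfl⟩⟩⟩
      show a • z = 0
      rw [SetLike.mem_coe, ← hs] at ha
      induction ha using Submodule.span_induction with
      | mem x hx => obtain ⟨j, rfl⟩ := hx; exact congrFun hz j
      | zero => exact zero_smul A z
      | add a b _ _ ha hb => rw [add_smul, ha, hb, add_zero]
      | smul t a _ ha => rw [smul_eq_mul, mul_smul, ha, smul_zero]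
    let U' := W.comap U.mkQ
    let e : (M ⧸ U') ≃ₗ[A] Q ⧸ W := (Submodule.quotEquivOfEq _ _ (by
        rw [LinearMap.ker_comp, Submodule.ker_mkQ])).trans
      ((W.mkQ ∘ₗ U.mkQ).quotKerEquivOfSurjective (W.mkQ_surjective.comp U.mkQ_surjective))
    have hlt : U < U' := by
      refine lt_of_le_of_ne (fun x hx => ?_) fun he => ?_
      · show U.mkQ x ∈ W
        rw [show U.mkQ x = 0 from (Submodule.Quotient.mk_eq_zero U).2 hx]
        exact zero_mem _
      · obtain ⟨hprime, x, hx⟩ := (isAssociatedPrime_iff (I := p)).1 hp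
        obtain ⟨m, rfl⟩ := Submodule.Quotient.mk_surjective U x
        refine hprime.ne_top ((Ideal.eq_top_iff_one _).2 ?_)
        have hm : m ∈ U := he.ge ((Submodule.mem_torsionBySet_iff _ _).2 fun ⟨a, ha⟩ => by
          rw [SetLike.mem_coe, hx, Submodule.mem_colon_singleton, Submodule.mem_bot] at ha
          exact ha)
        rw [hx, Submodule.mem_colon_singleton, (Submodule.Quotient.mk_eq_zero U).2 hm, smul_zero]
        exact zero_mem _
    have hQW := ih U' hlt fun q hq => by
      have h1 : q ∈ associatedPrimes A (Q ⧸ W) := hq.map_of_injective e.toLinearMap e.injective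
      let D' : (Q ⧸ W) →ₗ[A] (Fin k → Q) := W.liftQ D hker.ge
      have h2 : q ∈ associatedPrimes A (Fin k → Q) := h1.map_of_injective D' (by
        rw [← LinearMap.ker_eq_bot]
        exact Submodule.ker_liftQ_eq_bot _ _ _ hker.le)
      obtain ⟨hprime, v, hv⟩ := (isAssociatedPrime_iff (I := q)).1 h2
      obtain ⟨j, hj⟩ : ∃ j, ((⊥ : Submodule A Q).colon {v j}) ≤ q := by
        by_contra hc
        push Not at hc
        choose a ha hna using fun j => SetLike.not_le_iff_exists.1 (hc j)
        have : (∏ j, a j) ∈ q := by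
          rw [hv, Submodule.mem_colon_singleton, Submodule.mem_bot]
          funext j
          rw [Pi.smul_apply, ← Finset.prod_erase_mul _ _ (Finset.mem_univ j), mul_smul,
            (Submodule.mem_bot A).1 (Submodule.mem_colon_singleton.1 (ha j)), smul_zero, Pi.zero_apply]
        obtain ⟨j, -, hj⟩ := (Ideal.IsPrime.prod_mem_iff (p := q)).1 this
        exact hna j hj
      refine hU q ((isAssociatedPrime_iff (I := q)).2 ⟨hprime, v j, le_antisymm (fun a ha => ?_) hj⟩)
      rw [hv, Submodule.mem_colon_singleton, Submodule.mem_bot] at ha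
      rw [Submodule.mem_colon_singleton, Submodule.mem_bot]
      exact congrFun ha j
    have := Module.Finite.equiv (lcLinearEquiv I 1 e)
    exact finite_mid I W.injective_subtype W.mkQ_surjective (LinearMap.exact_subtype_mkQ W) 1 hWfin this

end Groth.Agent.Lib.LCFin.FiniteH1
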