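import Groth.Agent.Lib.RGamma.AnnihilatorModule
import Groth.Agent.Lib.RGamma.HTPowers
import Groth.Agent.Lib.LocalCoh.Compare
import Groth.Agent.Lib.LCFin.Bootstrap
import Groth.Agent.S1727

/-!
Stabilization of local cohomology for ideals with the same trace on `V(I)`.
-/

universe u

open CategoryTheory

attribute [local instance] HasDerivedCategory.standard

namespace Groth.Agent.Lib.LCFin.Algebraize

open Groth.Agent.Lib.DMod Groth.Agent.Lib.RGamma

variable {A : Type u} [CommRing A] [IsNoetherianRing A]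

theorem stable_zeroLocus (K : Ideal A) :
    StableUnderSpecialization (PrimeSpectrum.zeroLocus (K : Set A)) :=
  fun r r' hrr' hr v hv => ((PrimeSpectrum.le_iff_specializes r r').2 hrr') (hr hv)

theorem exists_pow_le_of_zeroLocus {K L : Ideal A}
    (h : PrimeSpectrum.zeroLocus (K : Set A) ⊆ PrimeSpectrum.zeroLocus (L : Set A)) :
    ∃ n : ℕ, L ^ n ≤ K :=
  Ideal.exists_pow_le_of_le_radical_of_fg_radical
    ((PrimeSpectrum.zeroLocus_subset_zeroLocus_iff _ _).1 h) (IsNoetherian.noetherian _)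

variable (M : Type u) [AddCommGroup M] [Module A M] [Module.Finite A M] (s : ℕ)

/-- The depth condition at a pair of primes. -/
abbrev Cond (p q : PrimeSpectrum A) : Prop :=
  (s : WithBot ℕ∞) < ((LocCoh.depth (Localization.AtPrime p.asIdeal)
    (LocalizedModule p.asIdeal.primeCompl M) : ℕ∞) : WithBot ℕ∞) + Order.krullDim (Set.Icc p q)

/-- The annihilator theorem for `H_K`. -/
theorem exists_pow_kill (hdc : ∃ ω : Dual.D A, Dual.IsDualizing A ω) (K L : Ideal A)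
    (h : ∀ p q : PrimeSpectrum A, ¬ L ≤ p.asIdeal → K ≤ q.asIdeal → p ≤ q → Cond M s p q) :
    ∃ n : ℕ, ∀ a ∈ L ^ n, ∀ i : ℕ, i ≤ s → ∀ x : LocCoh.H K i M, a • x = 0 := by
  obtain ⟨J, hJ, hann⟩ := (AnnihilatorModule.HT_iff (T := PrimeSpectrum.zeroLocus (K : Set A)) s M).2
    ((AnnihilatorModule.annihilated_iff hdc (stable_zeroLocus K) (stable_zeroLocus L) s M).2 h)
  obtain ⟨n, hn⟩ := exists_pow_le_of_zeroLocus hJ
  refine ⟨n, fun a ha i hi x => ?_⟩
  obtain ⟨e⟩ := HTPowers.nonempty_equiv K i M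
  apply e.symm.injective
  rw [map_smul, map_zero]
  exact hann i hi a (hn ha) _

/-- Torsion from annihilation. -/
theorem isPowerTorsion_of_kill {K L W : Ideal A} (i : ℕ) (n : ℕ)
    (hn : ∀ a ∈ L ^ n, ∀ x : LocCoh.H K i M, a • x = 0)
    (h : ∀ r : PrimeSpectrum A, K ≤ r.asIdeal → L ≤ r.asIdeal → W ≤ r.asIdeal) :
    LocCoh.IsPowerTorsion W (LocCoh.H K i M) := fun x => by
  obtain ⟨m, hm⟩ := LocalCoh.isPowerTorsion_lc K i (ModuleCat.of A M) x
  obtain ⟨k, hk⟩ := exists_pow_le_of_zeroLocus (K := K ^ m ⊔ L ^ n) (L := W) fun r hr => by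
    rw [PrimeSpectrum.mem_zeroLocus, SetLike.coe_subset_coe] at hr ⊢
    rcases Nat.eq_zero_or_pos m with hm0 | hm0
    · rw [hm0, pow_zero, Ideal.one_eq_top, top_sup_eq, top_le_iff] at hr
      exact absurd hr r.isPrime.ne_top
    rcases Nat.eq_zero_or_pos n with hn0 | hn0
    · rw [hn0, pow_zero, Ideal.one_eq_top, sup_top_eq, top_le_iff] at hr
      exact absurd hr r.isPrime.ne_top
    exact h r ((r.isPrime.pow_le_iff hm0.ne').1 (le_sup_left.trans hr))
      ((r.isPrime.pow_le_iff hn0.ne').1 (le_sup_right.trans hr))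
  refine ⟨k, fun a ha => ?_⟩
  obtain ⟨b, hb, c, hc, rfl⟩ := Submodule.mem_sup.1 (hk ha)
  rw [add_smul, hm b hb, zero_add]
  exact hn c hc x

variable {ω : Dual.D A} (hω : Dual.IsDualizing A ω)
include hω

theorem cond_iff (p q : PrimeSpectrum A) (hpq : p ≤ q) : Cond M s p q ↔
    ((s : ℕ∞) : WithBot ℕ∞) < ((LocCoh.depth (Localization.AtPrime p.asIdeal)
      (LocalizedModule p.asIdeal.primeCompl M) : ℕ∞) : WithBot ℕ∞) +
        Formal2.dimBetween A p.asIdeal q.asIdeal := by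
  rw [Cond, AnnihilatorThm.krullDim_Icc hω hpq, Bootstrap.dimBetween_eq hω p q hpq]
  rfl

theorem cond_of_lt (p q : PrimeSpectrum A) (hpq : p ≤ q)
    (h : (s : ℕ∞) < LocCoh.depth (Localization.AtPrime p.asIdeal)
      (LocalizedModule p.asIdeal.primeCompl M)) : Cond M s p q := by
  rw [Cond, AnnihilatorThm.krullDim_Icc hω hpq]
  exact lt_of_lt_of_le (by exact_mod_cast h) (le_add_of_nonneg_right (by exact_mod_cast Nat.zero_le _))

theorem cond_of_h4 (d : ℕ) (p q q' : PrimeSpectrum A) (hpq : p < q) (hqq' : q ≤ q')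
    (hd : Formal2.dimBetween A q.asIdeal q'.asIdeal ≤ ((d : ℕ∞) : WithBot ℕ∞))
    (h : (s : ℕ∞) ≤ LocCoh.depth (Localization.AtPrime p.asIdeal)
        (LocalizedModule p.asIdeal.primeCompl M) ∨
      (((d + s : ℕ) : ℕ∞) : WithBot ℕ∞) < ((LocCoh.depth (Localization.AtPrime p.asIdeal)
        (LocalizedModule p.asIdeal.primeCompl M) : ℕ∞) : WithBot ℕ∞) +
          Formal2.dimBetween A p.asIdeal q'.asIdeal) : Cond M s p q := by
  rw [Bootstrap.dimBetween_eq hω q q' hqq'] at hd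
  rw [Bootstrap.dimBetween_eq hω p q' (hpq.le.trans hqq')] at h
  rw [Cond, AnnihilatorThm.krullDim_Icc hω hpq.le]
  have h1 := Degree.deg_lt hω hpq
  have h2 := Degree.deg_le hω hqq'
  generalize LocCoh.depth (Localization.AtPrime p.asIdeal)
    (LocalizedModule p.asIdeal.primeCompl M) = D at h ⊢
  induction D with
  | top => exact WithBot.coe_lt_coe.2 (ENat.natCast_lt_top s)
  | coe n =>
    have hd' : (Degree.deg hω q' - Degree.deg hω q).toNat ≤ d := by exact_mod_cast hd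
    rcases h with h | h
    · have h' : s ≤ n := by exact_mod_cast h
      exact_mod_cast (show s < n + (Degree.deg hω q - Degree.deg hω p).toNat by omega)
    · have h' : d + s < n + (Degree.deg hω q' - Degree.deg hω p).toNat := by exact_mod_cast h
      exact_mod_cast (show s < n + (Degree.deg hω q - Degree.deg hω p).toNat by omega)

variable (I J : Ideal A) (d : ℕ) (T : Set (PrimeSpectrum A))
  (hT : ∀ p : PrimeSpectrum A, p ∈ T ↔ ∀ q : PrimeSpectrum A, p ≤ q → I ≤ q.asIdeal → J ≤ q.asIdeal)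
  (h3 : ∀ p : PrimeSpectrum A, ¬ I ≤ p.asIdeal → p ∈ T → ∃ q : PrimeSpectrum A, p ≤ q ∧
    J ≤ q.asIdeal ∧ I ≤ q.asIdeal ∧
      Formal2.dimBetween A p.asIdeal q.asIdeal ≤ ((d : ℕ∞) : WithBot ℕ∞))
  (h4 : ∀ p : PrimeSpectrum A, ¬ I ≤ p.asIdeal → p ∉ T → ∀ q : PrimeSpectrum A, p ≤ q →
    J ≤ q.asIdeal → I ≤ q.asIdeal →
      (s : ℕ∞) ≤ LocCoh.depth (Localization.AtPrime p.asIdeal)
          (LocalizedModule p.asIdeal.primeCompl M) ∨
        (((d + s : ℕ) : ℕ∞) : WithBot ℕ∞) < ((LocCoh.depth (Localization.AtPrime p.asIdeal)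
          (LocalizedModule p.asIdeal.primeCompl M) : ℕ∞) : WithBot ℕ∞) +
            Formal2.dimBetween A p.asIdeal q.asIdeal)

include hT in
omit hω [IsNoetherianRing A] in
theorem stable_T : StableUnderSpecialization T := fun r r' hrr' hr => (hT r').2 fun q hq hI =>
  (hT r).1 hr q (((PrimeSpectrum.le_iff_specializes r r').2 hrr').trans hq) hI

include hT h3 h4 in
theorem cond_outside (p q : PrimeSpectrum A) (hpT : p ∉ T) (hpI : ¬ I ≤ p.asIdeal) (hq : q ∈ T)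
    (hpq : p ≤ q) : Cond M s p q := by
  have hlt : p < q := lt_of_le_of_ne hpq fun h => hpT (h ▸ hq)
  by_cases hIq : I ≤ q.asIdeal
  · refine cond_of_h4 M s hω d p q q hlt le_rfl ?_
      (h4 p hpI hpT q hpq ((hT q).1 hq q le_rfl hIq) hIq)
    rw [Bootstrap.dimBetween_eq hω q q le_rfl, sub_self]
    exact_mod_cast Nat.zero_le d
  · obtain ⟨q', hqq', hJ', hI', hd⟩ := h3 q hIq hq
    exact cond_of_h4 M s hω d p q q' hlt hqq' hd (h4 p hpI hpT q' (hpq.trans hqq') hJ' hI')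

include hT h3 h4 in
/-- The ideal `J₀`. -/
theorem exists_ideal :
    ∃ J₀ : Ideal A, J₀ ≤ J ∧
      PrimeSpectrum.zeroLocus ((J₀ : Ideal A) : Set A) ∩ PrimeSpectrum.zeroLocus (I : Set A) =
        PrimeSpectrum.zeroLocus (J : Set A) ∩ PrimeSpectrum.zeroLocus (I : Set A) ∧
      ∀ J' : Ideal A, J' ≤ J₀ →
        PrimeSpectrum.zeroLocus ((J' : Ideal A) : Set A) ∩ PrimeSpectrum.zeroLocus (I : Set A) =
          PrimeSpectrum.zeroLocus (J : Set A) ∩ PrimeSpectrum.zeroLocus (I : Set A) →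
        ∀ p q : PrimeSpectrum A, ¬ J₀ ≤ p.asIdeal → ¬ I ≤ p.asIdeal → J' ≤ q.asIdeal → p ≤ q →
          Cond M s p q := by
  classical
  have hTs := stable_T I J T hT
  have hTI : StableUnderSpecialization (T ∪ PrimeSpectrum.zeroLocus (I : Set A)) :=
    fun r r' hrr' hr => hr.imp (fun h => hTs hrr' h) fun h => stable_zeroLocus I hrr' h
  obtain ⟨J₁, hJ₁, hann⟩ := (AnnihilatorModule.annihilated_iff ⟨ω, hω⟩ hTs hTI s M).2
    fun p q hp hq hpq => cond_outside M s hω I J d T hT h3 h4 p q (fun h => hp (Or.inl h))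
      (fun h => hp (Or.inr h)) hq hpq
  have hgood := (AnnihilatorModule.annihilated_iff ⟨ω, hω⟩ hTs (stable_zeroLocus J₁) s M).1
    ⟨J₁, subset_rfl, hann⟩
  let S := (Ideal.finite_minimalPrimes_of_isNoetherianRing A J₁).toFinset.filter
    fun P => ∃ h : P.IsPrime, (⟨P, h⟩ : PrimeSpectrum A) ∈ T
  refine ⟨J * ∏ P ∈ S, P, Ideal.mul_le_left, ?_, fun J' hJ' hJ'I p q hpJ₀ hpI hq hpq => ?_⟩
  · refine Set.Subset.antisymm (fun r hr => ⟨?_, hr.2⟩) fun r hr =>
      ⟨fun v hv => hr.1 (Ideal.mul_le_left hv), hr.2⟩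
    rcases r.isPrime.mul_le.1 (show J * ∏ P ∈ S, P ≤ r.asIdeal from hr.1) with h | h
    · exact h
    · obtain ⟨P, hP, hPr⟩ := (Ideal.IsPrime.prod_le r.isPrime).1 h
      obtain ⟨-, hPp, hPT⟩ := Finset.mem_filter.1 hP
      exact (hT ⟨P, hPp⟩).1 hPT r hPr hr.2
  · have hqT : q ∈ T := (hT q).2 fun v hv hIv =>
      (hJ'I.subset ⟨fun w hw => hv (hq hw), hIv⟩).1
    by_cases hpT : p ∈ T
    · refine hgood p q (fun h => ?_) hqT hpq
      obtain ⟨P, hP, hPp⟩ := Ideal.exists_minimalPrimes_le (show J₁ ≤ p.asIdeal from h)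
      rcases hJ₁ (show (⟨P, hP.1.1⟩ : PrimeSpectrum A) ∈ PrimeSpectrum.zeroLocus (J₁ : Set A) from
        hP.1.2) with h' | h'
      · exact hpJ₀ (Ideal.mul_le_right.trans ((Ideal.prod_le_inf.trans (Finset.inf_le (f := fun P => P)
          (Finset.mem_filter.2 ⟨(Set.Finite.mem_toFinset _).2 hP, hP.1.1, h'⟩))).trans hPp))
      · exact hpI (le_trans (show I ≤ P from h') hPp)
    · exact cond_outside M s hω I J d T hT h3 h4 p q hpT hpI hqT hpq

omit hω in
/-- The common conclusion. -/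
theorem main (hdc : ∃ ω : Dual.D A, Dual.IsDualizing A ω) (J₀ : Ideal A)
    (hJ₀ : PrimeSpectrum.zeroLocus ((J₀ : Ideal A) : Set A) ∩ PrimeSpectrum.zeroLocus (I : Set A) =
        PrimeSpectrum.zeroLocus (J : Set A) ∩ PrimeSpectrum.zeroLocus (I : Set A))
    (hJ₀c : ∀ J' : Ideal A, J' ≤ J₀ →
        PrimeSpectrum.zeroLocus ((J' : Ideal A) : Set A) ∩ PrimeSpectrum.zeroLocus (I : Set A) =
          PrimeSpectrum.zeroLocus (J : Set A) ∩ PrimeSpectrum.zeroLocus (I : Set A) →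
        ∀ p q : PrimeSpectrum A, ¬ J₀ ≤ p.asIdeal → ¬ I ≤ p.asIdeal → J' ≤ q.asIdeal → p ≤ q →
          Cond M s p q) :
    (∀ (J' : Ideal A) (hJ' : J' ≤ J₀),
        PrimeSpectrum.zeroLocus ((J' : Ideal A) : Set A) ∩ PrimeSpectrum.zeroLocus (I : Set A) =
          PrimeSpectrum.zeroLocus (J : Set A) ∩ PrimeSpectrum.zeroLocus (I : Set A) →
        ∀ i : ℕ, i ≤ s → Function.Bijective ((Dual2.HmapOfLE hJ' i).app (ModuleCat.of A M)).hom) ∧
      ∃ n : ℕ, ∀ a ∈ (J₀ * I) ^ n, ∀ i : ℕ, i ≤ s → ∀ x : LocCoh.H J₀ i M, a • x = 0 := by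
  have hkill : ∀ J' : Ideal A, J' ≤ J₀ →
      PrimeSpectrum.zeroLocus ((J' : Ideal A) : Set A) ∩ PrimeSpectrum.zeroLocus (I : Set A) =
        PrimeSpectrum.zeroLocus (J : Set A) ∩ PrimeSpectrum.zeroLocus (I : Set A) →
      ∃ n : ℕ, ∀ a ∈ (J₀ * I) ^ n, ∀ i : ℕ, i ≤ s → ∀ x : LocCoh.H J' i M, a • x = 0 :=
    fun J' hJ' hJ'I => exists_pow_kill M s hdc J' (J₀ * I) fun p q hp hq hpq =>
      hJ₀c J' hJ' hJ'I p q (fun h => hp (Ideal.mul_le_left.trans h))
        (fun h => hp (Ideal.mul_le_right.trans h)) hq hpq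
  refine ⟨fun J' hJ' hJ'I i hi => ?_, hkill J₀ le_rfl hJ₀⟩
  obtain ⟨n, hn⟩ := hkill J' hJ' hJ'I
  refine LocalCoh.Compare.bijective_of_isPowerTorsion hJ' i (ModuleCat.of A M) fun j hj => ?_
  refine isPowerTorsion_of_kill M j n (fun a ha => hn a ha j (hj.trans hi)) fun r hr hr' => ?_
  rcases r.isPrime.mul_le.1 hr' with h | h
  · exact h
  · exact (hJ₀.symm.subset (hJ'I.subset ⟨hr, h⟩)).1

end Groth.Agent.Lib.LCFin.Algebraize
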