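import Groth.Agent.Lib.ProZero.Final
import Groth.Agent.Lib.FSAdic.Completion

/-!
# The bootstrap conditions pass to the completion
-/

universe u

open CategoryTheory CategoryTheory.Limits TensorProduct

attribute [local instance] HasDerivedCategory.standard

namespace Groth.Agent.Lib.LCFin.BootstrapCompletion

open Groth.Agent.Lib.DMod

variable {A : Type u} [CommRing A] [IsNoetherianRing A] {I : Ideal A} {M : Type u} [AddCommGroup M]
  [Module A M] [Module.Finite A M] {T : Set (PrimeSpectrum A)} {s d : ℕ}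

local notation "S" => AdicCompletion I A

omit [IsNoetherianRing A] [Module.Finite A M] in
/-- The prime below and the map from it. -/
theorem map_comap_eq [IsNoetherianRing A] (q : PrimeSpectrum S) (hq : I.map (algebraMap A S) ≤ q.asIdeal) :
    (PrimeSpectrum.comap (algebraMap A S) q).asIdeal.map (algebraMap A S) = q.asIdeal := by
  refine le_antisymm Ideal.map_comap_le fun x hx => ?_
  obtain ⟨a, ha⟩ := FSAdic.Completion.exists_sub_mem (Ideal.fg_of_isNoetherianRing I) 1 x
  rw [pow_one] at ha
  have hle : I ≤ q.asIdeal.comap (algebraMap A S) := Ideal.map_le_iff_le_comap.1 hq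
  have hax : algebraMap A S a ∈ q.asIdeal := by
    have h := sub_mem hx (hq ha)
    rwa [sub_sub_cancel] at h
  have h := add_mem (Ideal.map_mono (f := algebraMap A S) hle ha)
    (Ideal.mem_map_of_mem (algebraMap A S) (show a ∈ q.asIdeal.comap (algebraMap A S) from hax))
  rw [sub_add_cancel] at h
  exact h

theorem isNoetherian : IsNoetherianRing S :=
  Excellent.CompletionNoetherian.isNoetherianRing_adicCompletion I

/-- The data comparing `A` and its completion. -/
theorem exists_data {ω : Dual.D A} (hω : Dual.IsDualizing A ω) :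
    ∃ (ω' : Dual.D S) (hω' : Dual.IsDualizing S ω'), ∀ P : PrimeSpectrum S,
      Degree.deg hω (PrimeSpectrum.comap (algebraMap A S) P) ≤ Degree.deg hω' P ∧
      (I.map (algebraMap A S) ≤ P.asIdeal →
        Degree.deg hω' P = Degree.deg hω (PrimeSpectrum.comap (algebraMap A S) P)) ∧
      ((LocCoh.depth (Localization.AtPrime (PrimeSpectrum.comap (algebraMap A S) P).asIdeal)
          (LocalizedModule (PrimeSpectrum.comap (algebraMap A S) P).asIdeal.primeCompl M) = ⊤ ∧
        LocCoh.depth (Localization.AtPrime P.asIdeal)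
          (LocalizedModule P.asIdeal.primeCompl (AdicCompletion I M)) = ⊤) ∨
        ∃ n m : ℕ, LocCoh.depth (Localization.AtPrime (PrimeSpectrum.comap (algebraMap A S) P).asIdeal)
            (LocalizedModule (PrimeSpectrum.comap (algebraMap A S) P).asIdeal.primeCompl M) = n ∧
          LocCoh.depth (Localization.AtPrime P.asIdeal)
            (LocalizedModule P.asIdeal.primeCompl (AdicCompletion I M)) = m ∧
          (m : ℤ) - n = Degree.deg hω' P - Degree.deg hω (PrimeSpectrum.comap (algebraMap A S) P)) := by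
  have := isNoetherian (I := I)
  have := AdicCompletion.flat_of_isNoetherian I
  have : DRing.HasLBaseChange (algebraMap A S) := DR.BaseChangeU.hasLBaseChange _
  have hω' : Dual.IsDualizing S ((FlatHom.L A S).obj ω) :=
    LBC.isDualizing_of_iso ((FlatHom.isoLBaseChange A S).app _) (S1779.result A I ω hω)
  refine ⟨_, hω', fun P => ⟨FlatDegree.deg_comap_le hω hω' P,
    fun hP => FlatDegree.deg_eq_of_map_eq hω hω' P (map_comap_eq P hP), ?_⟩⟩
  let p := PrimeSpectrum.comap (algebraMap A S) P
  let e : (S ⊗[A] M) ≃ₗ[S] AdicCompletion I M :=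
    LinearEquiv.ofBijective (AdicCompletion.ofTensorProduct I M)
      (AdicCompletion.ofTensorProductEquivOfFiniteNoetherian I M).bijective
  have hd : LocCoh.depth (Localization.AtPrime P.asIdeal)
        (LocalizedModule P.asIdeal.primeCompl (AdicCompletion I M)) =
      LocCoh.depth (Localization.AtPrime P.asIdeal)
        (LocalizedModule P.asIdeal.primeCompl (S ⊗[A] M)) :=
    Depth.Basic.depth_congr (IsLocalizedModule.mapEquiv P.asIdeal.primeCompl
      (LocalizedModule.mkLinearMap P.asIdeal.primeCompl (AdicCompletion I M))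
      (LocalizedModule.mkLinearMap P.asIdeal.primeCompl (S ⊗[A] M))
      (Localization.AtPrime P.asIdeal) e.symm)
  rw [hd]
  by_cases hp : p ∈ Module.support A M
  · exact Or.inr (FlatDegree.depth_eq hω hω' P M hp)
  · left
    have h1 : Subsingleton (LocalizedModule p.asIdeal.primeCompl M) :=
      Module.notMem_support_iff.1 hp
    have h2 : Subsingleton (LocalizedModule P.asIdeal.primeCompl (S ⊗[A] M)) := by
      refine Module.notMem_support_iff.1 fun h => hp ?_
      rw [Module.mem_support_iff'] at h ⊢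
      obtain ⟨z, hz⟩ := h
      by_contra hc
      push Not at hc
      suffices h' : ∃ t : A, t ∉ p.asIdeal ∧ t • z = 0 by
        obtain ⟨t, ht, h0⟩ := h'
        exact hz (algebraMap A S t) ht (by rw [algebraMap_smul, h0])
      clear hz
      induction z using TensorProduct.induction_on with
      | zero => exact ⟨1, p.isPrime.one_notMem, smul_zero _⟩
      | tmul b m =>
        obtain ⟨t, ht, ht'⟩ := hc m
        exact ⟨t, ht, by rw [← TensorProduct.tmul_smul, ht', TensorProduct.tmul_zero]⟩
      | add x y hx hy =>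
        obtain ⟨t₁, hs, hsx⟩ := hx
        obtain ⟨t, ht, hty⟩ := hy
        exact ⟨t₁ * t, p.isPrime.mul_notMem hs ht, by
          rw [smul_add, mul_comm, mul_smul, hsx, smul_zero, zero_add, mul_comm, mul_smul, hty,
            smul_zero]⟩
    exact ⟨Bootstrap.depth_eq_top _ _, Bootstrap.depth_eq_top _ _⟩

/-- Condition (4) on the completion. -/
theorem cond4 (D : ProZero.Final.Data I M s d T) (p r q : PrimeSpectrum S) (hpr : p ≤ r) (hrq : r ≤ q)
    (hp : ¬ I.map (algebraMap A S) ≤ p.asIdeal) (hr : I.map (algebraMap A S) ≤ r.asIdeal)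
    (hrT : PrimeSpectrum.comap (algebraMap A S) r ∉ T)
    (hqT : PrimeSpectrum.comap (algebraMap A S) q ∈ T) :
    (s : ℕ∞) ≤ LocCoh.depth (Localization.AtPrime p.asIdeal)
        (LocalizedModule p.asIdeal.primeCompl (AdicCompletion I M)) ∨
      ((d + s : ℕ) : WithBot ℕ∞) < (LocCoh.depth (Localization.AtPrime p.asIdeal)
        (LocalizedModule p.asIdeal.primeCompl (AdicCompletion I M)) : WithBot ℕ∞) +
          Formal2.dimBetween S p.asIdeal q.asIdeal := by
  obtain ⟨ω, hω⟩ := D.hdc
  have := isNoetherian (I := I)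
  obtain ⟨ω', hω', hdata⟩ := exists_data (M := M) (I := I) hω
  let f := PrimeSpectrum.comap (algebraMap A S)
  have h4 := D.h4 (f p) (f r) (f q) (Ideal.comap_mono hpr) (Ideal.comap_mono hrq)
    (fun h => hp (Ideal.map_le_iff_le_comap.2 h)) (Ideal.map_le_iff_le_comap.1 hr) hrT hqT
  obtain ⟨hdp, -, hdep⟩ := hdata p
  have hdq := (hdata q).1
  rcases hdep with ⟨-, hm⟩ | ⟨n, m, hn, hm, hnm⟩
  · left; rw [hm]; exact le_top
  rw [hm]
  rw [hn, Bootstrap.dimBetween_eq hω _ _ (show f p ≤ f q from Ideal.comap_mono (hpr.trans hrq))] at h4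
  rw [Bootstrap.dimBetween_eq hω' p q (hpr.trans hrq)]
  rcases h4 with h | h
  · left
    have h' : s ≤ n := by exact_mod_cast h
    exact_mod_cast (show s ≤ m by omega)
  · right
    have h' : d + s < n + (Degree.deg hω (f q) - Degree.deg hω (f p)).toNat := by exact_mod_cast h
    have := Degree.deg_le hω (show f p ≤ f q from Ideal.comap_mono (hpr.trans hrq))
    dsimp only [f] at h' this hdp hdq hnm
    exact_mod_cast (show d + s < m + (Degree.deg hω' q - Degree.deg hω' p).toNat by omega)

/-- Condition (6) on the completion. -/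
theorem cond6 (D : ProZero.Final.Data I M s d T) (q : PrimeSpectrum S)
    (hqT : PrimeSpectrum.comap (algebraMap A S) q ∈ T)
    (p' : PrimeSpectrum (AdicCompletion ((I.map (algebraMap A S)).map
      (algebraMap S (Localization.AtPrime q.asIdeal))) (Localization.AtPrime q.asIdeal)))
    (hp' : ¬ ((I.map (algebraMap A S)).map (algebraMap S (AdicCompletion ((I.map (algebraMap A S)).map
      (algebraMap S (Localization.AtPrime q.asIdeal))) (Localization.AtPrime q.asIdeal)))) ≤ p'.asIdeal)
    (hmax : ∀ q' : PrimeSpectrum (AdicCompletion ((I.map (algebraMap A S)).map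
      (algebraMap S (Localization.AtPrime q.asIdeal))) (Localization.AtPrime q.asIdeal)), p' ≤ q' →
      ((I.map (algebraMap A S)).map (algebraMap S (AdicCompletion ((I.map (algebraMap A S)).map
      (algebraMap S (Localization.AtPrime q.asIdeal))) (Localization.AtPrime q.asIdeal)))) ≤ q'.asIdeal →
      q'.asIdeal.IsMaximal) :
    (s : ℕ∞) < LocCoh.depth (Localization.AtPrime p'.asIdeal) (LocalizedModule p'.asIdeal.primeCompl
      (AdicCompletion ((I.map (algebraMap A S)).map (algebraMap S (Localization.AtPrime q.asIdeal)))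
        (LocalizedModule q.asIdeal.primeCompl (AdicCompletion I M)))) := by
  obtain ⟨ω, hω⟩ := D.hdc
  have := isNoetherian (I := I)
  have := AdicCompletion.flat_of_isNoetherian I
  let IS := I.map (algebraMap A S)
  let q₀ := PrimeSpectrum.comap (algebraMap A S) q
  have hq₀ : I ≤ q₀.asIdeal := D.hTI hqT
  have hq : IS ≤ q.asIdeal := Ideal.map_le_iff_le_comap.2 hq₀
  obtain ⟨ω', hω', hdata⟩ := exists_data (M := M) (I := I) hω
  have : Module.Finite S (AdicCompletion I M) := Module.Finite.equiv
    (LinearEquiv.ofBijective (AdicCompletion.ofTensorProduct I M)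
      (AdicCompletion.ofTensorProductEquivOfFiniteNoetherian I M).bijective)
  obtain ⟨ω'', hω'', _, hclosed, hdata'⟩ := Bootstrap.exists_deg hω' IS (AdicCompletion I M) q hq
  have := hω''.isNoetherianRing
  let B' := AdicCompletion (IS.map (algebraMap S (Localization.AtPrime q.asIdeal)))
    (Localization.AtPrime q.asIdeal)
  let p₁ := Bootstrap.below IS q p'
  let p₀ := PrimeSpectrum.comap (algebraMap A S) p₁
  have hp₁ : ¬ IS ≤ p₁.asIdeal := by
    rw [Bootstrap.below_asIdeal, ← Ideal.map_le_iff_le_comap]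
    exact hp'
  have hIp₀ : ¬ I ≤ p₀.asIdeal := fun h => hp₁ (Ideal.map_le_iff_le_comap.2 h)
  have hp₀q : p₀ ≤ q₀ := Ideal.comap_mono (Bootstrap.below_le IS q p')
  obtain ⟨hd', -, hdep'⟩ := hdata' p'
  obtain ⟨hd, -, hdep⟩ := hdata p₁
  have hqq := (hdata q).2.1 hq
  rcases hdep' with ⟨-, hm⟩ | ⟨m₁, m, hm₁, hm, hmm⟩
  · rw [hm]; exact ENat.natCast_lt_top s
  rw [hm]
  rcases hdep with ⟨-, hm'⟩ | ⟨n, m₁', hn, hm₁', hnm⟩
  · rw [hm₁] at hm'
    exact absurd hm' (ENat.natCast_ne_top m₁)
  obtain rfl : m₁ = m₁' := by rw [hm₁] at hm₁'; exact_mod_cast hm₁'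
  change Degree.deg hω p₀ ≤ Degree.deg hω' p₁ at hd
  change (m₁ : ℤ) - n = Degree.deg hω' p₁ - Degree.deg hω p₀ at hnm
  change Degree.deg hω' p₁ ≤ Degree.deg hω'' p' at hd'
  change (m : ℤ) - m₁ = Degree.deg hω'' p' - Degree.deg hω' p₁ at hmm
  change Degree.deg hω' q = Degree.deg hω q₀ at hqq
  change LocCoh.depth (Localization.AtPrime p₀.asIdeal) (LocalizedModule p₀.asIdeal.primeCompl M) = n at hn
  suffices s < m by exact_mod_cast this
  by_cases hr : ∀ r : PrimeSpectrum A, p₀ ≤ r → r ≤ q₀ → I ≤ r.asIdeal → r = q₀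
  · have h := Bootstrap.depth_gt_of_minimal hω I M q₀ s hq₀ p₀ hp₀q hIp₀ hr (D.h6 q₀ hqT)
    rw [hn] at h
    have : s < n := by exact_mod_cast h
    omega
  push Not at hr
  obtain ⟨r, hpr, hrq, hIr, hrne⟩ := hr
  let IB := IS.map (algebraMap S B')
  have h0 : ringKrullDim (B' ⧸ p'.asIdeal ⊔ IB) ≤ (0 : ℕ) := by
    have : Ring.KrullDimLE 0 (B' ⧸ p'.asIdeal ⊔ IB) :=
      Ring.krullDimLE_zero_iff.2 fun P hP => by
        have hQ : (P.comap (Ideal.Quotient.mk _)).IsPrime := hP.comap _
        have hle' : p'.asIdeal ⊔ IB ≤ P.comap (Ideal.Quotient.mk _) :=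
          Ideal.mk_ker.ge.trans (Ideal.comap_mono bot_le)
        have := hmax ⟨_, hQ⟩ (le_sup_left.trans hle') (le_sup_right.trans hle')
        rw [← Ideal.map_comap_of_surjective (Ideal.Quotient.mk _) Ideal.Quotient.mk_surjective P]
        exact Ideal.IsMaximal.map_of_surjective_of_ker_le Ideal.Quotient.mk_surjective
          (Ideal.comap_mono bot_le)
    exact_mod_cast (Ring.krullDimLE_iff.1 this)
  have hIB : IB ≠ ⊤ := fun htop => by
    have := hmax (IsLocalRing.closedPoint B') (IsLocalRing.le_maximalIdeal p'.isPrime.ne_top)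
    have hle : IB ≤ IsLocalRing.maximalIdeal B' := by
      let J := IS.map (algebraMap S (Localization.AtPrime q.asIdeal))
      have hJ : J ≠ ⊤ := fun h => (IsLocalRing.maximalIdeal.isMaximal
        (Localization.AtPrime q.asIdeal)).ne_top (top_le_iff.1 (h ▸
          (Ideal.map_mono hq).trans (IsLocalization.AtPrime.map_eq_maximalIdeal q.asIdeal
            (Localization.AtPrime q.asIdeal)).le))
      show IS.map (algebraMap S B') ≤ _
      rw [IsScalarTower.algebraMap_eq S (Localization.AtPrime q.asIdeal) B', ← Ideal.map_map]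
      rw [← Regular.Completion.map_maximalIdeal J hJ]
      exact Ideal.map_mono (IsLocalRing.le_maximalIdeal hJ)
    exact (IsLocalRing.maximalIdeal.isMaximal B').ne_top (top_le_iff.1 (htop ▸ hle))
  have hcd : LocCoh.CdLE B' IB d := Cd.cdLE_map (Cd.cdLE_map D.hcd)
  have hb := ConnBound.dim_prime_le hIB hcd h0
  rw [DimDegree.ringKrullDim_quotient_eq hω''] at hb
  rw [hclosed] at hb
  have hb' : (Degree.deg hω' q - Degree.deg hω'' p').toNat ≤ 0 + d := by exact_mod_cast hb
  have h4 := ProZero.Final.h4_at D hqT p₀ r hpr hrq hIp₀ hIr hrne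
  rw [hn, Bootstrap.dimBetween_eq hω p₀ q₀ hp₀q] at h4
  have hlt : Degree.deg hω p₀ < Degree.deg hω q₀ :=
    Degree.deg_lt hω (lt_of_le_of_ne hp₀q fun h => hIp₀ (h ▸ hq₀))
  rcases h4 with h | h
  swap
  · have h' : d + s < n + (Degree.deg hω q₀ - Degree.deg hω p₀).toNat := by exact_mod_cast h
    omega
  have h' : s ≤ n := by exact_mod_cast h
  by_contra hsm
  have hns : n = s := by omega
  have hdeg : Degree.deg hω'' p' = Degree.deg hω p₀ := by omega
  have hp₀M : p₀ ∈ Module.support A M := by
    by_contra hc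
    have : Subsingleton (LocalizedModule p₀.asIdeal.primeCompl M) := Module.notMem_support_iff.1 hc
    rw [Bootstrap.depth_eq_top] at hn
    exact ENat.natCast_ne_top n hn.symm
  let k := (Degree.deg hω q₀ - Degree.deg hω p₀).toNat
  have hcrit := ProZero.Punctual.notMem_support_H_crit hω I M q₀ s hq₀ (D.h6 q₀ hqT) p₀ hp₀q hp₀M
    (hn.trans (by rw [hns])) k (by omega) (by omega)
  have : IsScalarTower A S B' := inferInstance
  have : Module.Flat A B' := by
    have := AdicCompletion.flat_of_isNoetherian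
      (IS.map (algebraMap S (Localization.AtPrime q.asIdeal)))
    have : Module.Flat S B' := Module.Flat.trans S (Localization.AtPrime q.asIdeal) B'
    exact Module.Flat.trans A S B'
  have hIB' : I.map (algebraMap A B') = IB := by
    rw [IsScalarTower.algebraMap_eq A S B', ← Ideal.map_map]
  have hunit : ∀ t ∉ q₀.asIdeal, IsUnit (algebraMap A B' t) := fun t ht => by
    rw [IsScalarTower.algebraMap_apply A S B',
      IsScalarTower.algebraMap_apply S (Localization.AtPrime q.asIdeal) B']
    exact (IsLocalization.map_units (Localization.AtPrime q.asIdeal)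
      (⟨algebraMap A S t, ht⟩ : q.asIdeal.primeCompl)).map _
  have hzero : Subsingleton (B' ⊗[A] LocCoh.H I k (A ⧸ p₀.asIdeal)) := by
    refine subsingleton_of_forall_eq 0 fun z => ?_
    induction z using TensorProduct.induction_on with
    | zero => rfl
    | tmul b y =>
      obtain ⟨t, ht, hty⟩ := Module.notMem_support_iff'.1 hcrit y
      obtain ⟨u, hu⟩ := hunit t ht
      calc b ⊗ₜ[A] y = ((↑u⁻¹ * b) * algebraMap A B' t) ⊗ₜ[A] y := by
            rw [← hu, mul_comm (↑u⁻¹ : B') b, mul_assoc, Units.inv_mul, mul_one]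
        _ = (↑u⁻¹ * b) ⊗ₜ[A] (t • y) := by
            rw [← TensorProduct.smul_tmul, Algebra.smul_def, mul_comm]
        _ = 0 := by rw [hty, TensorProduct.tmul_zero]
    | add x y hx hy => rw [hx, hy, add_zero]
  obtain ⟨ε⟩ := LocalCoh.nonempty_lcBaseChangeIso (I := I) B' (ModuleCat.of A (A ⧸ p₀.asIdeal)) k
  let N : Type u := B' ⊗[A] (A ⧸ p₀.asIdeal)
  have hN : Subsingleton (LocCoh.H IB k N) := by
    have h : Subsingleton (LocCoh.H (I.map (algebraMap A B')) k N) :=
      ε.symm.toLinearEquiv.toEquiv.subsingleton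
    rwa [hIB'] at h
  have hp₀p' : p₀.asIdeal = p'.asIdeal.comap (algebraMap A B') := by
    show (Bootstrap.below IS q p').asIdeal.comap (algebraMap A S) = _
    rw [Bootstrap.below_asIdeal, Ideal.comap_comap]
    rfl
  let π₀ : (A ⧸ p₀.asIdeal) →ₗ[A] B' ⧸ p'.asIdeal :=
    Submodule.liftQ p₀.asIdeal ((Submodule.mkQ p'.asIdeal).restrictScalars A ∘ₗ Algebra.linearMap A B')
      fun x hx => LinearMap.mem_ker.2 ((Submodule.Quotient.mk_eq_zero _).2
        (show algebraMap A B' x ∈ p'.asIdeal from Ideal.mem_comap.1 (by rw [← hp₀p']; exact hx)))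
  let π : N →ₗ[B'] B' ⧸ p'.asIdeal := LinearMap.liftBaseChange B' π₀
  have hπ : Function.Surjective π := fun x => by
    obtain ⟨x, rfl⟩ := Submodule.Quotient.mk_surjective _ x
    refine ⟨x ⊗ₜ Submodule.Quotient.mk 1, ?_⟩
    show x • (Submodule.Quotient.mk (algebraMap A B' 1) : B' ⧸ p'.asIdeal) = _
    rw [map_one, ← Submodule.Quotient.mk_smul, smul_eq_mul, mul_one]
  have hsuppN : ∀ Q ∈ Module.support B' N, Degree.deg hω p₀ ≤ Degree.deg hω'' Q := fun Q hQ => by
    have h1 : p₀ ≤ PrimeSpectrum.comap (algebraMap A S) (Bootstrap.below IS q Q) := by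
      intro v hv
      show algebraMap A S v ∈ (Bootstrap.below IS q Q).asIdeal
      rw [Bootstrap.below_asIdeal, Ideal.mem_comap, ← IsScalarTower.algebraMap_apply A S B']
      refine Module.annihilator_le_of_mem_support hQ (Module.mem_annihilator.2 fun z => ?_)
      rw [algebraMap_smul]
      induction z using TensorProduct.induction_on with
      | zero => exact smul_zero _
      | tmul b m =>
        obtain ⟨m, rfl⟩ := Submodule.Quotient.mk_surjective _ m
        rw [← TensorProduct.tmul_smul, ← Submodule.Quotient.mk_smul,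
          (Submodule.Quotient.mk_eq_zero _).2
            (show v • m ∈ p₀.asIdeal from Ideal.mul_mem_right m p₀.asIdeal hv), TensorProduct.tmul_zero]
      | add x y hx hy => rw [smul_add, hx, hy, add_zero]
    exact ((Degree.deg_le hω h1).trans (hdata _).1).trans (hdata' Q).1
  have hdimN : Module.supportDim B' N ≤ (k : ℕ) := by
    refine iSup_le fun c => ?_
    let c' : LTSeries (PrimeSpectrum B') := c.map Subtype.val (fun _ _ h => h)
    have h1 := DimDegree.head_deg_add_length_le hω'' c'
    have h2 := hsuppN c'.head c.head.2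
    have h3 := Degree.deg_le hω'' (show c'.last ≤ IsLocalRing.closedPoint B' from
      IsLocalRing.le_maximalIdeal c'.last.isPrime.ne_top)
    rw [hclosed] at h3
    have hlen : c'.length = c.length := rfl
    exact_mod_cast (show c.length ≤ k by omega)
  have : Module.Finite B' N := inferInstance
  have hker : Subsingleton (LocCoh.H IB (k + 1) (LinearMap.ker π)) := by
    refine LocalCoh.lc_subsingleton_of_supportDim_lt (k + 1) B' IB _ ?_
    refine lt_of_le_of_lt ((Module.supportDim_le_of_injective (LinearMap.ker π).subtype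
      Subtype.val_injective).trans hdimN) ?_
    exact_mod_cast Nat.lt_succ_self k
  have hsurj : Function.Surjective (LCFin.Seq.Hmap IB k π) := fun x =>
    (LCFin.Seq.exact_map_δ IB (Submodule.injective_subtype _) hπ
      (LinearMap.exact_subtype_ker_map π) k x).1 (hker.elim _ _)
  have hQ : Subsingleton (LocCoh.H IB k (B' ⧸ p'.asIdeal)) := hsurj.subsingleton
  have : Nontrivial (B' ⧸ p'.asIdeal) := Ideal.Quotient.nontrivial_iff.2 p'.isPrime.ne_top
  have : IsLocalRing (B' ⧸ p'.asIdeal) :=
    IsLocalRing.of_surjective' (Ideal.Quotient.mk p'.asIdeal) Ideal.Quotient.mk_surjective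
  have hrad : (IB.map (algebraMap B' (B' ⧸ p'.asIdeal))).radical =
      IsLocalRing.maximalIdeal (B' ⧸ p'.asIdeal) := by
    rw [Ideal.radical_eq_sInf]
    refine le_antisymm (sInf_le ⟨?_, inferInstance⟩) (le_sInf ?_)
    · refine (Ideal.map_mono (IsLocalRing.le_maximalIdeal hIB)).trans ?_
      exact (IsLocalRing.map_maximalIdeal_of_surjective (Ideal.Quotient.mk p'.asIdeal)
        Ideal.Quotient.mk_surjective).le
    · rintro P ⟨hIP, hP⟩
      have := hmax ⟨P.comap (Ideal.Quotient.mk p'.asIdeal), hP.comap _⟩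
        (Ideal.mk_ker.ge.trans (Ideal.comap_mono bot_le)) (Ideal.map_le_iff_le_comap.1 hIP)
      have hPm : P.IsMaximal := by
        rw [← Ideal.map_comap_of_surjective (Ideal.Quotient.mk p'.asIdeal) Ideal.Quotient.mk_surjective P]
        exact Ideal.IsMaximal.map_of_surjective_of_ker_le Ideal.Quotient.mk_surjective
          (Ideal.comap_mono bot_le)
      exact (IsLocalRing.eq_maximalIdeal hPm).ge
  have hdimk : ringKrullDim (B' ⧸ p'.asIdeal) = (k : ℕ) := by
    rw [DimDegree.ringKrullDim_quotient_eq hω'', hclosed]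
    exact_mod_cast (show (Degree.deg hω' q - Degree.deg hω'' p').toNat = k by omega)
  have hnt := Top.not_cdLE_of_radical_eq _ hrad k hdimk
  obtain ⟨δ⟩ := LocalCoh.nonempty_lcRestrictIso (B' ⧸ p'.asIdeal) IB
    (ModuleCat.of (B' ⧸ p'.asIdeal) (B' ⧸ p'.asIdeal)) k
  let δ' := δ ≪≫ (localCohomology IB k).mapIso (LocalCoh.resObjIso (B' ⧸ p'.asIdeal) (B' ⧸ p'.asIdeal))
  exact not_subsingleton_iff_nontrivial.2 hnt (@Equiv.subsingleton _ _ δ'.toLinearEquiv.toEquiv hQ)

end Groth.Agent.Lib.LCFin.BootstrapCompletion
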