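import Groth.Agent.Lib.LCFin.CanonCM
import Groth.Agent.Lib.LCFin.CanonEnd
import Groth.Agent.Lib.LCFin.CanonDepth
import Groth.Agent.Lib.LCFin.CanonChange
import Groth.Agent.Lib.Regular.Serre
import Mathlib.RingTheory.UniqueFactorizationDomain.Basic
import Mathlib.RingTheory.UniqueFactorizationDomain.Ideal

/-!
Canonical modules of Cohen–Macaulay local domains are ideals; Murthy's theorem.
-/

universe u

open CategoryTheory IsLocalRing
open scoped Pointwise
open Groth.Agent.Lib.InjHull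

namespace Groth.Agent.Lib.LCFin.CanonUFD

variable {R : Type u} [CommRing R] [IsDomain R] [LocCoh.IsCohenMacaulayLocalRing R]
  {K : Type u} [AddCommGroup K] [Module R K] [Module.Finite R K]
  {E : Type u} [AddCommGroup E] [Module R E] {f : ResidueField R →ₗ[R] E} {d : ℕ}

theorem eq_zero_or_eq_zero (hf : InjHull.IsInjectiveHull f) (hd : ringKrullDim R = d)
    (e : (K →ₗ[R] E) ≃ₗ[R] LocCoh.H (maximalIdeal R) d R) {r : R} {x : K} (h : r • x = 0) :
    r = 0 ∨ x = 0 := by
  refine or_iff_not_imp_left.2 fun hr => ?_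
  have hQ : Module.supportDim R R ≤ d := (Module.supportDim_self_eq_ringKrullDim (R := R)).le.trans hd.le
  refine CanonBasic.isSMulRegular_of_avoid hf hQ e (fun p hp _ hdim hrp => hr ?_) (h.trans (smul_zero r).symm)
  by_contra h0
  have hlt : (⊥ : Ideal R) < p := lt_of_le_of_ne bot_le fun he => h0 ((Submodule.mem_bot R).1 (he ▸ hrp))
  have h1 := Depth.Assoc.ringKrullDim_quotient_add_one_le_of_lt hlt
  rw [ringKrullDim_eq_of_ringEquiv (RingEquiv.quotientBot R), hd, hdim] at h1
  exact absurd h1 (not_le.2 (by exact_mod_cast d.lt_succ_self))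

theorem exists_endo_scalar (hf : InjHull.IsInjectiveHull f) (hd : ringKrullDim R = d)
    (e : (K →ₗ[R] E) ≃ₗ[R] LocCoh.H (maximalIdeal R) d R) :
    (∀ g : K →ₗ[R] K, ∃ r : R, ∀ x, g x = r • x) ∧ Nontrivial K := by
  obtain ⟨h1, h2⟩ := CanonEnd.exists_eq_smul hf d K R (Depth.CM.isCohenMacaulayModule_self)
    ((Module.supportDim_self_eq_ringKrullDim (R := R)).trans hd) e ⟨1, Ideal.span_singleton_one⟩
  refine ⟨h1, ?_⟩
  by_contra hK
  rw [not_nontrivial_iff_subsingleton] at hK
  rw [Module.annihilator_eq_top_iff.2 hK, top_le_iff, Module.annihilator_eq_top_iff] at h2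
  exact not_subsingleton R h2

/-- A nonzero functional on the canonical module is injective. -/
theorem injective_of_ne_zero (hf : InjHull.IsInjectiveHull f) (hd : ringKrullDim R = d)
    (e : (K →ₗ[R] E) ≃ₗ[R] LocCoh.H (maximalIdeal R) d R) {φ : K →ₗ[R] R} (hφ : φ ≠ 0) :
    Function.Injective φ := by
  obtain ⟨hscal, -⟩ := exists_endo_scalar hf hd e
  rw [← LinearMap.ker_eq_bot, Submodule.eq_bot_iff]
  intro k hk
  obtain ⟨x, hx⟩ : ∃ x, φ x ≠ 0 := by
    by_contra hc
    push Not at hc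
    exact hφ (LinearMap.ext hc)
  obtain ⟨c, hc⟩ := hscal (LinearMap.toSpanSingleton R K k ∘ₗ φ)
  have h1 : φ x • k = c • x := hc x
  rcases eq_zero_or_eq_zero hf hd e (show c • k = 0 by rw [← hc k]; simp [LinearMap.mem_ker.1 hk]) with h | h
  · rw [h, zero_smul] at h1
    exact (eq_zero_or_eq_zero hf hd e h1).resolve_left hx
  · exact h

theorem exists_injective (hf : InjHull.IsInjectiveHull f) (hd : ringKrullDim R = d)
    (e : (K →ₗ[R] E) ≃ₗ[R] LocCoh.H (maximalIdeal R) d R) :
    ∃ φ : K →ₗ[R] R, Function.Injective φ := by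
  obtain ⟨-, hnt⟩ := exists_endo_scalar hf hd e
  obtain ⟨x, hx⟩ := exists_ne (0 : K)
  have hsupp : (⟨⊥, Ideal.isPrime_bot⟩ : PrimeSpectrum R) ∈ Module.support R K := by
    rw [Module.mem_support_iff_of_finite]
    exact fun r hr => (Submodule.mem_bot R).2
      ((eq_zero_or_eq_zero hf hd e (Module.mem_annihilator.1 hr x)).resolve_right hx)
  obtain ⟨g, hg⟩ := Top2.exists_hom_ne_zero (p := (⊥ : Ideal R)) hsupp
  refine ⟨(Submodule.quotEquivOfEqBot ⊥ rfl).toLinearMap ∘ₗ g, injective_of_ne_zero hf hd e ?_⟩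
  intro h
  exact hg (LinearMap.ext fun z => (Submodule.quotEquivOfEqBot (⊥ : Ideal R) rfl).injective
    ((LinearMap.congr_fun h z).trans (map_zero _).symm))

/-- The image of the canonical module is unmixed of height one. -/
theorem height_eq_one (hf : InjHull.IsInjectiveHull f) (hd : ringKrullDim R = d)
    (e : (K →ₗ[R] E) ≃ₗ[R] LocCoh.H (maximalIdeal R) d R) (φ : K →ₗ[R] R)
    (hφ : Function.Injective φ) {q : Ideal R}
    (hq : q ∈ associatedPrimes R (R ⧸ LinearMap.range φ)) :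
    q.height = 1 := by
  obtain ⟨-, hnt⟩ := exists_endo_scalar hf hd e
  obtain ⟨hprime, z, hz⟩ := (isAssociatedPrime_iff (I := q)).1 hq
  obtain ⟨x, rfl⟩ := Submodule.Quotient.mk_surjective _ z
  have hqx : ∀ r ∈ q, r * x ∈ LinearMap.range φ := fun r hr => by
    rw [hz, Submodule.mem_colon_singleton, Submodule.mem_bot, ← Submodule.Quotient.mk_smul,
      Submodule.Quotient.mk_eq_zero] at hr
    exact hr
  have hx : x ∉ LinearMap.range φ := fun h => hprime.ne_top ((Ideal.eq_top_iff_one _).2 (by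
    rw [hz, Submodule.mem_colon_singleton, (Submodule.Quotient.mk_eq_zero _).2 h, smul_zero]
    exact zero_mem _))
  have hq0 : (⊥ : Ideal R) < q := by
    obtain ⟨k, hk⟩ := exists_ne (0 : K)
    refine lt_of_le_of_ne bot_le fun h => hk ((map_eq_zero_iff φ hφ).1 ((Submodule.mem_bot R).1 (?_)))
    rw [h, hz, Submodule.mem_colon_singleton, Submodule.mem_bot, ← Submodule.Quotient.mk_smul,
      Submodule.Quotient.mk_eq_zero]
    exact ⟨x • k, by rw [map_smul, smul_eq_mul, smul_eq_mul, mul_comm]⟩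
  have := hprime
  refine le_antisymm ?_ ?_
  · by_contra hht
    have h2 : ((2 : ℕ) : ℕ∞) ≤ LocCoh.idealDepth q K := by
      refine le_trans (le_min le_rfl ?_) (CanonDepth.min_height_le_idealDepth hf hd e q)
      rw [not_le] at hht
      have h3 := Order.add_one_le_of_lt hht
      exact le_of_eq_of_le (by norm_num) h3
    obtain ⟨rs, hlen, hmem, hreg⟩ := (Depth.Basic.le_idealDepth_iff_of_ne_top
      (Depth.Basic.smul_top_ne_top hprime.ne_top) 2).1 h2
    match rs, hlen with
    | [a, b], _ =>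
      rw [RingTheory.Sequence.isWeaklyRegular_cons_iff,
        RingTheory.Sequence.isWeaklyRegular_singleton_iff] at hreg
      obtain ⟨u, hu⟩ := hqx a (hmem a (by simp))
      obtain ⟨v, hv⟩ := hqx b (hmem b (by simp))
      have hab : b • u = a • v := hφ (by rw [map_smul, map_smul, hu, hv, smul_eq_mul, smul_eq_mul]; ring)
      have hu0 : (Submodule.Quotient.mk u : QuotSMulTop a K) = 0 := by
        refine hreg.2 (?_ : b • _ = b • _)
        rw [smul_zero, ← Submodule.Quotient.mk_smul, hab, Submodule.Quotient.mk_eq_zero]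
        exact Submodule.smul_mem_pointwise_smul v a _ Submodule.mem_top
      rw [Submodule.Quotient.mk_eq_zero] at hu0
      obtain ⟨w, -, rfl⟩ := (Submodule.mem_smul_pointwise_iff_exists _ _ _).1 hu0
      rw [map_smul, smul_eq_mul] at hu
      refine hx ⟨w, mul_left_cancel₀ (fun ha => ?_) hu⟩
      obtain ⟨k, hk⟩ := exists_ne (0 : K)
      exact hk (hreg.1 (show a • k = a • 0 by rw [ha, zero_smul, zero_smul]))
  · have h := Ideal.height_strict_mono_of_isPrime hq0
    rw [Ideal.height_bot] at h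
    exact Order.one_le_iff_ne_zero.2 h.ne'

/-- Over a factorial ring the canonical module is free. -/
theorem nonempty_equiv_self [UniqueFactorizationMonoid R] (hf : InjHull.IsInjectiveHull f)
    (hd : ringKrullDim R = d) (e : (K →ₗ[R] E) ≃ₗ[R] LocCoh.H (maximalIdeal R) d R) :
    Nonempty (K ≃ₗ[R] R) := by
  obtain ⟨φ₀, hφ₀⟩ := exists_injective hf hd e
  obtain ⟨J, ⟨φ, hφ, rfl⟩, hmax⟩ := exists_maximal_of_wellFoundedGT
    (· ∈ {J : Submodule R R | ∃ φ : K →ₗ[R] R, Function.Injective φ ∧ LinearMap.range φ = J})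
    ⟨_, φ₀, hφ₀, rfl⟩
  by_cases htop : LinearMap.range φ = ⊤
  · exact ⟨(LinearEquiv.ofBijective φ ⟨hφ, LinearMap.range_eq_top.1 htop⟩)⟩
  exfalso
  have : Nontrivial (R ⧸ LinearMap.range φ) := Submodule.Quotient.nontrivial_iff.2 htop
  obtain ⟨q, hq⟩ := associatedPrimes.nonempty R (R ⧸ LinearMap.range φ)
  have h1 := height_eq_one hf hd e φ hφ hq
  have hprime := hq.isPrime
  have hle : LinearMap.range φ ≤ q := by
    have h := IsAssociatedPrime.annihilator_le hq
    rw [Submodule.annihilator_top, Ideal.annihilator_quotient] at h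
    exact h
  have hne : q ≠ ⊥ := by
    rintro rfl
    rw [Ideal.height_bot] at h1
    exact zero_ne_one h1
  obtain ⟨π, hπq, hπ⟩ := hprime.exists_mem_prime_of_ne_bot hne
  have hqπ : q = Ideal.span {π} := by
    have hπp : (Ideal.span {π}).IsPrime := (Ideal.span_singleton_prime hπ.ne_zero).2 hπ
    refine (eq_of_le_of_not_lt ((Ideal.span_singleton_le_iff_mem _).2 hπq) fun hlt => ?_).symm
    have h0 : (⊥ : Ideal R) < Ideal.span {π} := lt_of_le_of_ne bot_le fun h =>
      hπ.ne_zero (Ideal.span_singleton_eq_bot.1 h.symm)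
    have h2 := Ideal.height_strict_mono_of_isPrime h0
    have h3 := Ideal.height_strict_mono_of_isPrime hlt
    rw [Ideal.height_bot] at h2
    rw [h1, ENat.lt_one_iff_eq_zero] at h3
    exact h2.ne' h3
  have hdvd : ∀ k, ∃ r, π * r = φ k := fun k => by
    obtain ⟨r, hr⟩ := Ideal.mem_span_singleton'.1 (hqπ.le (hle ⟨k, rfl⟩))
    exact ⟨r, by rw [mul_comm]; exact hr⟩
  choose ψ hψ using hdvd
  let ψ' : K →ₗ[R] R :=
    { toFun := ψ
      map_add' := fun a b => mul_left_cancel₀ hπ.ne_zero (by rw [hψ, mul_add, hψ, hψ, map_add])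
      map_smul' := fun c a => mul_left_cancel₀ hπ.ne_zero (by
        rw [hψ, map_smul, RingHom.id_apply, smul_eq_mul, smul_eq_mul, ← mul_assoc, mul_comm π c,
          mul_assoc, hψ]) }
  have hψinj : Function.Injective ψ' := fun a b hab => hφ (by rw [← hψ a, ← hψ b, show ψ a = ψ b from hab])
  have hle' : LinearMap.range φ ≤ LinearMap.range ψ' := by
    rintro _ ⟨k, rfl⟩
    exact ⟨π • k, by rw [map_smul, smul_eq_mul]; exact hψ k⟩
  have hback := hmax ⟨ψ', hψinj, rfl⟩ hle'
  have hnak : LinearMap.range φ ≤ Ideal.span {π} • LinearMap.range φ := by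
    rintro _ ⟨k, rfl⟩
    obtain ⟨k', hk'⟩ := hback ⟨k, rfl⟩
    rw [← hψ k, show ψ k = φ k' from hk'.symm]
    exact Submodule.smul_mem_smul (Ideal.mem_span_singleton_self π) ⟨k', rfl⟩
  have hfg : (LinearMap.range φ).FG := IsNoetherian.noetherian _
  have h0 := Submodule.eq_bot_of_le_smul_of_le_jacobson_bot (Ideal.span {π}) _ hfg hnak
    ((Ideal.span_singleton_le_iff_mem _).2 (IsLocalRing.maximalIdeal_le_jacobson _
      (IsLocalRing.le_maximalIdeal hprime.ne_top hπq)))
  obtain ⟨-, hnt⟩ := exists_endo_scalar hf hd e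
  obtain ⟨k, hk⟩ := exists_ne (0 : K)
  exact hk ((map_eq_zero_iff φ hφ).1 ((Submodule.mem_bot R).1 (h0 ▸ ⟨k, rfl⟩)))

/-- The canonical module of a quotient of a regular local ring by a prime. -/
theorem exists_canon {B : Type u} [CommRing B] [IsRegularLocalRing B] (p : Ideal B) [p.IsPrime]
    [LocCoh.IsCohenMacaulayLocalRing (B ⧸ p)] {r : ℕ} (hr : p.height = r) :
    ∃ (E : Type u) (_ : AddCommGroup E) (_ : Module (B ⧸ p) E)
      (f : ResidueField (B ⧸ p) →ₗ[B ⧸ p] E) (d : ℕ) (K : Type u) (_ : AddCommGroup K) (_ : Module B K)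
      (_ : Module (B ⧸ p) K) (_ : IsScalarTower B (B ⧸ p) K) (_ : Module.Finite (B ⧸ p) K),
      InjHull.IsInjectiveHull f ∧ ringKrullDim (B ⧸ p) = d ∧
      Nonempty (K ≃ₗ[B] Abelian.Ext (ModuleCat.of B (B ⧸ p)) (ModuleCat.of B B) r) ∧
      Nonempty ((K →ₗ[B ⧸ p] E) ≃ₗ[B ⧸ p] LocCoh.H (maximalIdeal (B ⧸ p)) d (B ⧸ p)) := by
  have hG := Goren.Basic.isGorensteinLocalRing_of_isRegular B
  have hCM : LocCoh.IsCohenMacaulayLocalRing B := Annihilator.isCohenMacaulay
  obtain ⟨N, hN⟩ := Depth.CM.supportDim_eq_nat (R := B) B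
  rw [Module.supportDim_self_eq_ringKrullDim] at hN
  obtain ⟨d, hd⟩ := Depth.CM.supportDim_eq_nat (R := B ⧸ p) (B ⧸ p)
  rw [Module.supportDim_self_eq_ringKrullDim] at hd
  have hgd := CanonChange.height_add_eq p hr hd hN
  obtain ⟨E, _, _, f, hf⟩ := Basic.exists_hull (R := B ⧸ p) (ResidueField (B ⧸ p))
  obtain ⟨inst, hst, hfin, hK⟩ := CanonChange.exists_canonMod (A := B) (B := B ⧸ p)
    Ideal.Quotient.mk_surjective hf (n := d) (N := N) (by omega) hN
  exact ⟨E, inferInstance, inferInstance, f, d,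
    Abelian.Ext (ModuleCat.of B (B ⧸ p)) (ModuleCat.of B B) (N - d), inferInstance, inferInstance,
    inst, hst, hfin, hf, hd, by rw [show N - d = r by omega]; exact ⟨LinearEquiv.refl B _⟩, hK⟩

end Groth.Agent.Lib.LCFin.CanonUFD
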