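import Groth.Agent.Lib.LCFin.HLVT3
import Groth.Agent.Lib.LCFin.Top
import Groth.Agent.Lib.DMod.LocalDuality
import Groth.Agent.Lib.RGamma.Colim

/-!
# Cohomological dimension and the dualizing complex
-/

universe u

open CategoryTheory CategoryTheory.Limits Opposite Pretriangulated
open scoped TensorProduct

attribute [local instance] HasDerivedCategory.standard

namespace Groth.Agent.Lib.LCFin.CdDualizing

open Groth.Agent.Lib.LocalCoh Groth.Agent.Lib.DMod Groth.Agent.Lib.DMod.Basic
open Groth.Agent.Lib.LCFin.Cd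

lemma nontrivial_dual {R : Type u} [CommRing R] [IsNoetherianRing R] [IsLocalRing R]
    {E : Type u} [AddCommGroup E] [Module R E] {f : IsLocalRing.ResidueField R →ₗ[R] E}
    (hf : InjHull.IsInjectiveHull f) (H : Type u) [AddCommGroup H] [Module R H] [Nontrivial H] :
    Nontrivial (H →ₗ[R] E) := by
  by_contra h
  rw [not_nontrivial_iff_subsingleton] at h
  obtain ⟨x, hx⟩ := exists_ne (0 : H)
  refine hx ?_
  have h1 : (1 : R) ∈ Module.annihilator R H := by
    rw [InjHull.Matlis.annihilator_dual hf, Module.annihilator_eq_top_iff.2 h]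
    trivial
  simpa using Module.mem_annihilator.1 h1 x

/-- Nonvanishing of top local cohomology gives a prime of the completion. -/
theorem exists_prime_of_nontrivial {A : Type u} [CommRing A] [IsNoetherianRing A] [IsLocalRing A]
    (I : Ideal A) {n : ℕ} (hn : ringKrullDim A = n) (h : Nontrivial (LocCoh.H I n A)) :
    let S := AdicCompletion (IsLocalRing.maximalIdeal A) A
    ∃ P : Ideal S, P ∈ minimalPrimes S ∧
      (I.map (algebraMap A S) ⊔ P).radical = IsLocalRing.maximalIdeal S := by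
  intro S
  have hm : IsLocalRing.maximalIdeal A ≠ ⊤ := Ideal.IsMaximal.ne_top inferInstance
  have : IsLocalHom (algebraMap A S) := Regular.Completion.isLocalHom _ hm
  have : Module.Flat A S := AdicCompletion.flat_of_isNoetherian _
  have : Module.FaithfullyFlat A S := Module.FaithfullyFlat.of_flat_of_isLocalHom
  have : IsAdicComplete (IsLocalRing.maximalIdeal S) S := by
    rw [AdicCompletion.maximalIdeal_eq_map]
    exact AdicCompletion.isAdicComplete_self _ (Ideal.fg_of_isNoetherianRing _)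
  obtain ⟨c⟩ := nonempty_lcBaseChangeIso (R := A) (I := I) S (ModuleCat.of A A) n
  have hnS : ringKrullDim S = n := (Regular.Completion.ringKrullDim_eq _ hm).trans hn
  have hnM : Module.supportDim S (S ⊗[A] A) ≤ n :=
    (Module.supportDim_le_ringKrullDim _ _).trans hnS.le
  have : Nontrivial (LocCoh.H (I.map (algebraMap A S)) n (S ⊗[A] A)) := by
    have : Nontrivial (S ⊗[A] ((localCohomology I n).obj (ModuleCat.of A A))) :=
      Module.FaithfullyFlat.lTensor_nontrivial A S _
    exact c.toLinearEquiv.symm.toEquiv.nontrivial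
  obtain ⟨E, _, _, f, hf⟩ := InjHull.Basic.exists_hull (R := S) (IsLocalRing.ResidueField S)
  have := nontrivial_dual hf (LocCoh.H (I.map (algebraMap A S)) n (S ⊗[A] A))
  obtain ⟨P, hP⟩ := associatedPrimes.nonempty S
    (LocCoh.H (I.map (algebraMap A S)) n (S ⊗[A] A) →ₗ[S] E)
  rw [HLVT.associatedPrimes_dual_eq hf _ hnM] at hP
  obtain ⟨hprime, -, hdim, hrad⟩ := hP
  refine ⟨P, ⟨⟨hprime, bot_le⟩, fun Q hQ hQP => ?_⟩, hrad⟩
  by_contra hne
  have := hQ.1
  have h1 := (Depth.Assoc.ringKrullDim_quotient_add_one_le_of_lt (lt_of_le_not_ge hQP hne)).trans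
    (ringKrullDim_le_of_surjective (Ideal.Quotient.mk Q) Ideal.Quotient.mk_surjective)
  rw [hdim, hnS] at h1
  exact absurd h1 (not_le.2 (by exact_mod_cast n.lt_succ_self))

variable {A : Type u} [CommRing A] [IsLocalRing A] [IsNoetherianRing A]

local notation "𝔪" => IsLocalRing.maximalIdeal A

variable {ω : Dual.D A} (hω : Dual.IsDualizing A ω) (hn : Dual.IsNormalized A ω)
include hω hn

/-- The vanishing of `H⁰_I(ω)` makes the torsion sections of `A/I^k` pro-zero. -/
theorem torsion_proZero (I : Ideal A) (h0 : Subsingleton (Dual2.HDI A I ω 0)) (k : ℕ) :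
    ∃ k', ∃ hk : k ≤ k', ∀ y ∈ DRing.torsionSub 𝔪 (A ⧸ I ^ k'),
      Submodule.factor (Ideal.pow_le_pow_right (I := I) hk) y = 0 := by
  classical
  let F : ℕᵒᵖᵒᵖ ⥤ ModuleCat.{u + 1} A :=
    (localCohomology.ringModIdeals (localCohomology.idealPowersDiagram I) ⋙
      DerivedCategory.singleFunctor (ModuleCat.{u} A) 0).op ⋙
        (linearYoneda A (Dual.D A)).obj (ω⟦(0 : ℤ)⟧)
  let Qk : ∀ l : ℕ, Dual.D A := fun l => Dual.inD A (A ⧸ I ^ l)
  let pr : ∀ {l l' : ℕ}, l ≤ l' → (Qk l' ⟶ Qk l) := fun h =>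
    (DerivedCategory.singleFunctor (ModuleCat.{u} A) 0).map
      (ModuleCat.ofHom (Submodule.factor (Ideal.pow_le_pow_right h)))
  have hone : ∀ g : Qk k ⟶ ω, ∃ l, ∃ hl : k ≤ l, pr hl ≫ g = 0 := fun g => by
    let g' : F.obj (op (op k)) := g ≫ ((shiftFunctorZero (Dual.D A) ℤ).app ω).inv
    have h1 : (colimit.ι F (op (op k))).hom g' = (colimit.ι F (op (op k))).hom 0 :=
      @Subsingleton.elim _ h0 _ _
    obtain ⟨j, f, f', hf⟩ := Concrete.colimit_exists_of_rep_eq F _ _ h1
    rw [map_zero] at hf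
    refine ⟨j.unop.unop, leOfHom f.unop.unop, ?_⟩
    apply (cancel_mono ((shiftFunctorZero (Dual.D A) ℤ).app ω).inv).1
    rw [Category.assoc, zero_comp]
    exact hf
  have := Degree.finite_hom hω (A ⧸ I ^ k) 0
  have hfin : Module.Finite A (Qk k ⟶ ω) :=
    Module.Finite.equiv (Linear.homCongr A (Iso.refl (Qk k)) ((shiftFunctorZero (Dual.D A) ℤ).app ω))
  obtain ⟨s, hs⟩ := hfin.fg_top
  have key : ∀ t : Finset (Qk k ⟶ ω), ∃ l, ∃ hl : k ≤ l, ∀ g ∈ t, pr hl ≫ g = 0 := fun t => by
    induction t using Finset.induction with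
    | empty => exact ⟨k, le_rfl, by simp⟩
    | insert g t _ ih =>
      obtain ⟨l, hl, hl'⟩ := ih
      obtain ⟨l₁, hl₁, hl₁'⟩ := hone g
      refine ⟨max l l₁, hl.trans (le_max_left _ _), fun g' hg' => ?_⟩
      have hcomp : ∀ {a b : ℕ} (h : k ≤ a) (h' : a ≤ b), pr (h.trans h') = pr h' ≫ pr h :=
        fun h h' => by
          show (DerivedCategory.singleFunctor (ModuleCat.{u} A) 0).map _ =
            (DerivedCategory.singleFunctor (ModuleCat.{u} A) 0).map _ ≫
              (DerivedCategory.singleFunctor (ModuleCat.{u} A) 0).map _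
          rw [← Functor.map_comp]
          exact congrArg _ (ModuleCat.hom_ext (Submodule.linearMap_qext _ rfl))
      rcases Finset.mem_insert.1 hg' with rfl | hg'
      · rw [show pr (hl.trans (le_max_left l l₁)) = pr (hl₁.trans (le_max_right l l₁)) from rfl,
          hcomp hl₁ (le_max_right l l₁), Category.assoc, hl₁', comp_zero]
      · rw [hcomp hl (le_max_left l l₁), Category.assoc, hl' g' hg', comp_zero]
  obtain ⟨k', hk, hk'⟩ := key s
  have hall : ∀ g : Qk k ⟶ ω, pr hk ≫ g = 0 := fun g => by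
    have hg : g ∈ Submodule.span A (s : Set (Qk k ⟶ ω)) := hs ▸ Submodule.mem_top
    induction hg using Submodule.span_induction with
    | mem x hx => exact hk' x hx
    | zero => exact comp_zero
    | add x y _ _ hx hy => rw [Preadditive.comp_add, hx, hy, add_zero]
    | smul c x _ hx => rw [Linear.comp_smul, hx, smul_zero]
  refine ⟨k', hk, fun y hy => ?_⟩
  obtain ⟨c, hc⟩ := hy
  by_contra hy0
  let π : A ⧸ I ^ k' →ₗ[A] A ⧸ I ^ k := Submodule.factor (Ideal.pow_le_pow_right hk)
  let N : Submodule A (A ⧸ I ^ k') := A ∙ y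
  let N' : Submodule A (A ⧸ I ^ k) := A ∙ π y
  have hNN : ∀ x ∈ N, π x ∈ N' := fun x hx => by
    obtain ⟨a, rfl⟩ := Submodule.mem_span_singleton.1 hx
    rw [map_smul]
    exact Submodule.smul_mem _ a (Submodule.mem_span_singleton_self _)
  let p : N →ₗ[A] N' := π.restrict hNN
  have hp : Function.Surjective p := fun x => by
    obtain ⟨a, ha⟩ := Submodule.mem_span_singleton.1 x.2
    exact ⟨⟨a • y, Submodule.smul_mem _ a (Submodule.mem_span_singleton_self _)⟩,
      Subtype.ext ((map_smul π a y).trans ha)⟩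
  have hkN : ∀ a ∈ 𝔪 ^ (c + 1), ∀ x : N, a • x = 0 := fun a ha x => by
    obtain ⟨b, hb⟩ := Submodule.mem_span_singleton.1 x.2
    refine Subtype.ext ?_
    rw [SetLike.val_smul, ← hb, smul_comm, hc a (Ideal.pow_le_pow_right c.le_succ ha), smul_zero]
    rfl
  have hkN' : ∀ a ∈ 𝔪 ^ (c + 1), ∀ x : N', a • x = 0 := fun a ha x => by
    obtain ⟨x, rfl⟩ := hp x
    rw [← map_smul, hkN a ha x, map_zero]
  have : Nontrivial N' :=
    ⟨⟨⟨π y, Submodule.mem_span_singleton_self _⟩, 0, fun h => hy0 (congrArg Subtype.val h)⟩⟩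
  have : Module.Finite A N' := Module.Finite.of_fg (IsNoetherian.noetherian _)
  obtain ⟨E, _, _, f, hf⟩ := InjHull.Basic.exists_hull (R := A) (IsLocalRing.ResidueField A)
  obtain ⟨t⟩ := Sys.exists_trace hω hn hf
  have := nontrivial_dual hf N'
  obtain ⟨φ, hφ⟩ := exists_ne (0 : N' →ₗ[A] E)
  obtain ⟨h, hh⟩ := (Sys.pair_bijective hω hn t (c + 1) (Nat.le_add_left 1 c) hkN').2 φ
  have hh0 : h ≠ 0 := fun h0 => hφ (by rw [← hh, h0, map_zero])
  -- extend to `A/I^k`
  let T₁ : ShortComplex (ModuleCat.{u} A) :=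
    .mk (ModuleCat.ofHom N'.subtype) (ModuleCat.ofHom N'.mkQ) (by
      ext x
      exact (Submodule.Quotient.mk_eq_zero _).2 x.2)
  have hT₁ : T₁.ShortExact :=
    { exact := (ShortComplex.ShortExact.moduleCat_exact_iff_function_exact _).2
        (LinearMap.exact_subtype_mkQ N')
      mono_f := (ModuleCat.mono_iff_injective _).2 Subtype.val_injective
      epi_g := (ModuleCat.epi_iff_surjective _).2 (Submodule.mkQ_surjective _) }
  have hpos : Subsingleton ((Dual.inD A ((A ⧸ I ^ k) ⧸ N'))⟦(-1 : ℤ)⟧ ⟶ ω) := by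
    have := LocalCase.subsingleton_hom_of_pos hω hn ((A ⧸ I ^ k) ⧸ N') (i := 1) one_pos
    exact (Linear.homCongr A (Iso.refl _) ((shiftFunctorZero (Dual.D A) ℤ).app ω)).toEquiv.subsingleton_congr.1
      ((homShiftAdj (Dual.inD A ((A ⧸ I ^ k) ⧸ N')) ω (-1) 0 1 (by lia)).toEquiv.subsingleton)
  obtain ⟨g, hg⟩ := Triangle.yoneda_exact₂ _
    (inv_rot_of_distTriang _ hT₁.singleTriangle_distinguished) h
    (hpos.elim _ _)
  -- detect on `N`
  let T₂ : ShortComplex (ModuleCat.{u} A) :=
    .mk (ModuleCat.ofHom (LinearMap.ker p).subtype : ModuleCat.of A (LinearMap.ker p) ⟶ ModuleCat.of A N)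
      (ModuleCat.ofHom p : ModuleCat.of A N ⟶ ModuleCat.of A N')
      (ModuleCat.hom_ext (LinearMap.ext fun x => LinearMap.mem_ker.1 x.2))
  have hT₂ : T₂.ShortExact :=
    { exact := (ShortComplex.ShortExact.moduleCat_exact_iff_function_exact _).2
        (LinearMap.exact_subtype_ker_map p)
      mono_f := (ModuleCat.mono_iff_injective _).2 Subtype.val_injective
      epi_g := (ModuleCat.epi_iff_surjective _).2 hp }
  have : Module.Finite A (LinearMap.ker p) := Module.Finite.of_fg (IsNoetherian.noetherian _)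
  have hker : Subsingleton ((Dual.inD A (LinearMap.ker p))⟦(1 : ℤ)⟧ ⟶ ω) :=
    Sys.subsingleton_hom_of_killed' hω hn (c + 1)
      (fun a ha x => Subtype.ext (hkN a ha x.1)) one_ne_zero
  have hzero : (DerivedCategory.singleFunctor (ModuleCat.{u} A) 0).map (ModuleCat.ofHom p) ≫ h = 0 := by
    have e : ModuleCat.ofHom p ≫ ModuleCat.ofHom N'.subtype =
        ModuleCat.ofHom N.subtype ≫ ModuleCat.ofHom π := rfl
    rw [hg]
    refine (Category.assoc _ _ _).symm.trans ?_
    show ((DerivedCategory.singleFunctor (ModuleCat.{u} A) 0).map (ModuleCat.ofHom p) ≫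
      (DerivedCategory.singleFunctor (ModuleCat.{u} A) 0).map (ModuleCat.ofHom N'.subtype)) ≫ g = 0
    rw [← Functor.map_comp, e, Functor.map_comp, Category.assoc]
    exact (congrArg (_ ≫ ·) (hall g)).trans comp_zero
  obtain ⟨u, hu⟩ := Triangle.yoneda_exact₃ _ hT₂.singleTriangle_distinguished h hzero
  exact hh0 (hu.trans ((congrArg (hT₂.singleTriangle.mor₃ ≫ ·) (hker.elim u 0)).trans comp_zero))

/-- The main vanishing. -/
theorem subsingleton_H (I : Ideal A) (h0 : Subsingleton (Dual2.HDI A I ω 0)) {n : ℕ}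
    (hdim : ringKrullDim A = n) : Subsingleton (LocCoh.H I n A) := by
  by_contra hnt
  rw [not_subsingleton_iff_nontrivial] at hnt
  let S := AdicCompletion 𝔪 A
  obtain ⟨P, hP, hrad⟩ := exists_prime_of_nontrivial I hdim hnt
  have hm : 𝔪 ≠ ⊤ := Ideal.IsMaximal.ne_top inferInstance
  have : Module.Flat A S := AdicCompletion.flat_of_isNoetherian _
  have hass : P ∈ associatedPrimes S S :=
    Module.associatedPrimes.minimalPrimes_annihilator_subset_associatedPrimes S S (by
      rw [Module.annihilator_eq_bot.2 inferInstance]; exact hP)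
  obtain ⟨hPprime, z, hz⟩ := (isAssociatedPrime_iff (I := P)).1 hass
  let IS : Ideal S := I.map (algebraMap A S)
  obtain ⟨N, hN⟩ := Ideal.exists_pow_le_of_le_radical_of_fg hrad.ge (IsNoetherian.noetherian _)
  have hzero : ∀ k, z ∈ IS ^ k := fun k => by
    obtain ⟨k', hk, hk'⟩ := torsion_proZero hω hn I h0 k
    have hker : z ⊗ₜ[A] (1 : A ⧸ I ^ k') ∈
        DRing.torsionSub ((IsLocalRing.maximalIdeal A).map (algebraMap A S)) (S ⊗[A] (A ⧸ I ^ k')) := by
      refine ⟨N * (k' + 1), fun a ha => ?_⟩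
      rw [← AdicCompletion.maximalIdeal_eq_map, pow_mul] at ha
      have ha' : a ∈ IS ^ k' ⊔ P := by
        have := Ideal.pow_right_mono hN _ ha
        have h2 : (IS ⊔ P) ^ (k' + 1) ≤ IS ^ k' ⊔ P :=
          Ideal.sup_pow_add_le_pow_sup_pow.trans (sup_le_sup_left (pow_one P).le _)
        exact h2 this
      obtain ⟨b, hb, q, hq, rfl⟩ := Submodule.mem_sup.1 ha'
      have hqz : q * z = 0 := by
        have := hz ▸ hq
        rwa [Submodule.mem_colon_singleton, Submodule.mem_bot, smul_eq_mul] at this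
      rw [TensorProduct.smul_tmul', smul_eq_mul, add_mul, hqz, add_zero]
      have hb' : b * z ∈ IS ^ k' := Ideal.mul_mem_right _ _ hb
      rw [show IS ^ k' = (I ^ k').map (algebraMap A S) from (Ideal.map_pow _ _ _).symm, Ideal.map]
        at hb'
      generalize b * z = bz at hb' ⊢
      induction hb' using Submodule.span_induction with
      | mem x hx =>
        obtain ⟨x, hx', rfl⟩ := hx
        rw [Algebra.algebraMap_eq_smul_one, TensorProduct.smul_tmul,
          show x • (1 : A ⧸ I ^ k') = 0 by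
            rw [Algebra.smul_def, mul_one]; exact Ideal.Quotient.eq_zero_iff_mem.2 hx',
          TensorProduct.tmul_zero]
      | zero => exact TensorProduct.zero_tmul _ _
      | add x y _ _ hx hy => rw [TensorProduct.add_tmul, hx, hy, add_zero]
      | smul c x _ hx => rw [← TensorProduct.smul_tmul', hx, smul_zero]
    rw [← range_baseChange_torsionSub S (IsLocalRing.maximalIdeal A) (A ⧸ I ^ k')] at hker
    obtain ⟨w, hw⟩ := hker
    let π : A ⧸ I ^ k' →ₗ[A] A ⧸ I ^ k := Submodule.factor (Ideal.pow_le_pow_right hk)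
    have h1 : z ⊗ₜ[A] (1 : A ⧸ I ^ k) = 0 := by
      have e : π.baseChange S (z ⊗ₜ[A] (1 : A ⧸ I ^ k')) = z ⊗ₜ[A] (1 : A ⧸ I ^ k) := rfl
      rw [← e, ← hw, ← LinearMap.comp_apply, ← LinearMap.baseChange_comp,
        show π ∘ₗ (DRing.torsionSub 𝔪 (A ⧸ I ^ k')).subtype = 0 from
          LinearMap.ext fun y => hk' y.1 y.2, LinearMap.baseChange_zero, LinearMap.zero_apply]
    have h2 := congrArg (Algebra.TensorProduct.quotIdealMapEquivTensorQuot S (I ^ k)).symm h1
    rw [map_zero] at h2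
    rw [show IS ^ k = (I ^ k).map (algebraMap A S) from (Ideal.map_pow _ _ _).symm,
      ← Ideal.Quotient.eq_zero_iff_mem]
    refine Eq.trans ?_ h2
    rw [← Ideal.Quotient.mk_eq_mk, eq_comm, AlgEquiv.symm_apply_eq]
    rfl
  have hIS : IS ≠ ⊤ := fun h => by
    rw [show I.map (algebraMap A S) = ⊤ from h, top_sup_eq, Ideal.radical_top] at hrad
    exact (IsLocalRing.maximalIdeal.isMaximal S).ne_top hrad.symm
  have : z = 0 := by
    have h := Ideal.iInf_pow_eq_bot_of_isLocalRing IS hIS
    exact (Submodule.mem_bot S).1 (h ▸ (Submodule.mem_iInf _).2 hzero)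
  exact hPprime.ne_top ((Ideal.eq_top_iff_one _).2 (by
    rw [hz, Submodule.mem_colon_singleton, this, smul_zero]; exact zero_mem _))

end Groth.Agent.Lib.LCFin.CdDualizing
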