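import Groth.Agent.Lib.LCFin.HLVT2
import Groth.Agent.Lib.LocalCoh.MayerVietoris

/-!
Connectedness in small codimension over complete local domains.
-/

universe u

open CategoryTheory
open scoped Pointwise
open Groth.Agent.Lib.LocalCoh Groth.Agent.Lib.LCFin.Seq Groth.Agent.Lib.LCFin.Cd

namespace Groth.Agent.Lib.LCFin.Connected

variable {R : Type u} [CommRing R] [IsNoetherianRing R]

/-- Cohomological dimension only depends on the closed set. -/
theorem cdLE_congr {I J : Ideal R} (hle : I ≤ J)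
    (h : ∀ q : Ideal R, q.IsPrime → I ≤ q → J ≤ q) (k : ℕ) :
    LocCoh.CdLE R I k ↔ LocCoh.CdLE R J k := by
  have hbij : ∀ (M : Type u) [AddCommGroup M] [Module R M] (i : ℕ),
      Function.Bijective ((Dual2.HmapOfLE hle i).app (ModuleCat.of R M)).hom := fun M _ _ i => by
    obtain ⟨h1, h2⟩ := HmapOfLE_surjective_injective_of_local M i I J hle
    exact ⟨h2 fun p hp hp' => absurd (h _ p.2 hp) hp', h1 fun p hp hp' => absurd (h _ p.2 hp) hp'⟩
  constructor
  · intro hI M _ _ i hi
    have := hI M i hi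
    exact (hbij M i).1.subsingleton
  · intro hJ M _ _ i hi
    have := hJ M i hi
    exact (hbij M i).2.subsingleton

variable [IsLocalRing R]

omit [IsNoetherianRing R] in
theorem exists_dim_eq [IsNoetherianRing R] (a : Ideal R) (ha : a ≠ ⊤) :
    ∃ k : ℕ, ringKrullDim (R ⧸ a) = k := by
  have : Nontrivial (R ⧸ a) := Ideal.Quotient.nontrivial_iff.2 ha
  obtain ⟨k, hk⟩ := Depth.CM.supportDim_eq_nat (R := R) (R ⧸ a)
  exact ⟨k, (Module.supportDim_quotient_eq_ringKrullDim a).symm.trans hk⟩

/-- Cutting by one element drops the dimension by at most one. -/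
theorem dim_le_succ (a : Ideal R) {y : R} (hy : y ∈ IsLocalRing.maximalIdeal R) :
    ringKrullDim (R ⧸ a) ≤ ringKrullDim (R ⧸ a ⊔ Ideal.span {y}) + 1 := by
  rw [← Module.supportDim_quotient_eq_ringKrullDim, ← Module.supportDim_quotient_eq_ringKrullDim]
  refine (Module.supportDim_le_supportDim_quotSMulTop_succ hy).trans ?_
  gcongr
  refine CanonBasic.supportDim_le_of_annihilator_le ?_
  rw [Ideal.annihilator_quotient]
  refine sup_le (fun r hr => ?_) ((Ideal.span_singleton_le_iff_mem _).2 ?_)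
  · rw [Module.mem_annihilator]
    intro z
    obtain ⟨z, rfl⟩ := Submodule.Quotient.mk_surjective _ z
    obtain ⟨z, rfl⟩ := Ideal.Quotient.mk_surjective z
    rw [← Submodule.Quotient.mk_smul, show r • Ideal.Quotient.mk a z = 0 from
      Ideal.Quotient.eq_zero_iff_mem.2 (Ideal.mul_mem_right z a hr), Submodule.Quotient.mk_zero]
  · rw [Module.mem_annihilator]
    intro z
    obtain ⟨z, rfl⟩ := Submodule.Quotient.mk_surjective _ z
    rw [← Submodule.Quotient.mk_smul, Submodule.Quotient.mk_eq_zero]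
    exact Submodule.smul_mem_pointwise_smul z y _ Submodule.mem_top

/-- An element cutting down the dimension. -/
theorem exists_dim_drop (c : Ideal R) (hc : c ≠ ⊤) {d : ℕ}
    (hd : ringKrullDim (R ⧸ c) = (d + 1 : ℕ)) :
    ∃ y ∈ IsLocalRing.maximalIdeal R, ringKrullDim (R ⧸ c ⊔ Ideal.span {y}) ≤ d := by
  classical
  have hfin := Ideal.finite_minimalPrimes_of_isNoetherianRing R c
  obtain ⟨y, hy, hyp⟩ : ∃ y ∈ IsLocalRing.maximalIdeal R, ∀ p ∈ c.minimalPrimes, y ∉ p := by
    by_contra hh
    push Not at hh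
    obtain ⟨p, hp, hmp⟩ : ∃ p ∈ hfin.toFinset, IsLocalRing.maximalIdeal R ≤ p := by
      refine (Ideal.subset_union_prime (f := id) (IsLocalRing.maximalIdeal R)
        (IsLocalRing.maximalIdeal R) fun q hq _ _ => (hfin.mem_toFinset.1 hq).1.1).1 ?_
      intro x hx
      obtain ⟨q, hq, hxq⟩ := hh x hx
      exact Set.mem_biUnion (hfin.mem_toFinset.2 hq) hxq
    have hp' := hfin.mem_toFinset.1 hp
    have h0 : ringKrullDim (R ⧸ c) ≤ 0 := by
      rw [ringKrullDim_quotient]
      refine Order.krullDim_nonpos_iff_forall_isMax.2 ?_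
      rintro ⟨⟨s, hs⟩, hsc⟩ ⟨⟨t, ht⟩, htc⟩ hst
      show t ≤ s
      exact (IsLocalRing.le_maximalIdeal ht.ne_top).trans
        (hmp.trans (hp'.2 ⟨hs, hsc⟩ ((IsLocalRing.le_maximalIdeal hs.ne_top).trans hmp)))
    rw [hd] at h0
    exact absurd h0 (not_le.2 (by exact_mod_cast d.succ_pos))
  refine ⟨y, hy, ?_⟩
  rw [← Module.supportDim_quotient_eq_ringKrullDim]
  refine CanonBasic.supportDim_le_of_primes fun q hq hann => ?_
  rw [Ideal.annihilator_quotient] at hann
  obtain ⟨p, hp, hpq⟩ := Ideal.exists_minimalPrimes_le (le_sup_left.trans hann)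
  have := hp.1.1
  have hlt : p < q := lt_of_le_of_ne hpq fun h =>
    hyp p hp (h ▸ hann (Ideal.mem_sup_right (Ideal.mem_span_singleton_self y)))
  have h1 := (Depth.Assoc.ringKrullDim_quotient_add_one_le_of_lt hlt).trans
    (ringKrullDim_le_of_surjective (Ideal.Quotient.factor hp.1.2) (Ideal.Quotient.factor_surjective _))
  obtain ⟨l, hl⟩ := exists_dim_eq q hq.ne_top
  rw [hl, hd] at h1
  rw [hl]
  have : l + 1 ≤ d + 1 := by exact_mod_cast h1
  exact_mod_cast (show l ≤ d by omega)

/-- Faltings' connectedness theorem. -/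
theorem le_cd_add [IsDomain R] [IsAdicComplete (IsLocalRing.maximalIdeal R) R] {n : ℕ}
    (hn : ringKrullDim R = n) :
    ∀ (d : ℕ) (a b : Ideal R), a ⊔ b ≠ ⊤ → ringKrullDim (R ⧸ a ⊔ b) ≤ d →
      ringKrullDim (R ⧸ a ⊔ b) < ringKrullDim (R ⧸ a) →
      ringKrullDim (R ⧸ a ⊔ b) < ringKrullDim (R ⧸ b) →
      ∀ k : ℕ, LocCoh.CdLE R (a ⊓ b) k → ∀ d' : ℕ, ringKrullDim (R ⧸ a ⊔ b) = d' →
      n ≤ k + d' + 1 := by
  intro d
  induction d using Nat.strong_induction_on with
  | _ d ih =>
    intro a b hab hd hda hdb k hk d' hd'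
    obtain ⟨na, hna⟩ := exists_dim_eq a fun h => hab (by rw [h, top_sup_eq])
    obtain ⟨nb, hnb⟩ := exists_dim_eq b fun h => hab (by rw [h, sup_top_eq])
    rw [hd', hna] at hda
    rw [hd', hnb] at hdb
    have ha : d' < na := by exact_mod_cast hda
    have hb : d' < nb := by exact_mod_cast hdb
    cases d' with
    | zero =>
      have hm : (a ⊔ b).radical = IsLocalRing.maximalIdeal R := by
        rw [Ideal.radical_eq_sInf]
        refine le_antisymm (sInf_le ⟨IsLocalRing.le_maximalIdeal hab, inferInstance⟩) (le_sInf ?_)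
        rintro q ⟨hq, hprime⟩
        by_contra hne
        have h1 := (Depth.Assoc.ringKrullDim_quotient_add_one_le_of_lt (lt_of_le_not_ge
          (IsLocalRing.le_maximalIdeal hprime.ne_top) hne)).trans
          (ringKrullDim_le_of_surjective (Ideal.Quotient.factor hq)
            (Ideal.Quotient.factor_surjective _))
        let : Field (R ⧸ IsLocalRing.maximalIdeal R) := Ideal.Quotient.field _
        rw [ringKrullDim_eq_zero_of_field, hd'] at h1
        exact absurd h1 (by decide)
      have hnt := Top.not_cdLE_of_radical_eq (a ⊔ b) hm n hn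
      have hna' := HLVT.subsingleton_domain hn a (by rw [hna]; exact_mod_cast ha)
      have hnb' := HLVT.subsingleton_domain hn b (by rw [hnb]; exact_mod_cast hb)
      obtain ⟨e, rfl⟩ : ∃ e, n = e + 1 := by
        refine Nat.exists_eq_succ_of_ne_zero ?_
        rintro rfl
        have := ringKrullDim_le_of_surjective (Ideal.Quotient.mk a) Ideal.Quotient.mk_surjective
        rw [hna, hn] at this
        have : na ≤ 0 := by exact_mod_cast this
        omega
      obtain ⟨δ, -, hker, -, -⟩ := exists_lc_mayerVietoris a b (ModuleCat.of R R)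
      by_contra hc
      have hsub : Subsingleton (LocCoh.H (a ⊓ b) e R) := hk R e (by omega)
      refine not_subsingleton_iff_nontrivial.2 hnt (subsingleton_of_forall_eq 0 fun z => ?_)
      have hz : z ∈ LinearMap.range (δ e) := by
        rw [← hker e, LinearMap.mem_ker]
        exact Prod.ext (hna'.elim _ _) (hnb'.elim _ _)
      obtain ⟨w, rfl⟩ := hz
      rw [hsub.elim w 0, map_zero]
    | succ d' =>
      obtain ⟨y, hy, hyd⟩ := exists_dim_drop (a ⊔ b) hab hd'
      have hd'd : d' + 1 ≤ d := by rw [hd'] at hd; exact_mod_cast hd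
      have e1 : (a ⊔ Ideal.span {y}) ⊔ (b ⊔ Ideal.span {y}) = a ⊔ b ⊔ Ideal.span {y} := by
        rw [sup_sup_sup_comm, sup_idem]
      have hne : a ⊔ b ⊔ Ideal.span {y} ≠ ⊤ := fun h => (IsLocalRing.maximalIdeal.isMaximal R).ne_top
        (top_le_iff.1 (h ▸ sup_le (IsLocalRing.le_maximalIdeal hab)
          ((Ideal.span_singleton_le_iff_mem _).2 hy)))
      obtain ⟨d'', hd''⟩ := exists_dim_eq _ hne
      have hd''le : d'' ≤ d' := by rw [hd''] at hyd; exact_mod_cast hyd
      have hlt : ∀ (c : Ideal R) (nc : ℕ), ringKrullDim (R ⧸ c) = nc → d' + 1 < nc →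
          ringKrullDim (R ⧸ a ⊔ b ⊔ Ideal.span {y}) < ringKrullDim (R ⧸ c ⊔ Ideal.span {y}) := by
        intro c nc hnc hlt
        have h := dim_le_succ c hy
        rw [hnc] at h
        rw [hd'']
        by_contra hc
        rw [not_lt] at hc
        have h' : (nc : WithBot ℕ∞) ≤ (d'' : WithBot ℕ∞) + 1 := h.trans (by gcongr)
        have : nc ≤ d'' + 1 := by exact_mod_cast h'
        omega
      have hcd : LocCoh.CdLE R ((a ⊔ Ideal.span {y}) ⊓ (b ⊔ Ideal.span {y})) (k + 1) := by
        refine (cdLE_congr (le_inf (sup_le_sup_right inf_le_left _) (sup_le_sup_right inf_le_right _))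
          (fun q hq hle => ?_) (k + 1)).1 (cdLE_sup_span_singleton hk y)
        rcases hq.inf_le.1 (le_sup_left.trans hle) with h | h
        · exact inf_le_left.trans (sup_le h (le_sup_right.trans hle))
        · exact inf_le_right.trans (sup_le h (le_sup_right.trans hle))
      have := ih d' (by omega) (a ⊔ Ideal.span {y}) (b ⊔ Ideal.span {y}) (by rw [e1]; exact hne)
        (by rw [e1, hd'']; exact_mod_cast hd''le)
        (by rw [e1]; exact hlt a na hna ha) (by rw [e1]; exact hlt b nb hnb hb)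
        (k + 1) hcd d'' (by rw [e1]; exact hd'')
      omega

end Groth.Agent.Lib.LCFin.Connected
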