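import Groth.Agent.Lib.Depth.CM
import Groth.Agent.Lib.Depth.Local

/-!
Semicontinuity of depth.
-/

universe u

open IsLocalRing RingTheory.Sequence LocCoh
open Groth.Agent.Lib.Depth

namespace Groth.Agent.Lib.LCFin.DepthSemicont

variable {R : Type u} [CommRing R] [IsNoetherianRing R] (I p : Ideal R) [p.IsPrime]

theorem regular_localized {M : Type u} [AddCommGroup M] [Module R M] [Module.Finite R M] {x : R}
    (q : Ideal R) [q.IsPrime] (h : ∀ Q ∈ associatedPrimes R M, Q ≤ q → x ∉ Q) :
    IsSMulRegular (LocalizedModule q.primeCompl M) (algebraMap R (Localization.AtPrime q) x) := by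
  let S := Localization.AtPrime q
  let ψ := LocalizedModule.mkLinearMap q.primeCompl M
  have := Module.Finite.of_isLocalizedModule q.primeCompl (Rₚ := S) ψ
  by_contra hc
  have hmem : algebraMap R S x ∈ ⋃ P ∈ associatedPrimes S (LocalizedModule q.primeCompl M), (P : Set S) := by
    rw [biUnion_associatedPrimes_eq_compl_regular]
    exact hc
  obtain ⟨P, hP, hxP⟩ := Set.mem_iUnion₂.mp hmem
  have := hP
  rw [← Module.associatedPrimes.preimage_comap_associatedPrimes_eq_associatedPrimes_of_isLocalizedModule
    q.primeCompl S ψ, Set.mem_preimage] at this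
  refine h _ this ?_ hxP
  have hne : P ≠ ⊤ := (IsAssociatedPrime.isPrime hP).ne_top
  calc P.comap (algebraMap R S) ≤ (maximalIdeal S).comap (algebraMap R S) :=
        Ideal.comap_mono (le_maximalIdeal hne)
    _ = q := IsLocalization.AtPrime.under_maximalIdeal S q

theorem exists_open (hIp : I ≤ p) : ∀ (e : ℕ) (M : Type u) [AddCommGroup M] [Module R M]
    [Module.Finite R M], (e : ℕ∞) ≤ idealDepth (I.map (algebraMap R (Localization.AtPrime p)))
      (LocalizedModule p.primeCompl M) →
    ∃ f : R, f ∉ p ∧ ∃ F : Set (Ideal R), F.Finite ∧ ∀ (q : Ideal R) [q.IsPrime], f ∉ q → I ≤ q →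
      (e : ℕ∞) ≤ idealDepth (I.map (algebraMap R (Localization.AtPrime q)))
        (LocalizedModule q.primeCompl M) ∧
      (depth (Localization.AtPrime q) (LocalizedModule q.primeCompl M) = e → q ∈ F) := by
  intro e
  induction e with
  | zero =>
    intro M _ _ _ _
    refine ⟨1, p.one_notMem, associatedPrimes R M, associatedPrimes.finite R M, fun q hq _ _ =>
      ⟨by simp, fun h0 => ?_⟩⟩
    let S := Localization.AtPrime q
    let ψ := LocalizedModule.mkLinearMap q.primeCompl M
    have := Module.Finite.of_isLocalizedModule q.primeCompl (Rₚ := S) ψ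
    have : Nontrivial (LocalizedModule q.primeCompl M) := by
      by_contra hn
      rw [not_nontrivial_iff_subsingleton] at hn
      rw [LocCoh.depth, Basic.idealDepth_subsingleton] at h0
      exact ENat.top_ne_natCast _ h0
    have hm := (Assoc.depth_eq_zero_iff (R := S) (M := LocalizedModule q.primeCompl M)).mp (show depth S (LocalizedModule q.primeCompl M) = 0 by
      simpa using h0)
    rw [← Module.associatedPrimes.preimage_comap_associatedPrimes_eq_associatedPrimes_of_isLocalizedModule
      q.primeCompl S ψ, Set.mem_preimage] at hm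
    rwa [show (maximalIdeal S).comap (algebraMap R S) = q from
      IsLocalization.AtPrime.under_maximalIdeal S q] at hm
  | succ e ih =>
    intro M _ _ _ he
    classical
    have hfin := associatedPrimes.finite R M
    set A := hfin.toFinset.filter fun Q => ¬ Q ≤ p
    obtain ⟨f₀, hf₀A, hf₀⟩ := SetLike.not_le_iff_exists.mp
      (show ¬ A.inf id ≤ p from fun hle => by
        obtain ⟨Q, hQ, hle'⟩ := (Ideal.IsPrime.inf_le' ‹p.IsPrime›).mp hle
        exact (Finset.mem_filter.mp hQ).2 hle')
    let S := Localization.AtPrime p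
    let ψ := LocalizedModule.mkLinearMap p.primeCompl M
    have := Module.Finite.of_isLocalizedModule p.primeCompl (Rₚ := S) ψ
    have hT : ∀ Q ∈ associatedPrimes R M, Q ≤ p → ¬ I ≤ Q := fun Q hQ hQp hIQ => by
      have hQ' : Q.IsPrime := IsAssociatedPrime.isPrime hQ
      let P : Ideal S := Q.map (algebraMap R S)
      have hd : Disjoint (p.primeCompl : Set R) (Q : Set R) :=
        Set.disjoint_left.mpr fun a ha ha' => ha (hQp ha')
      have hP : P ∈ associatedPrimes S (LocalizedModule p.primeCompl M) := by
        rw [← Module.associatedPrimes.preimage_comap_associatedPrimes_eq_associatedPrimes_of_isLocalizedModule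
          p.primeCompl S ψ, Set.mem_preimage]
        rwa [show P.comap (algebraMap R S) = Q from
          IsLocalization.comap_map_of_isPrime_disjoint p.primeCompl S hQ' hd]
      have hnt : Nontrivial (LocalizedModule p.primeCompl M) := by
        by_contra hn
        rw [not_nontrivial_iff_subsingleton] at hn
        exact Set.notMem_empty P (associatedPrimes.eq_empty_of_subsingleton (R := S)
          (M := LocalizedModule p.primeCompl M) ▸ hP)
      have hne : I.map (algebraMap R S) ≠ ⊤ := fun h => by
        have := (Ideal.map_mono (f := algebraMap R S) hIp)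
        rw [h, top_le_iff, Localization.AtPrime.map_eq_maximalIdeal] at this
        exact Ideal.IsPrime.ne_top' this
      have h0 := (Assoc.idealDepth_eq_zero_iff _ _
        (Basic.smul_top_ne_top (M := LocalizedModule p.primeCompl M) hne)).mpr
        ⟨P, hP, Ideal.map_mono hIQ⟩
      rw [h0] at he
      simp at he
    obtain ⟨x, hxI, hx⟩ : ∃ x ∈ I, ∀ Q ∈ associatedPrimes R M, Q ≤ p → x ∉ Q := by
      by_contra hc
      push Not at hc
      have hsub : (I : Set R) ⊆ ⋃ Q ∈ ({Q ∈ associatedPrimes R M | Q ≤ p} : Set (Ideal R)), (Q : Set R) :=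
        fun x hx => by
          obtain ⟨Q, hQ, hQp, hxQ⟩ := hc x hx
          exact Set.mem_biUnion (x := Q) ⟨hQ, hQp⟩ hxQ
      obtain ⟨Q, hQ, hle⟩ := (Ideal.subset_union_prime_finite
        (hfin.subset fun Q hQ => hQ.1) ⊥ ⊥
        fun Q hQ _ _ => IsAssociatedPrime.isPrime hQ.1).mp hsub
      exact hT Q hQ.1 hQ.2 hle
    have hreg : ∀ (q : Ideal R) [q.IsPrime], f₀ ∉ q →
        IsSMulRegular (LocalizedModule q.primeCompl M) (algebraMap R (Localization.AtPrime q) x) :=
      fun q _ hq => regular_localized q fun Q hQ hQq => hx Q hQ (by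
        by_contra hQp
        exact hq (hQq ((Finset.inf_le (s := A) (f := id) (b := Q)
          (Finset.mem_filter.mpr ⟨hfin.mem_toFinset.mpr hQ, hQp⟩)) hf₀A)))
    have he' := (SES.succ_le_idealDepth_iff (I.map (algebraMap R S))
      (Ideal.mem_map_of_mem _ hxI) (hreg p hf₀) e).mp he
    rw [← Basic.idealDepth_congr _ (CM.quotSMulTopLocalizedEquiv p M x)] at he'
    obtain ⟨f, hf, F, hF, hFq⟩ := ih (QuotSMulTop x M) he'
    refine ⟨f₀ * f, fun h => (Ideal.IsPrime.mem_or_mem ‹p.IsPrime› h).elim hf₀ hf, F, hF,
      fun q hq hfq hIq => ?_⟩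
    have h₀ : f₀ ∉ q := fun h => hfq (q.mul_mem_right f h)
    obtain ⟨h1, h2⟩ := hFq q (fun h => hfq (q.mul_mem_left f₀ h)) hIq
    have := Module.Finite.of_isLocalizedModule q.primeCompl (Rₚ := Localization.AtPrime q)
      (LocalizedModule.mkLinearMap q.primeCompl M)
    constructor
    · rw [SES.succ_le_idealDepth_iff _ (Ideal.mem_map_of_mem _ hxI) (hreg q h₀) e,
        ← Basic.idealDepth_congr _ (CM.quotSMulTopLocalizedEquiv q M x)]
      exact h1
    · intro hd
      refine h2 ?_
      have hxm : algebraMap R (Localization.AtPrime q) x ∈ maximalIdeal (Localization.AtPrime q) :=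
        (IsLocalization.AtPrime.to_map_mem_maximal_iff (Localization.AtPrime q) q x).2 (hIq hxI)
      have := SES.idealDepth_quotSMulTop (maximalIdeal (Localization.AtPrime q)) hxm (hreg q h₀)
      rw [Basic.depth_congr (CM.quotSMulTopLocalizedEquiv q M x)]
      rw [LocCoh.depth] at hd ⊢
      rw [hd, Nat.cast_succ] at this
      exact le_antisymm ((ENat.add_le_add_iff_right ENat.one_ne_top).mp this.le)
        ((ENat.add_le_add_iff_right ENat.one_ne_top).mp this.ge)

end Groth.Agent.Lib.LCFin.DepthSemicont
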