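import Groth.Prelude.Def_DerCA
import Mathlib.RingTheory.Artinian.Module
import Mathlib.Algebra.Category.ModuleCat.Basic

/-!
An inverse system of Artinian modules with Artinian limit is essentially constant.
-/

universe u

open CategoryTheory Opposite

namespace Groth.Agent.Lib.LCFin.EssConst

variable {R : Type u} [CommRing R] (X : ℕᵒᵖ ⥤ ModuleCat.{u} R)

/-- The transition map. -/
noncomputable def tm {n m : ℕ} (h : n ≤ m) : X.obj (op m) →ₗ[R] X.obj (op n) :=
  (X.map (homOfLE h).op).hom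

theorem tm_comp {n m l : ℕ} (h : n ≤ m) (h' : m ≤ l) (x : X.obj (op l)) :
    tm X h (tm X h' x) = tm X (h.trans h') x := by
  show (X.map (homOfLE h').op ≫ X.map (homOfLE h).op).hom x = _
  rw [← X.map_comp]
  rfl

theorem tm_self {n : ℕ} (x : X.obj (op n)) : tm X (le_refl n) x = x := by
  show (X.map (𝟙 (op n))).hom x = x
  rw [X.map_id]
  rfl

theorem isEssConstant [∀ n : ℕ, IsArtinian R (X.obj (op n))] {A : ModuleCat.{u} R} [IsArtinian R A]
    (c : (Functor.const ℕᵒᵖ).obj A ⟶ X)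
    (hinj : ∀ a : A, (∀ n : ℕ, (c.app (op n)).hom a = 0) → a = 0)
    (hsurj : ∀ y : ∀ n : ℕ, X.obj (op n), (∀ (n m : ℕ) (h : n ≤ m), tm X h (y m) = y n) →
      ∃ a : A, ∀ n : ℕ, (c.app (op n)).hom a = y n) :
    DerCA.IsEssConstant X A c := by
  classical
  have hc : ∀ {n m : ℕ} (h : n ≤ m) (a : A),
      tm X h ((c.app (op m)).hom a) = (c.app (op n)).hom a := fun {n m} h a => by
    show (c.app (op m) ≫ X.map (homOfLE h).op).hom a = _
    rw [← c.naturality]
    rfl
  -- some level detects everything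
  obtain ⟨i₀, hi₀⟩ : ∃ i₀, Function.Injective (c.app (op i₀)).hom := by
    obtain ⟨N, hN⟩ := IsArtinian.monotone_stabilizes (R := R) (M := A)
      ⟨fun n => OrderDual.toDual (LinearMap.ker (c.app (op n)).hom), fun n m h a ha => by
        change (c.app (op m)).hom a = 0 at ha
        show (c.app (op n)).hom a = 0
        rw [← hc h a, ha, map_zero]⟩
    refine ⟨N, (injective_iff_map_eq_zero _).mpr fun a ha => hinj a fun n => ?_⟩
    rcases le_total n N with h | h
    · rw [← hc h a, ha, map_zero]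
    · have : a ∈ LinearMap.ker (c.app (op n)).hom := by
        have h' : LinearMap.ker (c.app (op N)).hom = LinearMap.ker (c.app (op n)).hom :=
          OrderDual.toDual.injective (hN n h)
        rw [← h']; exact ha
      exact this
  -- images stabilise
  have hstab : ∀ n : ℕ, ∃ g : ℕ, ∃ hg : n ≤ g, ∀ (k : ℕ) (hk : g ≤ k),
      LinearMap.range (tm X hg) ≤ LinearMap.range (tm X (hg.trans hk)) := fun n => by
    obtain ⟨N, hN⟩ := IsArtinian.monotone_stabilizes (R := R) (M := X.obj (op n))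
      ⟨fun j => OrderDual.toDual (LinearMap.range (tm X (Nat.le_add_right n j))), fun j j' h x hx => by
        obtain ⟨y, rfl⟩ := hx
        exact ⟨tm X (Nat.add_le_add_left h n) y, tm_comp X _ _ y⟩⟩
    refine ⟨n + N, Nat.le_add_right n N, fun k hk => ?_⟩
    obtain ⟨j, rfl⟩ : ∃ j, k = n + j := ⟨k - n, by omega⟩
    exact (OrderDual.toDual.injective (hN j (by omega))).le
  choose g hg hstab using hstab
  -- stable elements
  let P : ∀ n : ℕ, X.obj (op n) → Prop := fun n x => ∀ (k : ℕ) (h : n ≤ k), x ∈ LinearMap.range (tm X h)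
  have hP : ∀ (n k : ℕ) (hk : g n ≤ k) (y : X.obj (op k)), P n (tm X ((hg n).trans hk) y) := by
    intro n k hk y l hl
    have h1 : tm X ((hg n).trans hk) y ∈ LinearMap.range (tm X (hg n)) :=
      ⟨tm X hk y, tm_comp X _ _ y⟩
    obtain ⟨z, hz⟩ := hstab n (max (g n) l) (le_max_left _ _) h1
    exact ⟨tm X (le_max_right (g n) l) z, (tm_comp X _ _ z).trans hz⟩
  have hlift : ∀ (n : ℕ) (x : X.obj (op n)), P n x →
      ∃ y : X.obj (op (n + 1)), P (n + 1) y ∧ tm X (Nat.le_succ n) y = x := by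
    intro n x hx
    obtain ⟨z, hz⟩ := hx (g (n + 1)) ((Nat.le_succ n).trans (hg (n + 1)))
    exact ⟨tm X (hg (n + 1)) z, hP (n + 1) (g (n + 1)) le_rfl z, (tm_comp X _ _ z).trans hz⟩
  have hrange : ∀ (n : ℕ) (x : X.obj (op n)), P n x → ∃ a : A, (c.app (op n)).hom a = x := by
    intro n x hx
    choose L hL1 hL2 using hlift
    let seq : ∀ j : ℕ, {y : X.obj (op (n + j)) // P (n + j) y} :=
      fun j => Nat.rec (motive := fun j => {y : X.obj (op (n + j)) // P (n + j) y}) ⟨x, hx⟩
        (fun j y => ⟨L (n + j) y.1 y.2, hL1 (n + j) y.1 y.2⟩) j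
    have hseq : ∀ j j' (h : j ≤ j'), tm X (Nat.add_le_add_left h n) (seq j').1 = (seq j).1 := by
      intro j j' h
      induction h with
      | refl => exact tm_self X _
      | @step j' h ih =>
        rw [← ih, ← tm_comp X (Nat.add_le_add_left h n) (Nat.le_succ (n + j'))]
        exact congrArg _ (hL2 (n + j') (seq j').1 (seq j').2)
    obtain ⟨a, ha⟩ := hsurj (fun l => tm X (Nat.le_add_left l n) (seq l).1) (fun l m h => by
      rw [tm_comp, ← hseq l m h, tm_comp])
    refine ⟨a, (ha n).trans ?_⟩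
    have := hseq 0 n (Nat.zero_le n)
    exact this
  -- the splitting
  have hmem : ∀ y : X.obj (op (g i₀)), tm X (hg i₀) y ∈ LinearMap.range (c.app (op i₀)).hom :=
    fun y => hrange i₀ _ (hP i₀ (g i₀) le_rfl y)
  let e := LinearEquiv.ofInjective (c.app (op i₀)).hom hi₀
  let s : X.obj (op (g i₀)) →ₗ[R] A := e.symm.toLinearMap ∘ₗ (tm X (hg i₀)).codRestrict _ hmem
  have hs : ∀ y, (c.app (op i₀)).hom (s y) = tm X (hg i₀) y := fun y =>
    congrArg Subtype.val (e.apply_symm_apply ⟨_, hmem y⟩)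
  refine ⟨g i₀, ModuleCat.ofHom s, ModuleCat.hom_ext (LinearMap.ext fun a => hi₀ ?_), fun j => ?_⟩
  · show (c.app (op i₀)).hom (s ((c.app (op (g i₀))).hom a)) = (c.app (op i₀)).hom a
    rw [hs, hc]
  · set l := max (g i₀) j
    have h1 : g i₀ ≤ g l := (le_max_left _ _).trans (hg l)
    have h2 : j ≤ g l := (le_max_right _ _).trans (hg l)
    refine ⟨g l, h1, h2, ModuleCat.hom_ext (LinearMap.ext fun y => ?_)⟩
    show tm X h2 y = (c.app (op j)).hom (s (tm X h1 y))
    obtain ⟨a, ha⟩ := hrange l _ (hP l (g l) le_rfl y)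
    have ha' : s (tm X h1 y) = a := hi₀ (by
      rw [hs, tm_comp, ← hc ((hg i₀).trans (le_max_left _ _)) a, ha, tm_comp])
    rw [ha', ← hc (le_max_right _ _) a, ha, tm_comp]

end Groth.Agent.Lib.LCFin.EssConst
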