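import Groth.Agent.Lib.LocalCoh.ExtCompare
import Groth.Agent.Lib.LocalCoh.MayerVietoris
import Groth.Agent.Lib.LocalCoh.Torsion
import Mathlib.CategoryTheory.Abelian.Injective.Ext
import Mathlib.Algebra.Homology.ShortComplex.ModuleCat
import Mathlib.RingTheory.Support

/-!
`Ext^n(F, G) ≅ Hom(F, H^n_J(G))` for modules supported in `V(J)` under vanishing one degree below.
-/

set_option autoImplicit false
universe u

open CategoryTheory CategoryTheory.Limits Opposite

namespace Groth.Agent.Lib.LCFin.ExtHom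

/-- Cocycles of maps out of a module. -/
def Zh {R : Type u} [CommRing R] {C C' : Type u} [AddCommGroup C] [Module R C] [AddCommGroup C'] [Module R C']
    (F : Type u) [AddCommGroup F] [Module R F] (d : C →ₗ[R] C') : Submodule R (F →ₗ[R] C) :=
  LinearMap.ker (LinearMap.llcomp (σ₁₂ := RingHom.id R) R F C C' d)

/-- Coboundaries of maps out of a module. -/
def Bh {R : Type u} [CommRing R] {C C' : Type u} [AddCommGroup C] [Module R C] [AddCommGroup C'] [Module R C']
    (F : Type u) [AddCommGroup F] [Module R F] (d : C →ₗ[R] C') : Submodule R (F →ₗ[R] C') :=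
  LinearMap.range (LinearMap.llcomp (σ₁₂ := RingHom.id R) R F C C' d)

section Alg

variable {R : Type u} [CommRing R] [IsNoetherianRing R] (J : Ideal R)

/-- Finitely generated submodules of a relation that is total on a finite module. -/
theorem exists_cover {F M : Type u} [AddCommGroup F] [Module R F] [Module.Finite R F] [AddCommGroup M]
    [Module R M] (hF : J ≤ (Module.annihilator R F).radical) (hM : LocCoh.IsPowerTorsion J M)
    (C : Submodule R (F × M)) (hC : ∀ x, ∃ m, (x, m) ∈ C) :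
    ∃ (P : Type u) (_ : AddCommGroup P) (_ : Module R P) (_ : Module.Finite R P) (π : P →ₗ[R] F) (h : P →ₗ[R] M),
      J ≤ (Module.annihilator R P).radical ∧ Function.Surjective π ∧ ∀ x, (π x, h x) ∈ C := by
  classical
  obtain ⟨s, hs⟩ := Module.finite_def.1 (inferInstance : Module.Finite R F)
  choose w hw using hC
  let t : Finset (F × M) := s.image fun x => (x, w x)
  let P : Submodule R (F × M) := Submodule.span R (t : Set (F × M))
  haveI hfin : Module.Finite R P := Module.Finite.iff_fg.2 (Submodule.fg_span t.finite_toSet)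
  have hPC : P ≤ C := Submodule.span_le.2 fun x hx => by
    obtain ⟨y, -, rfl⟩ := Finset.mem_image.1 hx
    exact hw y
  refine ⟨P, inferInstance, inferInstance, hfin, LinearMap.fst R F M ∘ₗ P.subtype,
    LinearMap.snd R F M ∘ₗ P.subtype, fun a ha => ?_, ?_, fun x => hPC x.2⟩
  · obtain ⟨k, hk⟩ := Ideal.exists_pow_le_of_le_radical_of_fg hF (IsNoetherian.noetherian J)
    have htors : ∀ x : P, P.subtype x ∈ DRing.torsionSub J (F × M) := fun x => by
      obtain ⟨n, hn⟩ := hM x.1.2
      exact ⟨max k n, fun c hc => Prod.ext (Module.mem_annihilator.1 (hk (Ideal.pow_le_pow_right (le_max_left _ _) hc)) _)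
        (hn c (Ideal.pow_le_pow_right (le_max_right _ _) hc))⟩
    obtain ⟨n, hn⟩ := LocalCoh.exists_pow_smul_eq_zero J P.subtype htors
    exact ⟨n, Module.mem_annihilator.2 fun x => Subtype.ext (hn _ (Ideal.pow_mem_pow ha n) x)⟩
  · rw [← LinearMap.range_eq_top, eq_top_iff, ← hs, Submodule.span_le]
    exact fun x hx => ⟨⟨(x, w x), Submodule.subset_span (Finset.mem_image.2 ⟨x, hx, rfl⟩)⟩, rfl⟩

variable {C1 C0 C' : Type u} [AddCommGroup C1] [Module R C1] [AddCommGroup C0] [Module R C0] [AddCommGroup C']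
  [Module R C'] (d1 : C1 →ₗ[R] C0) (d0 : C0 →ₗ[R] C') (h10 : d0 ∘ₗ d1 = 0) (hinj : Module.Injective R C1)
  (htor : LocCoh.IsPowerTorsion J C0)
  (hlift : ∀ (F : Type u) [AddCommGroup F] [Module R F] [Module.Finite R F],
    J ≤ (Module.annihilator R F).radical → ∀ f : F →ₗ[R] C0, (∀ x, f x ∈ LinearMap.range d1) →
      ∃ g : F →ₗ[R] C1, f = d1 ∘ₗ g)

include hinj htor hlift h10

/-- Maps into the homology are classes of cocycles. -/
theorem nonempty_equiv_hom (F : Type u) [AddCommGroup F] [Module R F] [Module.Finite R F]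
    (hF : J ≤ (Module.annihilator R F).radical) :
    Nonempty ((Zh F d0 ⧸ (Bh F d1).comap (Zh F d0).subtype) ≃ₗ[R]
      (F →ₗ[R] (LinearMap.ker d0 ⧸ (LinearMap.range d1).comap (LinearMap.ker d0).subtype))) := by
  classical
  let Z := LinearMap.ker d0
  let B := (LinearMap.range d1).comap Z.subtype
  let ZF := Zh F d0
  let Φ : ZF →ₗ[R] (F →ₗ[R] Z ⧸ B) :=
    { toFun := fun f => B.mkQ ∘ₗ f.1.codRestrict Z fun x => LinearMap.congr_fun (LinearMap.mem_ker.1 f.2) x
      map_add' := fun f g => LinearMap.ext fun x => rfl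
      map_smul' := fun r f => LinearMap.ext fun x => rfl }
  have hker : LinearMap.ker Φ = (Bh F d1).comap ZF.subtype := by
    ext f
    constructor
    · intro hf
      obtain ⟨g, hg⟩ := hlift F hF f.1 fun x =>
        (Submodule.Quotient.mk_eq_zero B).1 (LinearMap.congr_fun (LinearMap.mem_ker.1 hf) x)
      exact ⟨g, hg.symm⟩
    · rintro ⟨g, hg⟩
      exact LinearMap.ext fun x => (Submodule.Quotient.mk_eq_zero B).2 ⟨g x, LinearMap.congr_fun hg x⟩
  have hsurj : Function.Surjective Φ := by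
    intro φ
    obtain ⟨P, _, _, _, π, hZ, hP, hπ, hPC⟩ := exists_cover J hF (M := Z)
      (fun z => ⟨(htor z.1).choose, fun a ha => Subtype.ext ((htor z.1).choose_spec a ha)⟩)
      (LinearMap.ker (φ ∘ₗ LinearMap.fst R F Z - B.mkQ ∘ₗ LinearMap.snd R F Z))
      (fun x => (Submodule.mkQ_surjective B (φ x)).imp fun z hz => sub_eq_zero.2 hz.symm)
    let h : P →ₗ[R] C0 := Z.subtype ∘ₗ hZ
    have hhZ : ∀ x, h x ∈ Z := fun x => (hZ x).2
    have hφh : φ ∘ₗ π = B.mkQ ∘ₗ h.codRestrict Z hhZ := LinearMap.ext fun x => sub_eq_zero.1 (hPC x)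
    haveI : IsNoetherian R P := isNoetherian_of_isNoetherianRing_of_finite R _
    let K := LinearMap.ker π
    have hK : J ≤ (Module.annihilator R K).radical :=
      hP.trans (Ideal.radical_mono (K.subtype.annihilator_le_of_injective K.injective_subtype))
    obtain ⟨g, hg⟩ := hlift K hK (h ∘ₗ K.subtype) fun x =>
      (Submodule.Quotient.mk_eq_zero B).1 ((LinearMap.congr_fun hφh x.1).symm.trans
        ((congrArg φ (LinearMap.mem_ker.1 x.2)).trans (map_zero φ)))
    obtain ⟨g', hg'⟩ := hinj.out K.subtype K.injective_subtype g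
    let h' := h - d1 ∘ₗ g'
    have hh' : K ≤ LinearMap.ker h' := fun x hx => by
      show h x - d1 (g' x) = 0
      rw [show g' x = g ⟨x, hx⟩ from hg' ⟨x, hx⟩, sub_eq_zero]
      exact LinearMap.congr_fun hg ⟨x, hx⟩
    let f : F →ₗ[R] C0 := K.liftQ h' hh' ∘ₗ (π.quotKerEquivOfSurjective hπ).symm.toLinearMap
    have hf : ∀ x, f (π x) = h' x := fun x => by
      show K.liftQ h' hh' ((π.quotKerEquivOfSurjective hπ).symm (π x)) = h' x
      rw [show (π.quotKerEquivOfSurjective hπ).symm (π x) = Submodule.Quotient.mk x from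
        (LinearEquiv.symm_apply_eq _).2 rfl, Submodule.liftQ_apply]
    refine ⟨⟨f, LinearMap.ext fun y => ?_⟩, LinearMap.ext fun y => ?_⟩
    · obtain ⟨x, rfl⟩ := hπ y
      show d0 (f (π x)) = 0
      rw [hf]
      show d0 (h x - d1 (g' x)) = 0
      rw [map_sub, show d0 (h x) = 0 from hhZ x, show d0 (d1 (g' x)) = 0 from LinearMap.congr_fun h10 _, sub_zero]
    · obtain ⟨x, rfl⟩ := hπ y
      rw [show φ (π x) = B.mkQ (h.codRestrict Z hhZ x) from LinearMap.congr_fun hφh x]
      refine (Submodule.Quotient.eq B).2 ⟨-g' x, ?_⟩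
      show d1 (-g' x) = f (π x) - h x
      rw [hf, map_neg]
      show -d1 (g' x) = h x - d1 (g' x) - h x
      abel
  exact ⟨(Submodule.quotEquivOfEq _ _ hker.symm).trans (Φ.quotKerEquivOfSurjective hsurj)⟩

end Alg

variable {R : Type u} [CommRing R]

section Ext

variable {G : ModuleCat.{u} R} (I : InjectiveResolution G) (F : ModuleCat.{u} R) (n : ℕ)

/-- Cocycles of maps into an injective resolution. -/
noncomputable def cocycles : Submodule R (F →ₗ[R] I.cocomplex.X n) :=
  Zh F (I.cocomplex.d n (n + 1)).hom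

theorem smul_extMk (r : R) (f : F ⟶ I.cocomplex.X n) (hf : f ≫ I.cocomplex.d n (n + 1) = 0) :
    r • I.extMk f (n + 1) rfl hf = I.extMk (r • f) (n + 1) rfl (by rw [Linear.smul_comp, hf, smul_zero]) := by
  have h1 : r • I.extMk f (n + 1) rfl hf =
      (Abelian.Ext.mk₀ (r • 𝟙 F)).comp (I.extMk f (n + 1) rfl hf) (zero_add n) := by
    rw [Abelian.Ext.mk₀_smul, Abelian.Ext.smul_comp, Abelian.Ext.mk₀_id_comp]
  rw [h1, I.mk₀_comp_extMk]
  simp only [Linear.smul_comp, Category.id_comp]

/-- The class of a cocycle. -/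
noncomputable def toExt : cocycles I F n →ₗ[R] Abelian.Ext F G n where
  toFun f := I.extMk (ModuleCat.ofHom f.1) (n + 1) rfl (ModuleCat.hom_ext (LinearMap.mem_ker.1 f.2))
  map_add' f g := (I.add_extMk (ModuleCat.ofHom f.1) (ModuleCat.ofHom g.1) (n + 1) rfl
    (ModuleCat.hom_ext (LinearMap.mem_ker.1 f.2)) (ModuleCat.hom_ext (LinearMap.mem_ker.1 g.2))).symm
  map_smul' r f := (smul_extMk I F n r (ModuleCat.ofHom f.1) (ModuleCat.hom_ext (LinearMap.mem_ker.1 f.2))).symm

theorem toExt_surjective : Function.Surjective (toExt I F n) := fun α => by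
  obtain ⟨f, hf, rfl⟩ := I.extMk_surjective α (n + 1) rfl
  exact ⟨⟨f.hom, congrArg ModuleCat.Hom.hom hf⟩, rfl⟩

theorem toExt_eq_zero_iff (f : cocycles I F n) :
    toExt I F n f = 0 ↔ ∃ g : F →ₗ[R] I.cocomplex.X (n - 1), (I.cocomplex.d (n - 1) n).hom ∘ₗ g = f.1 := by
  cases n with
  | zero =>
    constructor
    · intro h
      change I.extMk (ModuleCat.ofHom f.1) (0 + 1) rfl (ModuleCat.hom_ext (LinearMap.mem_ker.1 f.2)) = 0 at h
      rw [← I.extEquivCohomologyClass.apply_eq_iff_eq, I.extEquivCohomologyClass_extMk,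
        I.extEquivCohomologyClass_zero, CochainComplex.HomComplex.CohomologyClass.mk_eq_zero_iff,
        CochainComplex.HomComplex.Cocycle.fromSingleMk_mem_coboundaries_iff _ _ _ _ _ (-1) (by simp)] at h
      obtain ⟨g, hg⟩ := h
      have hg0 : g = 0 := (I.cochainComplex.isZero_of_isStrictlyGE 0 (-1)).eq_of_tgt _ _
      rw [hg0, zero_comp] at hg
      have : ModuleCat.ofHom f.1 = 0 :=
        (cancel_mono (I.cochainComplexXIso (0 : ℕ) 0 rfl).inv).1 (hg.symm.trans zero_comp.symm)
      exact ⟨0, by rw [LinearMap.comp_zero]; exact (congrArg ModuleCat.Hom.hom this).symm⟩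
    · rintro ⟨g, hg⟩
      have h0 : f = 0 := Subtype.ext (by
        rw [← hg, show (I.cocomplex.d (0 - 1) 0).hom = 0 from
          congrArg ModuleCat.Hom.hom (I.cocomplex.shape _ _ (by simp)), LinearMap.zero_comp]
        rfl)
      rw [h0, map_zero]
  | succ m =>
    show I.extMk (ModuleCat.ofHom f.1) (m + 1 + 1) rfl (ModuleCat.hom_ext (LinearMap.mem_ker.1 f.2)) = 0 ↔ _
    refine (I.extMk_eq_zero_iff (ModuleCat.ofHom f.1) (m + 1 + 1) rfl
      (ModuleCat.hom_ext (LinearMap.mem_ker.1 f.2)) m rfl).trans ⟨?_, ?_⟩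
    · rintro ⟨g, hg⟩
      exact ⟨g.hom, congrArg ModuleCat.Hom.hom hg⟩
    · rintro ⟨g, hg⟩
      exact ⟨ModuleCat.ofHom g, ModuleCat.hom_ext hg⟩

end Ext

variable [IsNoetherianRing R] (J : Ideal R)

/-- `Ext^n(F, G)` is `Hom(F, H^n_J(G))`. -/
theorem main (G : Type u) [AddCommGroup G] [Module R G] (n : ℕ)
    (hvan : ∀ (F : Type u) [AddCommGroup F] [Module R F], Module.Finite R F →
      J ≤ (Module.annihilator R F).radical → ∀ i : ℕ, i + 1 = n →
        Subsingleton (Abelian.Ext (ModuleCat.of R F) (ModuleCat.of R G) i))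
    (F : Type u) [AddCommGroup F] [Module R F] [Module.Finite R F] (hF : J ≤ (Module.annihilator R F).radical) :
    Nonempty (Abelian.Ext (ModuleCat.of R F) (ModuleCat.of R G) n ≃ₗ[R] (F →ₗ[R] LocCoh.H J n G)) := by
  classical
  let I : InjectiveResolution (ModuleCat.of R G) := injectiveResolution (ModuleCat.of R G)
  let T : ∀ j, Submodule R (I.cocomplex.X j) := fun j => DRing.torsionSub J (I.cocomplex.X j)
  have hT : ∀ (j : ℕ) (N : Type u) [AddCommGroup N] [Module R N],
      J ≤ (Module.annihilator R N).radical → ∀ (f : N →ₗ[R] I.cocomplex.X j) (x : N), f x ∈ T j := by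
    intro j N _ _ hN f x
    obtain ⟨k, hk⟩ := Ideal.exists_pow_le_of_le_radical_of_fg hN (IsNoetherian.noetherian J)
    exact ⟨k, fun a ha => by rw [← map_smul, Module.mem_annihilator.1 (hk ha) x, map_zero]⟩
  let dT : ∀ i j, T i →ₗ[R] T j := fun i j =>
    (I.cocomplex.d i j).hom.restrict fun x hx => DRing.map_mem_torsionSub J _ hx
  have hinj : Module.Injective R (T (n - 1)) :=
    haveI : Module.Injective R (I.cocomplex.X (n - 1)) :=
      (Module.injective_iff_injective_object R _).2 (I.injective (n - 1))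
    LocalCoh.injective_torsionSub J _
  have h10 : dT n (n + 1) ∘ₗ dT (n - 1) n = 0 := LinearMap.ext fun x => Subtype.ext
    (ConcreteCategory.congr_hom (I.cocomplex.d_comp_d (n - 1) n (n + 1)) x.1)
  have hlift : ∀ (F : Type u) [AddCommGroup F] [Module R F] [Module.Finite R F],
      J ≤ (Module.annihilator R F).radical → ∀ f : F →ₗ[R] T n, (∀ x, f x ∈ LinearMap.range (dT (n - 1) n)) →
        ∃ g : F →ₗ[R] T (n - 1), f = dT (n - 1) n ∘ₗ g := by
    intro F _ _ _ hF f hf
    cases n with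
    | zero =>
      refine ⟨0, LinearMap.ext fun x => ?_⟩
      obtain ⟨y, hy⟩ := hf x
      rw [← hy]
      refine Subtype.ext ?_
      show (I.cocomplex.d (0 - 1) 0).hom y.1 = (I.cocomplex.d (0 - 1) 0).hom 0
      rw [show (I.cocomplex.d (0 - 1) 0).hom = 0 from congrArg ModuleCat.Hom.hom (I.cocomplex.shape _ _ (by simp))]
      rfl
    | succ m =>
      -- lift on a finite piece of the fibre product
      obtain ⟨P, _, _, _, π, h, hP, hπ, hPC⟩ := exists_cover J hF (M := T m)
        (fun x => ⟨x.2.choose, fun a ha => Subtype.ext (x.2.choose_spec a ha)⟩)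
        (LinearMap.ker (f ∘ₗ LinearMap.fst R F (T m) - dT m (m + 1) ∘ₗ LinearMap.snd R F (T m)))
        (fun x => (hf x).imp fun y hy => sub_eq_zero.2 hy.symm)
      have hfh : f ∘ₗ π = dT m (m + 1) ∘ₗ h := LinearMap.ext fun x => sub_eq_zero.1 (hPC x)
      haveI : IsNoetherian R P := isNoetherian_of_isNoetherianRing_of_finite R _
      let K := LinearMap.ker π
      have hK : J ≤ (Module.annihilator R K).radical :=
        hP.trans (Ideal.radical_mono (K.subtype.annihilator_le_of_injective K.injective_subtype))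
      have hhK : (T m).subtype ∘ₗ h ∘ₗ K.subtype ∈ cocycles I (ModuleCat.of R K) m := LinearMap.ext fun x => by
        have e1 := congrArg Subtype.val (LinearMap.congr_fun hfh x.1)
        simp only [LinearMap.comp_apply, LinearMap.mem_ker.1 x.2, map_zero] at e1
        exact e1.symm
      have := hvan K inferInstance hK m rfl
      obtain ⟨g, hg⟩ := (toExt_eq_zero_iff I (ModuleCat.of R K) m ⟨_, hhK⟩).1 (Subsingleton.elim _ _)
      let gT : K →ₗ[R] T (m - 1) := g.codRestrict _ (hT _ K hK g)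
      obtain ⟨g', hg'⟩ := (show Module.Injective R (T (m - 1)) from
        haveI : Module.Injective R (I.cocomplex.X (m - 1)) :=
          (Module.injective_iff_injective_object R _).2 (I.injective (m - 1))
        LocalCoh.injective_torsionSub J _).out K.subtype K.injective_subtype gT
      let h' := h - dT (m - 1) m ∘ₗ g'
      have hh' : K ≤ LinearMap.ker h' := fun x hx => by
        show h x - dT (m - 1) m (g' x) = 0
        rw [show g' x = gT ⟨x, hx⟩ from hg' ⟨x, hx⟩, sub_eq_zero]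
        exact Subtype.ext (LinearMap.congr_fun hg ⟨x, hx⟩).symm
      refine ⟨K.liftQ h' hh' ∘ₗ (π.quotKerEquivOfSurjective hπ).symm.toLinearMap, LinearMap.ext fun x => ?_⟩
      obtain ⟨x, rfl⟩ := hπ x
      show f (π x) = dT m (m + 1) (K.liftQ h' hh' ((π.quotKerEquivOfSurjective hπ).symm (π x)))
      rw [show (π.quotKerEquivOfSurjective hπ).symm (π x) = Submodule.Quotient.mk x from
        (LinearEquiv.symm_apply_eq _).2 rfl, Submodule.liftQ_apply]
      show f (π x) = dT m (m + 1) (h x - dT (m - 1) m (g' x))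
      rw [map_sub, show dT m (m + 1) (dT (m - 1) m (g' x)) = 0 from Subtype.ext
        (ConcreteCategory.congr_hom (I.cocomplex.d_comp_d (m - 1) m (m + 1)) (g' x).1), sub_zero]
      exact LinearMap.congr_fun hfh x
  obtain ⟨e₁⟩ := nonempty_equiv_hom J (dT (n - 1) n) (dT n (n + 1)) h10 hinj
    (fun x => ⟨x.2.choose, fun a ha => Subtype.ext (x.2.choose_spec a ha)⟩) hlift F hF
  -- the cocycles with torsion values
  let ι : (F →ₗ[R] T n) →ₗ[R] (F →ₗ[R] I.cocomplex.X n) := LinearMap.llcomp R F (T n) (I.cocomplex.X n) (T n).subtype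
  let Ψ : Zh F (dT n (n + 1)) →ₗ[R]
      Abelian.Ext (ModuleCat.of R F) (ModuleCat.of R G) n :=
    toExt I (ModuleCat.of R F) n ∘ₗ (ι ∘ₗ Submodule.subtype _).codRestrict (cocycles I (ModuleCat.of R F) n)
      fun f => LinearMap.ext fun x => congrArg Subtype.val (LinearMap.congr_fun (LinearMap.mem_ker.1 f.2) x)
  have hΨ : Function.Surjective Ψ := fun α => by
    obtain ⟨f, rfl⟩ := toExt_surjective I (ModuleCat.of R F) n α
    exact ⟨⟨f.1.codRestrict _ (hT n F hF f.1),
      LinearMap.ext fun x => Subtype.ext (LinearMap.congr_fun (LinearMap.mem_ker.1 f.2) x)⟩, rfl⟩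
  have hΨk : LinearMap.ker Ψ = (Bh F (dT (n - 1) n)).comap (Submodule.subtype _) := by
    ext f
    refine (toExt_eq_zero_iff I (ModuleCat.of R F) n _).trans ⟨?_, ?_⟩
    · rintro ⟨g, hg⟩
      exact ⟨g.codRestrict _ (hT _ F hF g), LinearMap.ext fun x => Subtype.ext (LinearMap.congr_fun hg x)⟩
    · rintro ⟨g, hg⟩
      exact ⟨(T (n - 1)).subtype ∘ₗ g, LinearMap.ext fun x => congrArg Subtype.val (LinearMap.congr_fun hg x)⟩
  let S := (LocalCoh.gammaCx I J).sc' (n - 1) n (n + 1)
  let e2 : (LinearMap.ker S.g.hom ⧸ (LinearMap.range S.f.hom).comap (LinearMap.ker S.g.hom).subtype) ≃ₗ[R]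
      LocCoh.H J n G :=
    (Submodule.quotEquivOfEq _ (LinearMap.range S.moduleCatToCycles) (by
      ext x
      exact ⟨fun ⟨y, hy⟩ => ⟨y, Subtype.ext hy⟩, fun ⟨y, hy⟩ => ⟨y, congrArg Subtype.val hy⟩⟩)) ≪≫ₗ
    (S.moduleCatHomologyIso.symm ≪≫
      ((LocalCoh.gammaCx I J).homologyIsoSc' (n - 1) n (n + 1) (by cases n <;> simp) (by simp)).symm ≪≫
      LocalCoh.gammaCxIso I J n).toLinearEquiv
  let eH : (LinearMap.ker (dT n (n + 1)) ⧸ (LinearMap.range (dT (n - 1) n)).comap
      (LinearMap.ker (dT n (n + 1))).subtype) ≃ₗ[R] LocCoh.H J n G := e2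
  exact ⟨(Ψ.quotKerEquivOfSurjective hΨ).symm ≪≫ₗ Submodule.quotEquivOfEq _ _ hΨk ≪≫ₗ e₁ ≪≫ₗ
    LinearEquiv.congrRight eH⟩

end Groth.Agent.Lib.LCFin.ExtHom
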