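import Groth.Agent.Lib.LCFin.Top
import Mathlib.RingTheory.LocalRing.Module
import Mathlib.RingTheory.Localization.Integer
import Mathlib.LinearAlgebra.Dual.Lemmas
import Mathlib.RingTheory.LocalRing.ResidueField.Ideal

/-!
Primes with quotient of full dimension.
-/

universe u

open scoped TensorProduct

namespace Groth.Agent.Lib.LCFin.Top2

variable {R : Type u} [CommRing R] (p : Ideal R)

/-- A finite module has a nonzero map to `R ⧸ p` for every prime of its support. -/
theorem exists_hom_ne_zero [p.IsPrime] {M : Type u} [AddCommGroup M] [Module R M] [Module.Finite R M]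
    (hp : (⟨p, ‹_›⟩ : PrimeSpectrum R) ∈ Module.support R M) : ∃ g : M →ₗ[R] R ⧸ p, g ≠ 0 := by
  classical
  let K := p.ResidueField
  have hnt : Nontrivial (K ⊗[R] M) :=
    (Module.mem_support_iff_nontrivial_residueField_tensorProduct ⟨p, ‹_›⟩).1 hp
  obtain ⟨v, hv⟩ := exists_ne (0 : K ⊗[R] M)
  obtain ⟨φ, hφ⟩ : ∃ φ : (K ⊗[R] M) →ₗ[K] K, φ v ≠ 0 := by
    by_contra h
    push Not at h
    exact hv ((Module.forall_dual_apply_eq_zero_iff K v).1 h)
  let ψ : M →ₗ[R] K := (φ.restrictScalars R).comp (TensorProduct.mk R K M 1)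
  obtain ⟨s, hs⟩ := (Module.Finite.fg_top (R := R) (M := M))
  obtain ⟨b, hb⟩ := IsLocalization.exist_integer_multiples_of_finset (nonZeroDivisors (R ⧸ p))
    (s.image ψ)
  let ι : (R ⧸ p) →ₗ[R] K := (IsScalarTower.toAlgHom R (R ⧸ p) K).toLinearMap
  have hι : Function.Injective ι := IsFractionRing.injective (R ⧸ p) K
  have hb0 : algebraMap (R ⧸ p) K b.1 ≠ 0 := fun h => nonZeroDivisors.ne_zero b.2
    (IsFractionRing.injective (R ⧸ p) K (h.trans (map_zero _).symm))
  let ψ' : M →ₗ[R] K := (LinearMap.mul R K (algebraMap (R ⧸ p) K b.1)).comp ψ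
  have hmem : ∀ m, ψ' m ∈ LinearMap.range ι := by
    intro m
    have hm : m ∈ Submodule.span R (s : Set M) := by rw [hs]; exact Submodule.mem_top
    induction hm using Submodule.span_induction with
    | mem x hx =>
      obtain ⟨c, hc⟩ := hb (ψ x) (Finset.mem_image_of_mem ψ hx)
      exact ⟨c, by rw [show ι c = algebraMap (R ⧸ p) K c from rfl, hc, Algebra.smul_def]; rfl⟩
    | zero => exact ⟨0, by rw [map_zero, map_zero]⟩
    | add x y _ _ hx hy => rw [map_add]; exact add_mem hx hy
    | smul r x _ hx => rw [map_smul]; exact Submodule.smul_mem _ r hx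
  refine ⟨(LinearEquiv.ofInjective ι hι).symm.toLinearMap.comp (ψ'.codRestrict _ hmem), fun h => hφ ?_⟩
  have hψ : ∀ m, ψ m = 0 := fun m => by
    have h1 := congrArg (LinearEquiv.ofInjective ι hι) (LinearMap.congr_fun h m)
    rw [LinearMap.comp_apply, LinearEquiv.coe_coe, LinearEquiv.apply_symm_apply] at h1
    have h2 : algebraMap (R ⧸ p) K b.1 * ψ m = 0 :=
      (congrArg Subtype.val h1).trans (congrArg Subtype.val (map_zero (LinearEquiv.ofInjective ι hι)))
    exact (mul_eq_zero.1 h2).resolve_left hb0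
  clear hv hφ
  induction v with
  | zero => exact map_zero _
  | add x y hx hy => rw [map_add, hx, hy, add_zero]
  | tmul k m =>
    rw [show k ⊗ₜ[R] m = k • ((1 : K) ⊗ₜ[R] m) by rw [TensorProduct.smul_tmul', smul_eq_mul, mul_one],
      map_smul]
    exact (congrArg (k • ·) (hψ m)).trans (smul_zero k)

/-- A prime with quotient of full dimension is minimal. -/
theorem mem_minimalPrimes_of_dim [p.IsPrime] {d : ℕ} (hd : ringKrullDim R ≤ d)
    (h : ringKrullDim (R ⧸ p) = d) : p ∈ minimalPrimes R := by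
  rw [ringKrullDim_quotient] at h
  obtain ⟨l, hl⟩ := Order.le_krullDim_iff.1 h.ge
  let t : LTSeries (PrimeSpectrum R) := l.map (fun q => q.1) fun a b hab => hab
  refine (PrimeSpectrum.isMin_iff (x := ⟨p, ‹_›⟩)).1 fun q hq => ?_
  by_contra hne
  have hlt : q < t.head := lt_of_lt_of_le (lt_of_le_not_ge hq hne)
    (show (⟨p, ‹_›⟩ : PrimeSpectrum R) ≤ t.head from l.head.2)
  have h2 := (Order.LTSeries.length_le_krullDim (t.cons q hlt)).trans hd
  rw [RelSeries.cons_length, Nat.cast_le] at h2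
  have : t.length = d := hl
  omega

/-- A proper quotient of `R ⧸ p` has smaller dimension. -/
theorem supportDim_quot_lt [p.IsPrime] {d : ℕ} (h : ringKrullDim (R ⧸ p) = d)
    (J : Submodule R (R ⧸ p)) (hJ : J ≠ ⊥) :
    Module.supportDim R ((R ⧸ p) ⧸ J) < (d : WithBot ℕ∞) := by
  obtain ⟨z, hzJ, hz⟩ := (Submodule.ne_bot_iff J).1 hJ
  obtain ⟨c, rfl⟩ := Ideal.Quotient.mk_surjective z
  have hc : c ∉ p := fun hc => hz (Ideal.Quotient.eq_zero_iff_mem.2 hc)
  have hsupp : ∀ q ∈ Module.support R ((R ⧸ p) ⧸ J), p ≤ q.asIdeal ∧ c ∈ q.asIdeal := by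
    intro q hq
    obtain ⟨x, hx⟩ := Module.mem_support_iff'.1 hq
    obtain ⟨y, rfl⟩ := J.mkQ_surjective x
    obtain ⟨r, rfl⟩ := Ideal.Quotient.mk_surjective y
    refine ⟨fun a ha => ?_, ?_⟩
    all_goals by_contra hq'
    · refine hx a hq' ?_
      rw [← map_smul, Submodule.mkQ_apply]
      refine (Submodule.Quotient.mk_eq_zero _).2 ?_
      rw [show a • Ideal.Quotient.mk p r = 0 from
        Ideal.Quotient.eq_zero_iff_mem.2 (p.mul_mem_right r ha)]
      exact J.zero_mem
    · refine hx c hq' ?_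
      rw [← map_smul, Submodule.mkQ_apply]
      refine (Submodule.Quotient.mk_eq_zero _).2 ?_
      have := J.smul_mem r hzJ
      rwa [show r • Ideal.Quotient.mk p c = c • Ideal.Quotient.mk p r from
        congrArg (Ideal.Quotient.mk p) (mul_comm r c)] at this
  rw [ringKrullDim_quotient] at h
  let a : PrimeSpectrum.zeroLocus (p : Set R) := ⟨⟨p, ‹_›⟩, le_refl p⟩
  have key : ∀ s : LTSeries (Module.support R ((R ⧸ p) ⧸ J)), s.length + 1 ≤ d := by
    intro s
    let t : LTSeries (PrimeSpectrum.zeroLocus (p : Set R)) :=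
      s.map (fun q => ⟨q.1, (hsupp _ q.2).1⟩) fun _ _ h => h
    have hlt : a < t.head := lt_of_le_not_ge (hsupp _ s.head.2).1
      fun hge => hc (hge (hsupp _ s.head.2).2)
    have h2 := (Order.LTSeries.length_le_krullDim (t.cons a hlt)).trans h.le
    rw [RelSeries.cons_length, Nat.cast_le] at h2
    exact h2
  cases d with
  | zero =>
    have : IsEmpty (Module.support R ((R ⧸ p) ⧸ J)) :=
      ⟨fun q => absurd (key (RelSeries.singleton _ q)) (by omega)⟩
    rw [Module.supportDim, Order.krullDim_eq_bot]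
    exact WithBot.bot_lt_coe _
  | succ e =>
    refine lt_of_le_of_lt (b := ((e : ℕ) : WithBot ℕ∞)) ?_ (by exact_mod_cast e.lt_succ_self)
    exact iSup_le fun s => by exact_mod_cast (Nat.le_of_succ_le_succ (key s))

end Groth.Agent.Lib.LCFin.Top2
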