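import Groth.Agent.Lib.LCFin.Cd
import Groth.Agent.Lib.LCFin.Top2
import Groth.Agent.Lib.LCFin.ExtLoc
import Mathlib.Algebra.Homology.DerivedCategory.Ext.EnoughInjectives
import Mathlib.RingTheory.Ideal.AssociatedPrime.Basic

/-!
Vanishing of local cohomology in terms of `Ext`.
-/

universe u

open CategoryTheory
open Groth.Agent.Lib.LocalCoh Groth.Agent.Lib.LCFin.Seq Groth.Agent.Lib.LCFin.Cd

namespace Groth.Agent.Lib.LCFin.ExtVanishing

variable {A : Type u} [CommRing A] [IsNoetherianRing A] (J : Ideal A)
  {F : Type u} [AddCommGroup F] [Module A F] [Module.Finite A F]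

theorem hom_eq_zero (hF : Module.support A F ⊆ PrimeSpectrum.zeroLocus (J : Set A))
    {G : Type u} [AddCommGroup G] [Module A G] (hG : DRing.torsionSub J G = ⊥) (φ : F →ₗ[A] G) :
    φ = 0 := by
  have hle : J ≤ (Module.annihilator A F).radical := by
    rw [Ideal.radical_eq_sInf]
    exact le_sInf fun q ⟨hq, hprime⟩ =>
      hF ((Module.mem_support_iff_of_finite (p := (⟨q, hprime⟩ : PrimeSpectrum A))).2 hq)
  obtain ⟨k, hk⟩ := Ideal.exists_pow_le_of_le_radical_of_fg hle (IsNoetherian.noetherian _)
  refine LinearMap.ext fun x => (Submodule.eq_bot_iff _).1 hG _ ⟨k, fun c hc => ?_⟩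
  rw [← map_smul, Module.mem_annihilator.1 (hk hc) x, map_zero]

theorem subsingleton_ext_of_vanishing (hF : Module.support A F ⊆ PrimeSpectrum.zeroLocus (J : Set A)) :
    ∀ (n : ℕ) (G : Type u) [AddCommGroup G] [Module A G],
      (∀ i < n, Subsingleton (LocCoh.H J i G)) →
      ∀ i < n, Subsingleton (Abelian.Ext (ModuleCat.of A F) (ModuleCat.of A G) i) := by
  intro n
  induction n with
  | zero => exact fun G _ _ _ i hi => absurd hi (Nat.not_lt_zero i)
  | succ n ih =>
    intro G _ _ hvan i hi
    have h0 := (subsingleton_H_zero_iff J G).1 (hvan 0 n.succ_pos)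
    cases i with
    | zero =>
      exact (ExtLoc.homEquiv F G).toEquiv.subsingleton_congr.2
        (subsingleton_of_forall_eq 0 (hom_eq_zero J hF h0))
    | succ i =>
      obtain ⟨P, f, hPi, hPt, hf⟩ := exists_injective_torsionFree J G h0
      have hex : Function.Exact f (LinearMap.range f).mkQ := f.exact_map_mkQ_range
      have hQ : ∀ j < n, Subsingleton (LocCoh.H J j (P ⧸ LinearMap.range f)) := fun j hj => by
        refine subsingleton_right J hf (Submodule.mkQ_surjective _) hex j ?_ (hvan (j + 1) (by omega))
        cases j with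
        | zero => exact (subsingleton_H_zero_iff J P).2 hPt
        | succ j => exact lc_subsingleton_of_injective J P j
      have hExtQ := ih _ hQ i (by omega)
      have hses := ses_shortExact hf (Submodule.mkQ_surjective _) hex
      have : Injective (ses f (LinearMap.range f).mkQ hex).X₂ := hPi
      refine subsingleton_of_forall_eq 0 fun x => ?_
      obtain ⟨y, hy⟩ := Abelian.Ext.covariant_sequence_exact₁ _ hses x
        (Abelian.Ext.eq_zero_of_injective _) rfl
      rw [← hy, hExtQ.elim y 0, Abelian.Ext.zero_comp]

theorem subsingleton_H_of_vanishing (hF : Module.support A F = PrimeSpectrum.zeroLocus (J : Set A)) :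
    ∀ (n : ℕ) (G : Type u) [AddCommGroup G] [Module A G],
      (∀ i < n, Subsingleton (Abelian.Ext (ModuleCat.of A F) (ModuleCat.of A G) i)) →
      ∀ i < n, Subsingleton (LocCoh.H J i G) := by
  intro n
  induction n with
  | zero => exact fun G _ _ _ i hi => absurd hi (Nat.not_lt_zero i)
  | succ n ih =>
    intro G _ _ hvan i hi
    have hhom : Subsingleton (F →ₗ[A] G) :=
      (ExtLoc.homEquiv F G).toEquiv.subsingleton_congr.1 (hvan 0 n.succ_pos)
    have h0 : DRing.torsionSub J G = ⊥ := by
      refine (Submodule.eq_bot_iff _).2 fun x ⟨k, hk⟩ => ?_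
      by_contra hx
      have : Nontrivial (Submodule.span A {x}) :=
        nontrivial_of_ne ⟨x, Submodule.mem_span_singleton_self x⟩ 0 fun h => hx (congrArg Subtype.val h)
      obtain ⟨p, hp⟩ := associatedPrimes.nonempty A (Submodule.span A {x})
      obtain ⟨hprime, z, hz⟩ := (isAssociatedPrime_iff (I := p)).1 hp
      have hJp : J ≤ p := fun r hr => hprime.mem_of_pow_mem k (by
        rw [hz, Submodule.mem_colon_singleton, Submodule.mem_bot]
        obtain ⟨c, hc⟩ := Submodule.mem_span_singleton.1 z.2
        refine Subtype.ext ?_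
        show r ^ k • z.1 = 0
        rw [← hc, smul_comm, hk _ (Ideal.pow_mem_pow hr k), smul_zero])
      obtain ⟨g, hg⟩ := Top2.exists_hom_ne_zero (p := p) (M := F)
        (show (⟨p, hprime⟩ : PrimeSpectrum A) ∈ Module.support A F by rw [hF]; exact hJp)
      let ι : (A ⧸ p) →ₗ[A] G := (Submodule.span A {x}).subtype ∘ₗ
        Submodule.liftQ p (LinearMap.toSpanSingleton A _ z) (fun r hr => by
          rw [hz, Submodule.mem_colon_singleton, Submodule.mem_bot] at hr
          simpa using hr)
      refine hg (LinearMap.ext fun w => ?_)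
      have h1 : ι (g w) = 0 := LinearMap.congr_fun (hhom.elim (ι ∘ₗ g) 0) w
      obtain ⟨r, hr⟩ := Ideal.Quotient.mk_surjective (g w)
      rw [← hr] at h1 ⊢
      refine Ideal.Quotient.eq_zero_iff_mem.2 ?_
      rw [hz, Submodule.mem_colon_singleton, Submodule.mem_bot]
      exact (Submodule.span A {x}).injective_subtype h1
    cases i with
    | zero => exact (subsingleton_H_zero_iff J G).2 h0
    | succ i =>
      obtain ⟨P, f, hPi, hPt, hf⟩ := exists_injective_torsionFree J G h0
      have hex : Function.Exact f (LinearMap.range f).mkQ := f.exact_map_mkQ_range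
      have hses := ses_shortExact hf (Submodule.mkQ_surjective _) hex
      have : Injective (ses f (LinearMap.range f).mkQ hex).X₂ := hPi
      have hQ : ∀ j < n, Subsingleton (Abelian.Ext (ModuleCat.of A F)
          (ModuleCat.of A (P ⧸ LinearMap.range f)) j) := fun j hj => by
        have hP : ∀ x : Abelian.Ext (ModuleCat.of A F) (ses f (LinearMap.range f).mkQ hex).X₂ j, x = 0 := by
          cases j with
          | zero =>
            exact fun x => (ExtLoc.homEquiv F P).injective
              ((hom_eq_zero J hF.le hPt _).trans (map_zero _).symm)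
          | succ j => exact fun x => x.eq_zero_of_injective
        refine subsingleton_of_forall_eq 0 fun x => ?_
        obtain ⟨y, hy⟩ := Abelian.Ext.covariant_sequence_exact₃ _ hses x rfl
          ((hvan (j + 1) (by omega)).elim _ _)
        rw [← hy, hP y, Abelian.Ext.zero_comp]
      refine subsingleton_left J hf (Submodule.mkQ_surjective _) hex i (ih _ hQ i (by omega)) ?_
      exact lc_subsingleton_of_injective J P i

end Groth.Agent.Lib.LCFin.ExtVanishing
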