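import Groth.Agent.Lib.LCFin.FiniteH1Local
import Groth.Prelude.Def_EGA4b
import Groth.Agent.S9228
import Groth.Agent.S9126
import Groth.Agent.Lib.Excellent.QuotientFibre
import Groth.Agent.Lib.Excellent.FibreNoetherian
import Mathlib.RingTheory.AdicCompletion.AsTensorProduct
import Mathlib.Order.KrullDimension

/-!
Finiteness of `H^1_I` for universally catenary rings.
-/

universe u

open IsLocalRing

namespace Groth.Agent.Lib.LCFin.FiniteH1Catenary

theorem finite_H1_of_universallyCatenary {A : Type u} [CommRing A] [IsNoetherianRing A]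
    (hU : CAlg.IsUniversallyCatenary A) (I : Ideal A) (M : Type u) [AddCommGroup M] [Module A M]
    [Module.Finite A M]
    (h : ∀ (p q : PrimeSpectrum A) (hpq : p ≤ q), p.asIdeal ∈ associatedPrimes A M → ¬ I ≤ p.asIdeal →
      I ≤ q.asIdeal → (2 : ℕ∞) ≤ Order.height (⟨q, hpq⟩ : Set.Ici p))
    (hmin : ∀ (q : Ideal A) [q.IsPrime], I ≤ q → ∀ (P : Ideal (Localization.AtPrime q)) [P.IsPrime]
      [IsLocalRing (Localization.AtPrime q ⧸ P)],
      ∀ Q ∈ associatedPrimes (AdicCompletion (maximalIdeal (Localization.AtPrime q ⧸ P)) (Localization.AtPrime q ⧸ P))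
          (AdicCompletion (maximalIdeal (Localization.AtPrime q ⧸ P)) (Localization.AtPrime q ⧸ P)),
        Q ∈ minimalPrimes (AdicCompletion (maximalIdeal (Localization.AtPrime q ⧸ P)) (Localization.AtPrime q ⧸ P))) :
    Module.Finite A (LocCoh.H I 1 M) := by
  refine FiniteH1.finite_H_one I fun p hp => ?_
  haveI := IsAssociatedPrime.isPrime hp
  by_cases hIp : I ≤ p
  · have htor : LocCoh.IsPowerTorsion I (A ⧸ p) := fun z => ⟨1, fun a ha => by
      obtain ⟨z, rfl⟩ := Ideal.Quotient.mk_surjective z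
      rw [pow_one] at ha
      exact Ideal.Quotient.eq_zero_iff_mem.2 (p.mul_mem_right z (hIp ha))⟩
    have : Subsingleton (LocCoh.H I 1 (A ⧸ p)) :=
      Groth.Agent.Lib.LocalCoh.lc_subsingleton_of_isPowerTorsion I 0 (ModuleCat.of A (A ⧸ p)) htor
    infer_instance
  refine FiniteH1Local.finite_quotient I p hIp fun q hq hpq hIq => ?_
  intro hloc
  let L := Localization.AtPrime q
  let P := p.map (algebraMap A L)
  have hd : Disjoint (q.primeCompl : Set A) (p : Set A) :=
    Set.disjoint_left.2 fun a ha hb => ha (hpq hb)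
  haveI hP : P.IsPrime := IsLocalization.isPrime_of_isPrime_disjoint q.primeCompl L p ‹_› hd
  haveI : IsNoetherianRing L := IsLocalization.isNoetherianRing q.primeCompl L inferInstance
  haveI : Algebra.EssFiniteType A L := Algebra.EssFiniteType.of_isLocalization L q.primeCompl
  have heq : EGA4.IsFormallyEquidim (L ⧸ P) :=
    Groth.Agent.S9228.result L (Groth.Agent.S9126.result A L hU) P
  refine FiniteH1Local.finite_H1_max _ _ rfl fun Q hQ => ?_
  rw [heq Q (hmin q hIq P Q hQ)]
  -- the dimension of the completion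
  have hdim : (2 : WithBot ℕ∞) ≤ ringKrullDim (L ⧸ P) := by
    obtain ⟨s, hs, hlen⟩ := Order.exists_series_of_le_height
      (⟨⟨q, hq⟩, hpq⟩ : Set.Ici (⟨p, ‹_›⟩ : PrimeSpectrum A)) (n := 2) (h ⟨p, ‹_›⟩ ⟨q, hq⟩ hpq hp hIp hIq)
    rw [ringKrullDim_quotient]
    have hle : ∀ i, (s i).1.asIdeal ≤ q := fun i => by
      have h1 : (s i).1 ≤ (s.last).1 := Subtype.coe_le_coe.2 (s.monotone (Fin.le_last i))
      rw [hs] at h1
      exact h1
    have hdi : ∀ i, Disjoint (q.primeCompl : Set A) ((s i).1.asIdeal : Set A) := fun i =>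
      Set.disjoint_left.2 fun a ha hb => ha (hle i hb)
    let lift : Fin (s.length + 1) → PrimeSpectrum.zeroLocus (P : Set L) := fun i =>
      ⟨⟨(s i).1.asIdeal.map (algebraMap A L),
        IsLocalization.isPrime_of_isPrime_disjoint q.primeCompl L _ (s i).1.isPrime (hdi i)⟩,
        Ideal.map_mono (show p ≤ (s i).1.asIdeal from (s i).2)⟩
    let t : LTSeries (PrimeSpectrum.zeroLocus (P : Set L)) := LTSeries.mk s.length lift fun i j hij => by
      have hlt : (s i).1.asIdeal < (s j).1.asIdeal :=
        show (s i).1 < (s j).1 from Subtype.coe_lt_coe.2 (s.strictMono hij)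
      refine lt_of_le_of_ne (show (lift i).1.asIdeal ≤ (lift j).1.asIdeal from Ideal.map_mono hlt.le) fun he => ?_
      refine hlt.ne ?_
      rw [← IsLocalization.under_map_of_isPrime_disjoint q.primeCompl L (s i).1.isPrime (hdi i),
        ← IsLocalization.under_map_of_isPrime_disjoint q.primeCompl L (s j).1.isPrime (hdi j)]
      exact congrArg (fun z : PrimeSpectrum.zeroLocus (P : Set L) => z.1.asIdeal.under A) he
    have := Order.LTSeries.length_le_krullDim t
    rw [show t.length = 2 from hlen] at this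
    exact_mod_cast this
  refine hdim.trans (le_of_eq ?_)
  have h1 := CanonCompletion.supportDim_tensor (R := L ⧸ P) (L ⧸ P)
  rw [Module.supportDim_self_eq_ringKrullDim] at h1
  rw [← h1, Module.supportDim_eq_of_equiv (TensorProduct.AlgebraTensorModule.rid (L ⧸ P)
    (AdicCompletion (maximalIdeal (L ⧸ P)) (L ⧸ P)) (AdicCompletion (maximalIdeal (L ⧸ P)) (L ⧸ P))),
    Module.supportDim_self_eq_ringKrullDim]

end Groth.Agent.Lib.LCFin.FiniteH1Catenary

namespace Groth.Agent.Lib.LCFin.FiniteH1Catenary

open scoped TensorProduct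

/-- No embedded associated primes, in a form invariant under isomorphism by inspection. -/
def NoEmbedded (R : Type u) [CommRing R] : Prop :=
  ∀ (x : R) (Q Q' : Ideal R), Q.IsPrime → Q'.IsPrime → (∀ r, r ∈ Q ↔ r * x = 0) → Q' ≤ Q → Q ≤ Q'

theorem noEmbedded_isoInvariant : Excellent.FormalFibre.IsoInvariant.{u} fun R [CommRing R] => NoEmbedded R := by
  intro R S _ _ e h x Q Q' hQ hQ' hann hle
  have hthis := h (e.symm x) (Q.comap (e : R →+* S)) (Q'.comap (e : R →+* S)) (Ideal.IsPrime.comap _)
    (Ideal.IsPrime.comap _) (fun r => by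
      rw [Ideal.mem_comap, hann]
      exact ⟨fun h => e.injective (by simpa using h), fun h => by simpa using congrArg e h⟩)
    (Ideal.comap_mono hle)
  intro s hs
  have h1 : e.symm s ∈ Q'.comap (e : R →+* S) := hthis (show e (e.symm s) ∈ Q by rwa [e.apply_symm_apply])
  have h2 : e (e.symm s) ∈ Q' := h1
  rwa [e.apply_symm_apply] at h2

theorem noEmbedded_of_hasSk (F : Type u) [CommRing F] [IsNoetherianRing F]
    (h : LocCoh.HasSk 1 F F) : NoEmbedded F := by
  intro x Q Q' hQ hQ' hann hle
  let L := Localization.AtPrime Q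
  let ψ := LocalizedModule.mkLinearMap Q.primeCompl F
  have hfin := Module.Finite.of_isLocalizedModule Q.primeCompl (Rₚ := L) ψ
  have hass : Q ∈ associatedPrimes F F := by
    refine (isAssociatedPrime_iff (I := Q)).2 ⟨hQ, x, ?_⟩
    ext r
    rw [Submodule.mem_colon_singleton, Submodule.mem_bot, hann, smul_eq_mul]
  have hmax : maximalIdeal L ∈ associatedPrimes L (LocalizedModule Q.primeCompl F) := by
    rw [← Module.associatedPrimes.preimage_comap_associatedPrimes_eq_associatedPrimes_of_isLocalizedModule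
      Q.primeCompl L ψ, Set.mem_preimage,
      show (maximalIdeal L).comap (algebraMap F L) = Q from IsLocalization.AtPrime.under_maximalIdeal L Q]
    exact hass
  have hnt : Nontrivial (LocalizedModule Q.primeCompl F) := by
    by_contra hn
    rw [not_nontrivial_iff_subsingleton] at hn
    exact Set.notMem_empty _ (associatedPrimes.eq_empty_of_subsingleton (R := L)
      (M := LocalizedModule Q.primeCompl F) ▸ hmax)
  have h0 := (Depth.Assoc.depth_eq_zero_iff (R := L) (M := LocalizedModule Q.primeCompl F)).2 hmax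
  have h1 := h Q
  rw [h0] at h1
  have hdim : Module.supportDim L (LocalizedModule Q.primeCompl F) ≤ 0 := by
    rcases min_le_iff.1 h1 with h2 | h2
    · exact absurd h2 (by norm_num)
    · exact_mod_cast h2
  have hself : Module.supportDim L (LocalizedModule Q.primeCompl F) = ringKrullDim L := by
    rw [Module.supportDim_eq_of_equiv
      ((IsLocalizedModule.linearEquiv Q.primeCompl ψ (Algebra.linearMap F L)).extendScalarsOfIsLocalization
        Q.primeCompl L), Module.supportDim_self_eq_ringKrullDim]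
  rw [hself, IsLocalization.AtPrime.ringKrullDim_eq_height Q L] at hdim
  have hh : Q.height = 0 := nonpos_iff_eq_zero.1 (WithBot.coe_le_coe.1 hdim)
  exact (Ideal.height_eq_zero_iff.1 hh).2 ⟨hQ', bot_le⟩ hle

/-- A domain with `(S_1)` generic formal fibre has completion without embedded primes. -/
theorem minimal_of_noEmbedded (R : Type u) [CommRing R] [IsNoetherianRing R] [IsLocalRing R] [IsDomain R]
    (h : NoEmbedded ((⊥ : Ideal R).Fiber (EGA4.Cpl R))) :
    ∀ Q ∈ associatedPrimes (EGA4.Cpl R) (EGA4.Cpl R), Q ∈ minimalPrimes (EGA4.Cpl R) := by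
  intro Q hQ
  obtain ⟨hQp, x, hx⟩ := (isAssociatedPrime_iff (I := Q)).1 hQ
  have hann : ∀ r, r ∈ Q ↔ r * x = 0 := fun r => by
    rw [hx, Submodule.mem_colon_singleton, Submodule.mem_bot, smul_eq_mul]
  let K := (⊥ : Ideal R).ResidueField
  haveI : FaithfulSMul R K := by
    refine (faithfulSMul_iff_algebraMap_injective R K).2 ((injective_iff_map_eq_zero _).2 fun a ha => ?_)
    simpa using (Ideal.algebraMap_residueField_eq_zero.1 ha : a ∈ (⊥ : Ideal R))
  haveI : IsFractionRing R K := IsFractionRing.of_field R K fun z => by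
    obtain ⟨a, s, rfl⟩ := IsLocalization.exists_mk'_eq (nonZeroDivisors (R ⧸ (⊥ : Ideal R))) z
    obtain ⟨a, rfl⟩ := Ideal.Quotient.mk_surjective a
    obtain ⟨t, ht⟩ := Ideal.Quotient.mk_surjective (s : R ⧸ (⊥ : Ideal R))
    exact ⟨a, t, by rw [IsFractionRing.mk'_eq_div, ← ht]; rfl⟩
  let B := EGA4.Cpl R
  let F := (⊥ : Ideal R).Fiber B
  letI : Algebra B F := Algebra.TensorProduct.rightAlgebra
  haveI : IsLocalizedModule (nonZeroDivisors R) (IsScalarTower.toAlgHom R B F).toLinearMap :=
    (isLocalizedModule_iff_isBaseChange (nonZeroDivisors R) K _).2 (by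
      convert TensorProduct.isBaseChange R B K using 1 <;> rfl)
  let M := Algebra.algebraMapSubmonoid B (nonZeroDivisors R)
  haveI : IsLocalization M F := isLocalizedModule_iff_isLocalization.1 ‹_›
  -- `Q` misses the nonzero elements of `R`
  have hmiss : Disjoint (M : Set B) (Q : Set B) := Set.disjoint_left.2 fun b hb hbQ => by
    obtain ⟨a, ha, rfl⟩ := hb
    have hreg : IsSMulRegular B a := Module.Flat.isSMulRegular_of_nonZeroDivisors ha
    have hx0 : x = 0 := hreg (show a • x = a • (0 : B) by
      rw [smul_zero, Algebra.smul_def]; exact (hann _).1 hbQ)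
    exact hQp.ne_top ((Ideal.eq_top_iff_one Q).2 ((hann 1).2 (by rw [hx0, mul_zero])))
  refine ⟨⟨hQp, bot_le⟩, fun Q' hQ' hle => ?_⟩
  have hQ'p := hQ'.1
  have hmiss' : Disjoint (M : Set B) (Q' : Set B) := hmiss.mono_right hle
  have hFann : ∀ z : F, z ∈ Q.map (algebraMap B F) ↔ z * algebraMap B F x = 0 := fun z => by
    obtain ⟨b, s, rfl⟩ := IsLocalization.exists_mk'_eq M z
    rw [IsLocalization.mk'_mem_map_algebraMap_iff]
    constructor
    · rintro ⟨t, ht, hmem⟩
      have h1 : algebraMap B F (t * b) * algebraMap B F x = 0 := by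
        rw [← map_mul, (hann _).1 hmem, map_zero]
      rw [map_mul, ← IsLocalization.mk'_spec F b s, mul_assoc, mul_assoc] at h1
      have := (IsLocalization.map_units F ⟨t, ht⟩).mul_right_eq_zero.1 h1
      rw [mul_comm (algebraMap B F s), ← mul_assoc] at this
      exact (IsLocalization.map_units F s).mul_left_eq_zero.1 this
    · intro h0
      have h1 : algebraMap B F (b * x) = 0 := by
        rw [map_mul, ← IsLocalization.mk'_spec F b s, mul_right_comm, h0, zero_mul]
      obtain ⟨t, ht⟩ := (IsLocalization.map_eq_zero_iff M F _).1 h1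
      exact ⟨t, t.2, (hann _).2 (by rw [mul_assoc]; exact ht)⟩
  have := h (algebraMap B F x) _ _ (IsLocalization.isPrime_of_isPrime_disjoint M F Q hQp hmiss)
    (IsLocalization.isPrime_of_isPrime_disjoint M F Q' hQ'p hmiss') hFann (Ideal.map_mono hle)
  have h2 := Ideal.comap_mono (f := algebraMap B F) this
  exact (IsLocalization.under_map_of_isPrime_disjoint M F hQp hmiss).ge.trans
    (h2.trans (IsLocalization.under_map_of_isPrime_disjoint M F hQ'p hmiss').le)

/-- No embedded primes in the completions of the quotient domains of a ring with `(S_1)` formal fibres. -/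
theorem minimal_of_hasSnFormalFibres (L : Type u) [CommRing L] [IsNoetherianRing L] [IsLocalRing L]
    (hL : EGA4.HasSnFormalFibres 1 L) (P : Ideal L) [P.IsPrime] [IsLocalRing (L ⧸ P)] :
    ∀ Q ∈ associatedPrimes (EGA4.Cpl (L ⧸ P)) (EGA4.Cpl (L ⧸ P)), Q ∈ minimalPrimes (EGA4.Cpl (L ⧸ P)) :=
  minimal_of_noEmbedded (L ⧸ P) (Excellent.QuotientFibre.formalFibre_quotient L P noEmbedded_isoInvariant
    (fun p _ => haveI := Excellent.FibreNoetherian.isNoetherianRing_fibre (IsLocalRing.maximalIdeal L) p; noEmbedded_of_hasSk _ (hL p)) ⊥)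

end Groth.Agent.Lib.LCFin.FiniteH1Catenary
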