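import Mathlib.Algebra.Category.ModuleCat.ChangeOfRings
import Mathlib.Algebra.CharP.Frobenius
import Mathlib.RingTheory.Nakayama
import Mathlib.RingTheory.OrzechProperty
import Mathlib.RingTheory.Noetherian.Basic
import Mathlib.RingTheory.Noetherian.Orzech
import Mathlib.RingTheory.LocalRing.Basic
import Mathlib.RingTheory.LocalRing.MaximalIdeal.Basic
import Mathlib.RingTheory.Finiteness.Basic
import Mathlib.LinearAlgebra.FreeModule.Basic
import Mathlib.RingTheory.Jacobson.Ideal

/-!
A finite module isomorphic to its Frobenius pullback is free.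
-/

universe u

open CategoryTheory

namespace Groth.Agent.Lib.LCFin.FrobFree

variable {R : Type u} [CommRing R]

/-- A linear map killed on relations factors through the restriction of scalars. -/
theorem exists_desc {S : Type u} [CommRing S] (f : R →+* S) {b : ℕ} {M : Type u} [AddCommGroup M]
    [Module R M] (g : (Fin b → R) →ₗ[R] M) (hg : Function.Surjective g) (Q : ModuleCat.{u} S)
    (ψ : (Fin b → S) →ₗ[S] Q) (hψ : ∀ v, g v = 0 → ψ (fun i => f (v i)) = 0) :
    ∃ θ : ModuleCat.of R M ⟶ (ModuleCat.restrictScalars f).obj Q,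
      ∀ v, (θ.hom (g v) : Q) = ψ (fun i => f (v i)) := by
  letI : Module R Q := Module.compHom Q f
  let Θ₀ : (Fin b → R) →ₗ[R] Q :=
    { toFun := fun v => ψ fun i => f (v i)
      map_add' := fun v w => by
        rw [← map_add]
        congr 1
        exact funext fun i => map_add f _ _
      map_smul' := fun r v => by
        show ψ (fun i => f ((r • v) i)) = f r • ψ (fun i => f (v i))
        rw [← map_smul]
        congr 1
        exact funext fun i => map_mul f r (v i) }
  have hker : LinearMap.ker g ≤ LinearMap.ker Θ₀ := fun v hv => hψ v hv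
  let Θ : M →ₗ[R] Q :=
    ((LinearMap.ker g).liftQ Θ₀ hker) ∘ₗ (g.quotKerEquivOfSurjective hg).symm.toLinearMap
  refine ⟨ModuleCat.ofHom (X := M) (Y := (ModuleCat.restrictScalars f).obj Q)
    { toFun := fun x => Θ x, map_add' := Θ.map_add, map_smul' := Θ.map_smul }, fun v => ?_⟩
  show ((LinearMap.ker g).liftQ Θ₀ hker) ((g.quotKerEquivOfSurjective hg).symm (g v)) = _
  rw [show (g.quotKerEquivOfSurjective hg).symm (g v) = Submodule.Quotient.mk v from
    (LinearEquiv.symm_apply_eq _).2 rfl, Submodule.liftQ_apply]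
  rfl

/-- Generators and relations from the universal property of extension of scalars. -/
theorem presentation_aux {S : Type u} [CommRing S] (f : R →+* S) {b : ℕ} {M : Type u} [AddCommGroup M]
    [Module R M] (g : (Fin b → R) →ₗ[R] M) (hg : Function.Surjective g) (N : ModuleCat.{u} S)
    (η : ModuleCat.of R M ⟶ (ModuleCat.restrictScalars f).obj N)
    (hinj : ∀ (Q : ModuleCat.{u} S) (a c : N ⟶ Q), (∀ x, a.hom (η.hom x : N) = c.hom (η.hom x : N)) → a = c)
    (hsurj : ∀ (Q : ModuleCat.{u} S) (θ : ModuleCat.of R M ⟶ (ModuleCat.restrictScalars f).obj Q),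
      ∃ ψ : N ⟶ Q, ∀ x, ψ.hom (η.hom x : N) = (θ.hom x : Q)) :
    ∃ H : (Fin b → S) →ₗ[S] N, Function.Surjective H ∧
      LinearMap.ker H ≤ Submodule.span S ((fun k : Fin b → R => fun i => f (k i)) '' LinearMap.ker g) := by
  classical
  let h : Fin b → N := fun i => (η.hom (g (Pi.single i 1)) : N)
  let H : (Fin b → S) →ₗ[S] N := Fintype.linearCombination S h
  have hη : ∀ v : Fin b → R, H (fun i => f (v i)) = (η.hom (g v) : N) := by
    intro v
    have hv : η.hom (g v) = ∑ i, v i • η.hom (g (Pi.single i 1)) := by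
      conv_lhs => rw [pi_eq_sum_univ' v]
      simp only [map_sum, map_smul]
    rw [Fintype.linearCombination_apply, hv]
    rfl
  refine ⟨H, ?_, fun a ha => ?_⟩
  · have hq : (ModuleCat.ofHom (LinearMap.range H).mkQ : N ⟶ ModuleCat.of S (N ⧸ LinearMap.range H)) = 0 := by
      refine hinj _ _ _ fun x => ?_
      obtain ⟨v, rfl⟩ := hg x
      show (LinearMap.range H).mkQ (η.hom (g v) : N) = 0
      rw [← hη v, Submodule.mkQ_apply, Submodule.Quotient.mk_eq_zero]
      exact LinearMap.mem_range_self H _
    rw [← LinearMap.range_eq_top]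
    refine eq_top_iff.2 fun z _ => ?_
    exact (Submodule.Quotient.mk_eq_zero _).1
      (congrArg (fun t : N ⟶ ModuleCat.of S (N ⧸ LinearMap.range H) => t.hom z) hq)
  set L : Submodule S (Fin b → S) :=
    Submodule.span S ((fun k : Fin b → R => fun i => f (k i)) '' LinearMap.ker g)
  obtain ⟨θ, hθ⟩ := exists_desc f g hg (ModuleCat.of S ((Fin b → S) ⧸ L)) L.mkQ fun v hv =>
    (Submodule.Quotient.mk_eq_zero L).2 (Submodule.subset_span ⟨v, hv, rfl⟩)
  obtain ⟨ψ, hψ⟩ := hsurj _ θ
  have hmk : ψ.hom ∘ₗ H = L.mkQ := by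
    refine (Pi.basisFun S (Fin b)).ext fun i => ?_
    rw [LinearMap.comp_apply, Pi.basisFun_apply, Fintype.linearCombination_apply_single, one_smul]
    refine ((hψ _).trans (hθ _)).trans ?_
    congr 1
    funext j
    by_cases hj : j = i
    · subst hj; simp
    · simp [hj]
  have := LinearMap.congr_fun hmk a
  rw [LinearMap.comp_apply, LinearMap.mem_ker.1 ha, map_zero] at this
  exact (Submodule.Quotient.mk_eq_zero L).1 this.symm

/-- Generators and relations of an extension of scalars. -/
theorem exists_presentation {S : Type u} [CommRing S] (f : R →+* S) {b : ℕ} {M : Type u} [AddCommGroup M]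
    [Module R M] (g : (Fin b → R) →ₗ[R] M) (hg : Function.Surjective g) :
    ∃ H : (Fin b → S) →ₗ[S] ((ModuleCat.extendScalars f).obj (ModuleCat.of R M) : ModuleCat.{u} S),
      Function.Surjective H ∧
      LinearMap.ker H ≤ Submodule.span S ((fun k : Fin b → R => fun i => f (k i)) '' LinearMap.ker g) := by
  let adj := ModuleCat.extendRestrictScalarsAdj f
  refine presentation_aux f g hg _ (adj.unit.app (ModuleCat.of R M)) (fun Q a c hac => ?_) (fun Q θ => ?_)
  · apply (adj.homEquiv (ModuleCat.of R M) Q).injective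
    rw [adj.homEquiv_unit, adj.homEquiv_unit]
    exact ModuleCat.hom_ext (LinearMap.ext fun x => hac x)
  · refine ⟨(adj.homEquiv _ _).symm θ, fun x => ?_⟩
    have e : (adj.homEquiv _ _) ((adj.homEquiv _ _).symm θ) = θ := Equiv.apply_symm_apply _ _
    rw [adj.homEquiv_unit] at e
    exact congrArg (fun t => t.hom x) e

theorem free_of_iso [IsLocalRing R] [IsNoetherianRing R] (p : ℕ) [Fact p.Prime] [CharP R p] (M : Type u)
    [AddCommGroup M] [Module R M] [Module.Finite R M]
    (e : (ModuleCat.extendScalars (frobenius R p)).obj (ModuleCat.of R M) ≅ ModuleCat.of R M) :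
    Module.Free R M := by
  classical
  have hex : ∃ b : ℕ, ∃ g : (Fin b → R) →ₗ[R] M, Function.Surjective g := Module.Finite.exists_fin' R M
  set b := Nat.find hex with hb
  obtain ⟨g, hg⟩ := Nat.find_spec hex
  set 𝔪 := IsLocalRing.maximalIdeal R
  -- minimality
  have hmin : ∀ k ∈ LinearMap.ker g, ∀ i : Fin b, k i ∈ 𝔪 := by
    intro k hk i
    by_contra hu
    rw [IsLocalRing.mem_maximalIdeal, mem_nonunits_iff, not_not] at hu
    obtain ⟨c, hc⟩ : ∃ c, b = c + 1 := ⟨b - 1, (Nat.succ_pred_eq_of_pos i.pos).symm⟩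
    have hcomb : g (Pi.single i 1) ∈ Submodule.span R (Set.range fun j : {j // j ≠ i} => g (Pi.single j.1 1)) := by
      have h0 : k i • g (Pi.single i 1) + ∑ j ∈ Finset.univ.erase i, k j • g (Pi.single j 1) = 0 := by
        rw [Finset.add_sum_erase _ (fun j => k j • g (Pi.single j 1)) (Finset.mem_univ i)]
        have hk' : g k = 0 := hk
        conv_rhs => rw [← hk', pi_eq_sum_univ' k]
        simp only [map_sum, map_smul]
      obtain ⟨u, hu⟩ := hu
      have h1 : g (Pi.single i 1) = -(↑u⁻¹ : R) • ∑ j ∈ Finset.univ.erase i, k j • g (Pi.single j 1) := by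
        rw [eq_neg_of_add_eq_zero_right h0, neg_smul, smul_neg, neg_neg, smul_smul, ← hu, Units.inv_mul, one_smul]
      rw [h1]
      exact Submodule.smul_mem _ _ (Submodule.sum_mem _ fun j hj =>
        Submodule.smul_mem _ _ (Submodule.subset_span ⟨⟨j, (Finset.mem_erase.1 hj).1⟩, rfl⟩))
    have hcard : Fintype.card {j // j ≠ i} = c := by
      rw [Fintype.card_subtype_compl, Fintype.card_fin, Fintype.card_subtype_eq]
      omega
    let ε : Fin c ≃ {j // j ≠ i} := (Fintype.equivFinOfCardEq hcard).symm
    refine Nat.find_min hex (show c < Nat.find hex by omega)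
      ⟨Fintype.linearCombination R fun j => g (Pi.single (ε j).1 1), ?_⟩
    rw [← LinearMap.range_eq_top, Fintype.range_linearCombination, eq_top_iff]
    intro z _
    obtain ⟨v, rfl⟩ := hg z
    rw [pi_eq_sum_univ' v, map_sum]
    refine Submodule.sum_mem _ fun j _ => ?_
    rw [map_smul]
    refine Submodule.smul_mem _ _ ?_
    have hr : (Set.range fun j : {j // j ≠ i} => g (Pi.single j.1 1)) =
        Set.range fun j => g (Pi.single (ε j).1 1) := (ε.surjective.range_comp (fun j : {j // j ≠ i} => g (Pi.single j.1 1))).symm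
    rcases eq_or_ne j i with rfl | hj
    · rw [← hr]; exact hcomb
    · rw [← hr]; exact Submodule.subset_span ⟨⟨j, hj⟩, rfl⟩
  obtain ⟨H₀, hH₀, hkerH₀⟩ := exists_presentation (frobenius R p) g hg
  let H : (Fin b → R) →ₗ[R] M := e.toLinearEquiv.toLinearMap ∘ₗ H₀
  have hH : Function.Surjective H := e.toLinearEquiv.surjective.comp hH₀
  have hkerH : LinearMap.ker H ≤
      Submodule.span R ((fun k : Fin b → R => fun i => frobenius R p (k i)) '' LinearMap.ker g) := fun a ha =>
    hkerH₀ (e.toLinearEquiv.injective (ha.trans (map_zero _).symm))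
  -- the comparison
  choose a ha using fun i : Fin b => hH (g (Pi.single i 1))
  let α : (Fin b → R) →ₗ[R] (Fin b → R) := Fintype.linearCombination R a
  have hHα : ∀ v, H (α v) = g v := fun v => by
    conv_rhs => rw [pi_eq_sum_univ' v]
    rw [Fintype.linearCombination_apply, map_sum, map_sum]
    exact Finset.sum_congr rfl fun i _ => by rw [map_smul, map_smul, ha]
  have hp1 : 1 ≤ p := (Nat.Prime.pos Fact.out)
  have hLm : Submodule.span R ((fun k : Fin b → R => fun i => frobenius R p (k i)) '' LinearMap.ker g) ≤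
      𝔪 • (⊤ : Submodule R (Fin b → R)) := by
    rw [Submodule.span_le]
    rintro _ ⟨k, hk, rfl⟩
    show (fun i => frobenius R p (k i)) ∈ 𝔪 • (⊤ : Submodule R (Fin b → R))
    rw [pi_eq_sum_univ' (fun i => frobenius R p (k i))]
    exact Submodule.sum_mem _ fun i _ =>
      Submodule.smul_mem_smul (Ideal.pow_mem_of_mem 𝔪 (hmin k hk i) p (Nat.Prime.pos Fact.out)) trivial
  have hjac : 𝔪 ≤ Ideal.jacobson ⊥ := by rw [IsLocalRing.jacobson_eq_maximalIdeal ⊥ bot_ne_top]
  have hαsurj : Function.Surjective α := by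
    rw [← LinearMap.range_eq_top, eq_top_iff]
    refine Submodule.le_of_le_smul_of_le_jacobson_bot Module.Finite.fg_top hjac fun v _ => ?_
    obtain ⟨w, hw⟩ := hg (H v)
    have h1 : v - α w ∈ LinearMap.ker H := by rw [LinearMap.mem_ker, map_sub, hHα, hw, sub_self]
    rw [show v = α w + (v - α w) by abel]
    exact Submodule.add_mem_sup (LinearMap.mem_range_self α w) (hLm (hkerH h1))
  have hαbij : Function.Bijective α := OrzechProperty.bijective_of_surjective_endomorphism α hαsurj
  let A := LinearEquiv.ofBijective α hαbij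
  -- the ideal of entries
  let E : Ideal R := ⨆ i : Fin b, (LinearMap.ker g).map (LinearMap.proj i)
  have hE : E ≤ E • E := by
    refine iSup_le fun i => ?_
    rintro _ ⟨k, hk, rfl⟩
    have hmem : α k ∈ Submodule.pi Set.univ (fun _ : Fin b => E * E) := by
      refine (le_trans hkerH (Submodule.span_le.2 ?_)) (show α k ∈ LinearMap.ker H by
        rw [LinearMap.mem_ker, hHα]; exact hk)
      rintro _ ⟨l, hl, rfl⟩ j -
      show frobenius R p (l j) ∈ E * E
      have hlE : l j ∈ E := le_iSup (fun i : Fin b => (LinearMap.ker g).map (LinearMap.proj i)) j ⟨l, hl, rfl⟩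
      rw [frobenius_def, ← pow_two]
      exact Ideal.pow_le_pow_right (Nat.Prime.two_le Fact.out) (Ideal.pow_mem_pow hlE p)
    have hk' : k = A.symm (α k) := (A.symm_apply_apply k).symm
    show k i ∈ E • E
    rw [hk', pi_eq_sum_univ' (α k), map_sum, Finset.sum_apply]
    refine Submodule.sum_mem _ fun j _ => ?_
    rw [map_smul, Pi.smul_apply, smul_eq_mul]
    exact Ideal.mul_mem_right _ _ (hmem j trivial)
  have hEm : E ≤ 𝔪 := iSup_le fun i => by rintro _ ⟨k, hk, rfl⟩; exact hmin k hk i
  have hE0 : E = ⊥ := Submodule.eq_bot_of_le_smul_of_le_jacobson_bot E E (IsNoetherian.noetherian E) hE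
    (hEm.trans hjac)
  have hinj : Function.Injective g := by
    rw [← LinearMap.ker_eq_bot, Submodule.eq_bot_iff]
    intro k hk
    funext i
    have h2 : k i ∈ E := le_iSup (fun i : Fin b => (LinearMap.ker g).map (LinearMap.proj i)) i ⟨k, hk, rfl⟩
    rw [hE0, Submodule.mem_bot] at h2
    exact h2
  exact Module.Free.of_equiv (LinearEquiv.ofBijective g ⟨hinj, hg⟩)

end Groth.Agent.Lib.LCFin.FrobFree
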