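import Groth.Agent.Lib.InjHull.Derivations
import Groth.Agent.Lib.Goren.LCI
import Groth.Agent.Lib.Regular.Quotient
import Groth.Agent.Lib.Goren.Basic
import Groth.Agent.Lib.Goren.Artin
import Groth.Agent.S0336
import Mathlib.RingTheory.Regular.Flat
import Mathlib.RingTheory.TensorProduct.Quotient
import Mathlib.LinearAlgebra.DirectSum.Finsupp
import Mathlib.Algebra.Category.ModuleCat.ChangeOfRings

/-!
A torsion module isomorphic to its Frobenius pullback is a sum of injective hulls.
-/

set_option autoImplicit false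
universe u

open CategoryTheory
open scoped TensorProduct

namespace Groth.Agent.Lib.LCFin.FrobStable

/-- Torsion of a flat base change. -/
theorem nonempty_torsion_baseChange {R S : Type u} [CommRing R] [CommRing S] (f : R →+* S) (hf : f.Flat)
    (rs : List R) (M : Type u) [AddCommGroup M] [Module R M] (M' : Type u) [AddCommGroup M'] [Module S M']
    (e : (ModuleCat.extendScalars f).obj (ModuleCat.of R M) ≅ ModuleCat.of S M') {ι : Type u}
    (h : Nonempty (Submodule.torsionBySet R M (Ideal.ofList rs : Set R) ≃ₗ[R] (ι →₀ R ⧸ Ideal.ofList rs))) :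
    Nonempty (Submodule.torsionBySet S M' (Ideal.ofList (rs.map f) : Set S) ≃ₗ[S]
      (ι →₀ S ⧸ Ideal.ofList (rs.map f))) := by
  classical
  algebraize [f]
  obtain ⟨h⟩ := h
  let e' : S ⊗[R] M ≃ₗ[S] M' := e.toLinearEquiv
  let T := Submodule.torsionBySet R M (Ideal.ofList rs : Set R)
  let L : M →ₗ[R] (Fin rs.length → M) := LinearMap.pi fun i => LinearMap.lsmul R M (rs.get i)
  have hex : Function.Exact T.subtype L := fun m => by
    constructor
    · intro hm
      refine ⟨⟨m, (Submodule.mem_torsionBySet_iff _ _).2 fun ⟨a, ha⟩ => ?_⟩, rfl⟩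
      show a • m = 0
      induction ha using Submodule.span_induction with
      | mem x hx =>
        obtain ⟨i, rfl⟩ := List.mem_iff_get.1 hx
        exact congrFun hm i
      | zero => exact zero_smul _ _
      | add x y _ _ hx hy => rw [add_smul, hx, hy, add_zero]
      | smul t x _ hx => rw [smul_eq_mul, mul_smul, hx, smul_zero]
    · rintro ⟨t, rfl⟩
      exact funext fun i => (Submodule.mem_torsionBySet_iff _ _).1 t.2
        ⟨rs.get i, Ideal.subset_span (List.get_mem rs i)⟩
  let ι' : S ⊗[R] T →ₗ[S] M' := e'.toLinearMap ∘ₗ T.subtype.baseChange S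
  have hinj : Function.Injective ι' :=
    e'.injective.comp (Module.Flat.lTensor_preserves_injective_linearMap T.subtype T.injective_subtype)
  have hpi : ∀ (t : S ⊗[R] M) i, TensorProduct.piRight R S S (fun _ : Fin rs.length => M) (L.lTensor S t) i =
      algebraMap R S (rs.get i) • t := fun t i => by
    induction t using TensorProduct.induction_on with
    | zero => simp
    | tmul s m =>
      rw [LinearMap.lTensor_tmul, TensorProduct.piRight_apply, TensorProduct.piRightHom_tmul,
        TensorProduct.smul_tmul', smul_eq_mul, ← Algebra.smul_def, TensorProduct.smul_tmul]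
      rfl
    | add x y hx hy => simp only [map_add, Pi.add_apply, hx, hy, smul_add]
  have hrange : LinearMap.range ι' = Submodule.torsionBySet S M' (Ideal.ofList (rs.map f) : Set S) := by
    refine le_antisymm ?_ fun w hw => ?_
    · rintro _ ⟨t, rfl⟩
      refine (Submodule.mem_torsionBySet_iff _ _).2 fun ⟨a, ha⟩ => ?_
      show a • e' (T.subtype.baseChange S t) = 0
      rw [← map_smul]
      refine (congrArg e' ?_).trans (map_zero e')
      induction ha using Submodule.span_induction with
      | mem x hx =>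
        obtain ⟨r, hr, rfl⟩ := List.mem_map.1 hx
        obtain ⟨i, rfl⟩ := List.mem_iff_get.1 hr
        show algebraMap R S (rs.get i) • T.subtype.lTensor S t = 0
        rw [← hpi, (Module.Flat.lTensor_exact S hex).apply_apply_eq_zero, map_zero]
        rfl
      | zero => exact zero_smul _ _
      | add x y _ _ hx hy => rw [add_smul, hx, hy, add_zero]
      | smul r x _ hx => rw [smul_eq_mul, mul_smul, hx, smul_zero]
    · obtain ⟨t, rfl⟩ := e'.surjective w
      have h0 : L.lTensor S t = 0 := by
        apply (TensorProduct.piRight R S S (fun _ : Fin rs.length => M)).injective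
        rw [map_zero]
        funext i
        rw [hpi]
        exact e'.injective (by
          rw [Pi.zero_apply, map_zero, map_smul]
          exact (Submodule.mem_torsionBySet_iff _ _).1 hw
            ⟨_, Ideal.subset_span (List.mem_map.2 ⟨rs.get i, List.get_mem rs i, rfl⟩)⟩)
      obtain ⟨u, hu⟩ := (Module.Flat.lTensor_exact S hex t).1 h0
      exact ⟨u, congrArg e' hu⟩
  have hI : (Ideal.ofList rs).map (algebraMap R S) = Ideal.ofList (rs.map f) := Ideal.map_ofList f rs
  exact ⟨(LinearEquiv.ofEq _ _ hrange.symm) ≪≫ₗ (LinearEquiv.ofInjective ι' hinj).symm ≪≫ₗ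
    LinearEquiv.baseChange R S _ _ h ≪≫ₗ TensorProduct.finsuppRight R S S (R ⧸ Ideal.ofList rs) ι ≪≫ₗ
    Finsupp.mapRange.linearEquiv ((Algebra.TensorProduct.quotIdealMapEquivTensorQuot S (Ideal.ofList rs)).symm.toLinearEquiv ≪≫ₗ
      Submodule.quotEquivOfEq _ _ hI)⟩

/-- Weakly regular sequences are preserved by flat maps. -/
theorem isWeaklyRegular_map {R S : Type u} [CommRing R] [CommRing S] (f : R →+* S) (hf : f.Flat) {rs : List R}
    (h : RingTheory.Sequence.IsWeaklyRegular R rs) : RingTheory.Sequence.IsWeaklyRegular S (rs.map f) := by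
  algebraize [f]
  exact h.of_flat

variable (p : ℕ) [Fact p.Prime] {R : Type u} [CommRing R] [IsRegularLocalRing R] [CharP R p]

theorem main {E : Type u} [AddCommGroup E] [Module R E] (f : IsLocalRing.ResidueField R →ₗ[R] E)
    (hf : InjHull.IsInjectiveHull f) (M : Type u) [AddCommGroup M] [Module R M]
    (hM : LocCoh.IsPowerTorsion (IsLocalRing.maximalIdeal R) M)
    (e : (ModuleCat.extendScalars (frobenius R p)).obj (ModuleCat.of R M) ≅ ModuleCat.of R M) :
    ∃ ι : Type u, Nonempty (M ≃ₗ[R] (ι →₀ E)) := by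
  classical
  let m := IsLocalRing.maximalIdeal R
  have hp : p.Prime := Fact.out
  have hflat : (frobenius R p).Flat := (Groth.Agent.S0336.result p R).1 inferInstance
  obtain ⟨gs, hcard, hspan⟩ :=
    Submodule.FG.exists_span_finset_card_eq_spanFinrank (IsNoetherian.noetherian (IsLocalRing.maximalIdeal R))
  let rs := gs.toList
  have hrs : Ideal.ofList rs = m := by
    rw [Ideal.ofList]
    refine Eq.trans ?_ hspan
    show Ideal.span _ = Ideal.span (gs : Set R)
    congr 1
    ext x
    simp [rs]
  have hregrs : RingTheory.Sequence.IsRegular R rs :=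
    Regular.Quotient.isRegular_of_span_eq_maximalIdeal rs hrs (by rw [Finset.length_toList, hcard])
  let qs : ℕ → List R := fun n => rs.map fun x => x ^ (p ^ n)
  have hq0 : qs 0 = rs := by simp [qs]
  have hqsucc : ∀ n, qs (n + 1) = (qs n).map (frobenius R p) := fun n => by
    simp [qs, List.map_map, Function.comp_def, frobenius_def, pow_succ, pow_mul]
  have hmem : ∀ n, ∀ x ∈ qs n, x ∈ m ^ (p ^ n) := fun n x hx => by
    obtain ⟨y, hy, rfl⟩ := List.mem_map.1 hx
    exact Ideal.pow_mem_pow (hrs ▸ Ideal.subset_span hy) _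
  have hwr : ∀ n, RingTheory.Sequence.IsWeaklyRegular R (qs n) := fun n => by
    induction n with
    | zero => rw [hq0]; exact hregrs.toIsWeaklyRegular
    | succ n ih => rw [hqsucc]; exact isWeaklyRegular_map (frobenius R p) hflat ih
  obtain ⟨J, ψ, hψ, hsocle⟩ := InjHull.Derivations.exists_socle_embedding
    (R := R) (M := M) (m := IsLocalRing.maximalIdeal R) (show (R ⧸ IsLocalRing.maximalIdeal R) →ₗ[R] E from f) hf hM
  -- the torsion by each of the Frobenius powers is free
  obtain ⟨ι, hι⟩ : ∃ ι : Type u, ∀ n, Nonempty (Submodule.torsionBySet R M (Ideal.ofList (qs n) : Set R) ≃ₗ[R]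
      (ι →₀ R ⧸ Ideal.ofList (qs n))) := by
    obtain ⟨ι, h0⟩ : ∃ ι : Type u, Nonempty (Submodule.torsionBySet R M (Ideal.ofList (qs 0) : Set R) ≃ₗ[R]
        (ι →₀ R ⧸ Ideal.ofList (qs 0))) := by
      rw [hq0]
      haveI : (Ideal.ofList rs).IsMaximal := hrs ▸ IsLocalRing.maximalIdeal.isMaximal R
      let T := Submodule.torsionBySet R M (Ideal.ofList rs : Set R)
      letI : Field (R ⧸ Ideal.ofList rs) := Ideal.Quotient.field _
      have hT : Module.IsTorsionBySet R T (Ideal.ofList rs : Set R) := fun x a => Subtype.ext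
        ((Submodule.mem_torsionBySet_iff _ _).1 x.2 a)
      letI : Module (R ⧸ Ideal.ofList rs) T := hT.module
      haveI : IsScalarTower R (R ⧸ Ideal.ofList rs) T := hT.isScalarTower
      exact ⟨_, ⟨(Module.Basis.ofVectorSpace (R ⧸ Ideal.ofList rs) T).repr.restrictScalars R⟩⟩
    refine ⟨ι, fun n => ?_⟩
    induction n with
    | zero => exact h0
    | succ n ih => rw [hqsucc]; exact nonempty_torsion_baseChange (frobenius R p) hflat (qs n) M M e ih
  refine ⟨J, ⟨LinearEquiv.ofBijective ψ ⟨hψ, fun z => ?_⟩⟩⟩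
  have hE := InjHull.Matlis.isPowerTorsion (m := IsLocalRing.maximalIdeal R)
    (show InjHull.IsEssentialInj (show (R ⧸ IsLocalRing.maximalIdeal R) →ₗ[R] E from f) from hf.toIsEssentialInj)
  choose N hN using fun j => hE (z j)
  obtain ⟨n, hn⟩ : ∃ n, z.support.sup N ≤ p ^ n := ⟨_, (Nat.lt_pow_self hp.one_lt).le⟩
  let I := Ideal.ofList (qs n)
  have hIm : I ≤ m ^ (p ^ n) := Ideal.span_le.2 (hmem n)
  have hz : ∀ a ∈ I, a • z = 0 := fun a ha => Finsupp.ext fun j => by
    rw [Finsupp.smul_apply, Finsupp.zero_apply]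
    by_cases hj : j ∈ z.support
    · exact hN j a (Ideal.pow_le_pow_right ((Finset.le_sup hj).trans hn) (hIm ha))
    · rw [Finsupp.notMem_support_iff.1 hj, smul_zero]
  have hIle : I ≤ m := hIm.trans (Ideal.pow_le_self (pow_ne_zero _ hp.ne_zero))
  haveI : Nontrivial (R ⧸ I) :=
    Ideal.Quotient.nontrivial_iff.2 (ne_top_of_le_ne_top (IsLocalRing.maximalIdeal.isMaximal R).ne_top hIle)
  haveI : IsLocalRing (R ⧸ I) := IsLocalRing.of_surjective' _ Ideal.Quotient.mk_surjective
  haveI := Goren.Basic.isGorensteinLocalRing_of_isRegular R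
  haveI hG : LocCoh.IsGorensteinLocalRing (R ⧸ I) := Goren.LCI.gorenstein_quotient_of_isWeaklyRegular R (qs n)
    (fun x hx => Ideal.pow_le_self (pow_ne_zero _ hp.ne_zero) (hmem n x hx)) (hwr n)
  haveI : Ring.KrullDimLE 0 (R ⧸ I) := Ring.KrullDimLE.mk₀ fun P hP => by
    have hc : P.comap (Ideal.Quotient.mk I) = m := by
      refine le_antisymm (IsLocalRing.le_maximalIdeal (Ideal.IsPrime.comap (Ideal.Quotient.mk I)).ne_top) ?_
      rw [← hrs, Ideal.ofList, Ideal.span_le]
      intro x hx
      refine (Ideal.IsPrime.comap (Ideal.Quotient.mk I)).mem_of_pow_mem (p ^ n) ?_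
      show Ideal.Quotient.mk I (x ^ p ^ n) ∈ P
      rw [Ideal.Quotient.eq_zero_iff_mem.2 (show x ^ p ^ n ∈ I from Ideal.subset_span (List.mem_map.2 ⟨x, hx, rfl⟩))]
      exact zero_mem P
    haveI : (P.comap (Ideal.Quotient.mk I)).IsMaximal := hc ▸ IsLocalRing.maximalIdeal.isMaximal R
    have h1 := Ideal.map_comap_of_surjective _ (Ideal.Quotient.mk_surjective (I := I)) P
    exact h1 ▸ (‹(P.comap (Ideal.Quotient.mk I)).IsMaximal›).map_of_surjective_of_ker_le
      Ideal.Quotient.mk_surjective (Ideal.comap_mono bot_le)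
  haveI : IsArtinianRing (R ⧸ I) := IsNoetherianRing.isArtinianRing_of_krullDimLE_zero
  obtain ⟨k, hk⟩ := hG.exists_hasInjectiveDimensionLT
  have hself : Module.Injective (R ⧸ I) (R ⧸ I) :=
    (Module.injective_iff_injective_object _ _).2 (injective_iff_hasInjectiveDimensionLT_one.2
      (Goren.Basic.injective_of_depth_eq_zero Goren.Artin.depth_eq_zero hk))
  let T := Submodule.torsionBySet R M (I : Set R)
  let G := Submodule.torsionBySet R (J →₀ E) (I : Set R)
  have hT : Module.IsTorsionBySet R T (I : Set R) := fun x a => Subtype.ext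
    ((Submodule.mem_torsionBySet_iff _ _).1 x.2 a)
  have hG : Module.IsTorsionBySet R G (I : Set R) := fun x a => Subtype.ext
    ((Submodule.mem_torsionBySet_iff _ _).1 x.2 a)
  letI : Module (R ⧸ I) T := hT.module
  haveI : IsScalarTower R (R ⧸ I) T := hT.isScalarTower
  letI : Module (R ⧸ I) G := hG.module
  haveI : IsScalarTower R (R ⧸ I) G := hG.isScalarTower
  obtain ⟨eT⟩ := hι n
  haveI : Module.Injective (R ⧸ I) T := InjHull.Basic.injective_of_equiv
    (I := ι →₀ R ⧸ I) (LinearEquiv.extendScalarsOfSurjective (Ideal.Quotient.mk_surjective : Function.Surjective (algebraMap R (R ⧸ I))) eT.symm)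
    (InjHull.Basic.injective_of_equiv (I := DirectSum ι fun _ => R ⧸ I) (finsuppLEquivDirectSum (R ⧸ I) (R ⧸ I) ι).symm
      (InjHull.Noeth.injective_directSum (fun _ : ι => R ⧸ I) fun _ => hself))
  let ψR : T →ₗ[R] G := (ψ ∘ₗ T.subtype).codRestrict G fun x =>
    (Submodule.mem_torsionBySet_iff _ _).2 fun a => by
      show (a : R) • ψ x.1 = 0
      rw [← map_smul, (Submodule.mem_torsionBySet_iff _ _).1 x.2 a, map_zero]
  let ψI : T →ₗ[R ⧸ I] G := ψR.extendScalarsOfSurjective (Ideal.Quotient.mk_surjective : Function.Surjective (algebraMap R (R ⧸ I)))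
  obtain ⟨r, hr⟩ := Module.Injective.out ψI (fun a b h => Subtype.ext (hψ (congrArg Subtype.val h))) (LinearMap.id : T →ₗ[R ⧸ I] T)
  let zG : G := ⟨z, (Submodule.mem_torsionBySet_iff _ _).2 fun a => hz a a.2⟩
  let w : J →₀ E := z - ψ (r zG).1
  suffices w = 0 from ⟨(r zG).1, (sub_eq_zero.1 this).symm⟩
  by_contra hw
  have htor : LocCoh.IsPowerTorsion m (Submodule.span R {w}) := fun x => by
    obtain ⟨c, hc⟩ := Submodule.mem_span_singleton.1 x.2
    choose N' hN' using fun j => hE (w j)
    refine ⟨w.support.sup N', fun a ha => Subtype.ext ?_⟩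
    show a • x.1 = 0
    rw [← hc, smul_comm]
    refine (congrArg (c • ·) (Finsupp.ext fun j => ?_)).trans (smul_zero c)
    rw [Finsupp.smul_apply, Finsupp.zero_apply]
    by_cases hj : j ∈ w.support
    · exact hN' j a (Ideal.pow_le_pow_right (Finset.le_sup hj) ha)
    · rw [Finsupp.notMem_support_iff.1 hj, smul_zero]
  obtain ⟨a, ha0, ha⟩ := InjHull.Artinian.exists_smul_mem_torsionBy htor
    (x := (⟨w, Submodule.mem_span_singleton_self w⟩ : Submodule.span R {w})) (fun h => hw (congrArg Subtype.val h))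
  have haw : ∀ c ∈ m, c • (a • w) = 0 := fun c hc =>
    congrArg Subtype.val ((Submodule.mem_torsionBySet_iff _ _).1 ha ⟨c, hc⟩)
  obtain ⟨x, hx⟩ := hsocle (a • w) haw
  have hxT : x ∈ T := (Submodule.mem_torsionBySet_iff _ _).2 fun c => hψ (by
    rw [map_smul, hx, map_zero]; exact haw c (hIle c.2))
  have e1 : ψR ⟨x, hxT⟩ = a • (zG - ψR (r zG)) := Subtype.ext hx
  have e2 : r (ψR ⟨x, hxT⟩) = (⟨x, hxT⟩ : T) := hr ⟨x, hxT⟩
  rw [e1, ← algebraMap_smul (R ⧸ I) a, map_smul, map_sub,
    show r (ψR (r zG)) = r zG from hr (r zG), sub_self, smul_zero] at e2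
  refine ha0 (Subtype.ext ?_)
  show a • w = 0
  rw [← hx, show x = 0 from (congrArg Subtype.val e2).symm, map_zero]

end Groth.Agent.Lib.LCFin.FrobStable
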