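import Groth.Agent.Lib.LCFin.Gorenstein
import Groth.Agent.Lib.LCFin.Faltings
import Groth.Agent.Lib.LCFin.Top
import Groth.Agent.Lib.LCFin.CMDim
import Groth.Agent.Lib.LCFin.Annihilator
import Groth.Agent.Lib.InjHull.Complete
import Groth.Agent.Lib.LocalCoh.Away
import Groth.Agent.Lib.Adic.Complete
import Groth.Agent.Lib.Cohen.CompleteNagata
import Groth.Agent.Lib.Regular.UFD
import Groth.Agent.Lib.Goren.Rings
import Groth.Agent.Lib.Dim.Integral
import Mathlib.FieldTheory.Minpoly.IsIntegrallyClosed

/-!
The Hartshorne–Lichtenbaum vanishing theorem for complete local domains.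
-/

universe u

open CategoryTheory
open scoped Pointwise
open Groth.Agent.Lib.LocalCoh Groth.Agent.Lib.LCFin.Seq Groth.Agent.Lib.LCFin.Cd
  Groth.Agent.Lib.InjHull

namespace Groth.Agent.Lib.LCFin.HLVT

/-- The socle layer of the first nonvanishing local cohomology is finite. -/
theorem finite_torsionBy_H {R : Type u} [CommRing R] [IsNoetherianRing R] (p : Ideal R) :
    ∀ (g : ℕ) (M : Type u) [AddCommGroup M] [Module R M] [Module.Finite R M],
      (∀ j < g, Subsingleton (LocCoh.H p j M)) →
      Module.Finite R (LocCoh.torsionBy p (LocCoh.H p g M)) := by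
  intro g
  induction g with
  | zero =>
    intro M _ _ _ _
    have := Faltings.finite_H_zero p M
    exact Module.Finite.of_injective (LocCoh.torsionBy p (LocCoh.H p 0 M)).subtype
      (Submodule.injective_subtype _)
  | succ g ih =>
    intro M _ _ _ h
    obtain ⟨y, hy, hreg⟩ := Faltings.exists_regular p p Ideal.le_radical M
      ((subsingleton_H_zero_iff p M).1 (h 0 g.succ_pos))
    let f := LinearMap.lsmul R M y
    have hg := Submodule.mkQ_surjective (y • (⊤ : Submodule R M))
    have hex := Faltings.exact_lsmul_mkQ M y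
    let δ' := Seq.δ p (f := f) (g := Submodule.mkQ _) hreg hg hex g
    have hinj : Function.Injective δ' := by
      rw [← LinearMap.ker_eq_bot, Submodule.eq_bot_iff]
      intro z hz
      obtain ⟨w, rfl⟩ := (exact_map_δ p (f := f) (g := Submodule.mkQ _) hreg hg hex g z).1 hz
      rw [(h g g.lt_succ_self).elim w 0, map_zero]
    have hQ : ∀ j < g, Subsingleton (LocCoh.H p j (QuotSMulTop y M)) := fun j hj =>
      subsingleton_right p (f := f) hreg hg hex j (h j (by omega)) (h (j + 1) (by omega))
    have := ih (QuotSMulTop y M) hQ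
    have hle : LocCoh.torsionBy p (LocCoh.H p (g + 1) M) ≤
        (LocCoh.torsionBy p (LocCoh.H p g (QuotSMulTop y M))).map δ' := by
      intro z hz
      have hz' : ∀ a ∈ p, a • z = 0 := fun a ha => (Submodule.mem_torsionBySet_iff _ _).1 hz ⟨a, ha⟩
      obtain ⟨w, rfl⟩ := (exact_δ_map p (f := f) (g := Submodule.mkQ _) hreg hg hex g z).1
        ((Hmap_lsmul p (g + 1) y z).trans (hz' y hy))
      refine ⟨w, (Submodule.mem_torsionBySet_iff _ _).2 fun ⟨a, ha⟩ => hinj ?_, rfl⟩
      rw [map_smul, map_zero]
      exact hz' a ha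
    exact Module.Finite.iff_fg.2 (Submodule.FG.of_le ((Module.Finite.iff_fg.1 this).map δ') hle)

/-- The top local cohomology of a complete Gorenstein domain at a prime of dimension one vanishes. -/
theorem subsingleton_gorenstein {B : Type u} [CommRing B] [IsDomain B]
    [LocCoh.IsGorensteinLocalRing B] [IsPrecomplete (IsLocalRing.maximalIdeal B) B] (p : Ideal B)
    [p.IsPrime] (hp : ringKrullDim (B ⧸ p) = (1 : ℕ)) {d : ℕ} (hd : ringKrullDim B = d) :
    Subsingleton (LocCoh.H p d B) := by
  have hCM : LocCoh.IsCohenMacaulayLocalRing B := Annihilator.isCohenMacaulay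
  obtain ⟨e, k, he, hk, hsum⟩ := CMDim.exists_dims p hd
  obtain rfl : k = 1 := by exact_mod_cast hk.symm.trans hp
  obtain rfl : d = e + 1 := hsum.symm
  have hpm : p ≠ IsLocalRing.maximalIdeal B := by
    rintro rfl
    let : Field (B ⧸ IsLocalRing.maximalIdeal B) := Ideal.Quotient.field _
    rw [ringKrullDim_eq_zero_of_field] at hp
    exact absurd hp (by exact_mod_cast Nat.zero_ne_one)
  obtain ⟨x, hxm, hxp⟩ := SetLike.exists_of_lt (lt_of_le_of_ne (IsLocalRing.le_maximalIdeal
    (Ideal.IsPrime.ne_top ‹p.IsPrime›)) hpm)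
  -- only the maximal ideal lies above `p + (x)`
  have habove : ∀ q : Ideal B, q.IsPrime → p ≤ q → q = p ∨ q = IsLocalRing.maximalIdeal B := by
    intro q hq hpq
    by_contra hne
    push Not at hne
    have h1 := Depth.Assoc.ringKrullDim_quotient_add_one_le_of_lt (lt_of_le_of_ne hpq hne.1.symm)
    have h2 := Depth.Assoc.ringKrullDim_quotient_add_one_le_of_lt
      (lt_of_le_of_ne (IsLocalRing.le_maximalIdeal hq.ne_top) hne.2)
    rw [hp] at h1
    obtain ⟨l, hl⟩ := Depth.CM.supportDim_eq_nat (R := B) (B ⧸ q)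
    rw [Module.supportDim_quotient_eq_ringKrullDim] at hl
    let : Field (B ⧸ IsLocalRing.maximalIdeal B) := Ideal.Quotient.field _
    rw [hl, ringKrullDim_eq_zero_of_field] at h2
    rw [hl] at h1
    have h3 : l + 1 ≤ 1 := by exact_mod_cast h1
    have h4 : 0 + 1 ≤ l := by exact_mod_cast h2
    omega
  by_contra hne
  rw [not_subsingleton_iff_nontrivial] at hne
  set I' := p ⊔ Ideal.span {x} with hI'
  have hI'm : I' ≤ IsLocalRing.maximalIdeal B := sup_le (IsLocalRing.le_maximalIdeal
    (Ideal.IsPrime.ne_top ‹p.IsPrime›)) ((Ideal.span_singleton_le_iff_mem _).2 hxm)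
  have hxI : x ∈ I' := Ideal.mem_sup_right (Ideal.mem_span_singleton_self x)
  have hpoints : ∀ q : PrimeSpectrum B, I' ≤ q.asIdeal → IsLocalRing.maximalIdeal B ≤ q.asIdeal := by
    intro q hq
    rcases habove q.asIdeal q.2 (le_sup_left.trans hq) with h | h
    · exact absurd (h ▸ hq hxI) hxp
    · exact h.ge
  -- the hull
  obtain ⟨g, hg⟩ := Gorenstein.exists_isInjectiveHull B (e + 1) hd
  let ρ := ((Dual2.HmapOfLE hI'm (e + 1)).app (ModuleCat.of B B)).hom
  have hρ : Function.Bijective ρ := by
    obtain ⟨h1, h2⟩ := HmapOfLE_surjective_injective_of_local B (e + 1) I'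
      (IsLocalRing.maximalIdeal B) hI'm
    exact ⟨h2 fun q hq hq' => absurd (hpoints q hq) hq', h1 fun q hq hq' => absurd (hpoints q hq) hq'⟩
  let Ψ := LinearEquiv.ofBijective ρ hρ
  let res := ((Dual2.HmapOfLE (le_sup_left : p ≤ I') (e + 1)).app (ModuleCat.of B B)).hom
  have hres : Function.Surjective res :=
    Top.HmapOfLE_top_surjective (M := B) (le_sup_left : p ≤ I') hd.le fun q hq hpq => by
      rw [IsLocalRing.eq_maximalIdeal hq]; exact hI'm
  -- a nonzero element killing the kernel
  obtain ⟨r, hr0, hr⟩ : ∃ r : B, r ≠ 0 ∧ ∀ z, res z = 0 → r • z = 0 := by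
    obtain ⟨h, hh⟩ := exists_ne (0 : LocCoh.H p (e + 1) B)
    obtain ⟨φ, hφ⟩ : ∃ φ : LocCoh.H p (e + 1) B →ₗ[B] LocCoh.H (IsLocalRing.maximalIdeal B) (e + 1) B,
        φ h ≠ 0 := by
      by_contra hc
      push Not at hc
      exact hh (Matlis.eq_zero_of_forall_dual hg hc)
    obtain ⟨r, hr⟩ := Complete.exists_smul_eq_of_isPrecomplete hg (φ ∘ₗ res ∘ₗ Ψ.toLinearMap)
    refine ⟨r, fun h0 => hφ ?_, fun z hz => ?_⟩
    · obtain ⟨z, rfl⟩ := hres h
      obtain ⟨z, rfl⟩ := Ψ.surjective z
      exact (hr z).trans (by rw [h0, zero_smul])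
    · obtain ⟨z, rfl⟩ := Ψ.surjective z
      rw [← map_smul, ← hr z]
      show Ψ (φ (res (Ψ z))) = 0
      rw [hz, map_zero, map_zero]
  obtain ⟨δ, -, hex, hθδ, hδ⟩ := exists_lc_awaySeq x p (ModuleCat.of B B)
  let θ := ((localCohomology p e).map (awayHom x (ModuleCat.of B B))).hom
  have hW := smul_bijective_lc_away (b := x) (a := p) (ModuleCat.of B B) e
  have hWk : ∀ k : ℕ, Function.Bijective fun w : (localCohomology p e).obj (awayObj x (ModuleCat.of B B)) =>
      x ^ k • w := by
    intro k
    induction k with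
    | zero =>
      simp only [pow_zero, one_smul]
      exact Function.bijective_id
    | succ k ih =>
      simp only [pow_succ, mul_smul]
      exact ih.comp hW
  have hlift : ∀ w, ∃ (k : ℕ) (h : LocCoh.H p e B), θ h = x ^ k • w := by
    intro w
    obtain ⟨k, hk⟩ := isPowerTorsion_lc I' (e + 1) (ModuleCat.of B B) (δ e w)
    obtain ⟨h, hh⟩ := (hθδ e (x ^ k • w)).1 (by rw [map_smul]; exact hk _ (Ideal.pow_mem_pow hxI k))
    exact ⟨k, h, hh⟩
  -- the kernel is divisible, hence zero
  have hδ0 : ∀ w, δ e w = 0 := by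
    intro w
    obtain ⟨w', rfl⟩ : ∃ w', r • w' = w := by
      obtain ⟨k, h, hh⟩ := hlift w
      let f := LinearMap.lsmul B B r
      have hf : Function.Injective f := fun a b hab => mul_left_cancel₀ hr0 hab
      have hqs := Submodule.mkQ_surjective (r • (⊤ : Submodule B B))
      have hexq := Faltings.exact_lsmul_mkQ B r
      obtain ⟨l, hl⟩ := exists_pow_smul_eq_zero_of_local (QuotSMulTop r B) e x p (fun q hq hxq => by
        rcases habove q.asIdeal q.2 hq with h' | h'
        swap
        · exact absurd (h' ▸ hxm) hxq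
        obtain ⟨qi, hqi⟩ := q
        obtain rfl : qi = p := h'
        refine lc_subsingleton_of_supportDim_lt e _ _ _ ?_
        have hreg : IsSMulRegular (Localization.AtPrime qi) (algebraMap B (Localization.AtPrime qi) r) :=
          fun a b hab => mul_left_cancel₀ (fun h0 => hr0 (IsLocalization.injective (Localization.AtPrime qi)
            qi.primeCompl_le_nonZeroDivisors (h0.trans (map_zero _).symm))) hab
        rw [Module.supportDim_eq_of_equiv (Depth.CM.quotSMulTopLocalizedEquiv qi B r)]
        by_cases hu : algebraMap B (Localization.AtPrime qi) r ∈ IsLocalRing.maximalIdeal (Localization.AtPrime qi)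
        · have hadd := Module.supportDim_quotSMulTop_succ_eq_supportDim (M := Localization.AtPrime qi) hreg hu
          rw [Module.supportDim_self_eq_ringKrullDim, he] at hadd
          change Module.supportDim (Localization.AtPrime qi)
            (QuotSMulTop (algebraMap B (Localization.AtPrime qi) r) (Localization.AtPrime qi)) < _
          revert hadd
          generalize Module.supportDim (Localization.AtPrime qi)
            (QuotSMulTop (algebraMap B (Localization.AtPrime qi) r) (Localization.AtPrime qi)) = D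
          intro hadd
          rcases eq_or_ne D ⊥ with hD | hD
          · rw [hD]; exact WithBot.bot_lt_coe _
          obtain ⟨D', rfl⟩ := WithBot.ne_bot_iff_exists.1 hD
          have hD' : D' + 1 = (e : ℕ∞) := WithBot.coe_injective hadd
          refine WithBot.coe_lt_coe.2 ?_
          rw [← hD']
          exact (ENat.lt_add_one_iff (ne_top_of_le_ne_top (hD' ▸ ENat.natCast_ne_top e) le_self_add)).2 le_rfl
        · rw [IsLocalRing.mem_maximalIdeal, mem_nonunits_iff, not_not] at hu
          have : Subsingleton (QuotSMulTop (algebraMap B (Localization.AtPrime qi) r)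
              (LocalizedModule qi.primeCompl B)) := by
            refine subsingleton_of_forall_eq 0 fun z => ?_
            obtain ⟨z, rfl⟩ := Submodule.Quotient.mk_surjective _ z
            rw [Submodule.Quotient.mk_eq_zero, ← one_smul (Localization.AtPrime qi) z, ← hu.mul_val_inv,
              mul_smul]
            exact Submodule.smul_mem_pointwise_smul _ _ _ Submodule.mem_top
          rw [Module.supportDim_eq_bot_of_subsingleton]
          exact WithBot.bot_lt_coe _)
        (Hmap p e (Submodule.mkQ _) h)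
      obtain ⟨h', hh'⟩ := (exact_map_map p (f := f) (g := Submodule.mkQ _) hf hqs hexq e (x ^ l • h)).1 (by
        rw [map_smul]; exact hl)
      obtain ⟨w', hw'⟩ := (hWk (l + k)).2 (θ h')
      refine ⟨w', (hWk (l + k)).1 ?_⟩
      have e1 : r • h' = x ^ l • h := (Hmap_lsmul p e r h').symm.trans hh'
      show x ^ (l + k) • r • w' = x ^ (l + k) • w
      rw [smul_comm, show x ^ (l + k) • w' = θ h' from hw', ← map_smul, e1, map_smul, hh, pow_add, mul_smul]
    rw [map_smul]
    exact hr _ ((hδ e).apply_apply_eq_zero w')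
  have hlow : ∀ j, j < e + 1 → Subsingleton (LocCoh.H I' j B) := by
    intro j hj
    have h1 := Gorenstein.subsingleton_H_of_lt (R := B) hd hj
    obtain ⟨-, h2⟩ := HmapOfLE_surjective_injective_of_local B j I'
      (IsLocalRing.maximalIdeal B) hI'm
    obtain ⟨h3, -⟩ := HmapOfLE_surjective_injective_of_local B j I'
      (IsLocalRing.maximalIdeal B) hI'm
    exact (h3 fun q hq hq' => absurd (hpoints q hq) hq').subsingleton
  have hθ : Function.Bijective θ := by
    refine ⟨?_, fun w => (hθδ e w).1 (hδ0 w)⟩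
    rw [← LinearMap.ker_eq_bot, Submodule.eq_bot_iff]
    intro z hz
    obtain ⟨w, rfl⟩ := (hex e z).1 hz
    rw [(hlow e e.lt_succ_self).elim w 0, map_zero]
  have hxbij : Function.Bijective fun z : LocCoh.H p e B => x • z := by
    refine ⟨fun a b hab => hθ.1 (hW.1 ?_), fun z => ?_⟩
    · show x • θ a = x • θ b
      rw [← map_smul, ← map_smul]
      exact congrArg θ hab
    · obtain ⟨w, hw⟩ := hW.2 (θ z)
      obtain ⟨z', rfl⟩ := hθ.2 w
      exact ⟨z', hθ.1 (by rw [map_smul]; exact hw)⟩
  -- finiteness gives vanishing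
  have hgrade : ∀ j < e, Subsingleton (LocCoh.H p j B) := by
    refine (Depth.LocalCoh.le_idealDepth_iff_H p B e).1 ?_
    rw [Depth.Local.idealDepth_eq_iInf p B]
    refine le_iInf₂ fun q hq => ?_
    have := Depth.CM.isCohenMacaulayLocalRing_localization q.asIdeal
    obtain ⟨hq1, kq, h1, h2, h3⟩ := CMDim.exists_dims q.asIdeal hd
    have h4 : kq ≤ 1 := by
      have h5 : ringKrullDim (B ⧸ q.asIdeal) ≤ ringKrullDim (B ⧸ p) :=
        ringKrullDim_le_of_surjective (Ideal.Quotient.factor hq) (Ideal.Quotient.factor_surjective _)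
      rw [h2, hp] at h5
      exact_mod_cast h5
    have h6 := (Depth.CM.ringKrullDim_eq_depth (R := Localization.AtPrime q.asIdeal)).symm.trans h1
    have h7 : LocCoh.depth (Localization.AtPrime q.asIdeal) (Localization.AtPrime q.asIdeal) = (hq1 : ℕ∞) :=
      WithBot.coe_injective h6
    exact le_of_le_of_eq (Nat.cast_le.2 (show e ≤ hq1 by omega)) h7.symm
  let T := LocCoh.torsionBy p (LocCoh.H p e B)
  have hTfin : Module.Finite B T := finite_torsionBy_H p e B hgrade
  have hT : (⊤ : Submodule B T) ≤ Ideal.span {x} • (⊤ : Submodule B T) := by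
    rintro ⟨z, hz⟩ -
    obtain ⟨z', hz'⟩ := hxbij.2 z
    have hmem : z' ∈ T := (Submodule.mem_torsionBySet_iff _ _).2 fun ⟨a, ha⟩ => hxbij.1 (by
      show x • a • z' = x • 0
      rw [smul_zero, smul_comm, show x • z' = z from hz']
      exact (Submodule.mem_torsionBySet_iff _ _).1 hz ⟨a, ha⟩)
    rw [show (⟨z, hz⟩ : T) = x • ⟨z', hmem⟩ from Subtype.ext hz'.symm]
    exact Submodule.smul_mem_smul (Ideal.mem_span_singleton_self x) Submodule.mem_top
  have hT0 := Submodule.eq_bot_of_le_smul_of_le_jacobson_bot _ _ hTfin.fg_top hT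
    ((Ideal.span_singleton_le_iff_mem _).2 (IsLocalRing.maximalIdeal_le_jacobson _ hxm))
  have hzero : Subsingleton (LocCoh.H p e B) := subsingleton_of_forall_eq 0 fun z => by
    by_contra hz
    obtain ⟨c, hc0, hc⟩ := InjHull.Artinian.exists_smul_mem_torsionBy (isPowerTorsion_lc p e (ModuleCat.of B B)) hz
    have : (⟨c • z, hc⟩ : T) ∈ (⊥ : Submodule B T) := hT0 ▸ Submodule.mem_top
    exact hc0 (congrArg Subtype.val ((Submodule.mem_bot B).1 this))
  -- contradiction at `p`
  have := Depth.CM.isCohenMacaulayLocalRing_localization p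
  have hnz := (Nonvanishing.nontrivial_and_not_finite e (Localization.AtPrime p)
    ((Module.supportDim_self_eq_ringKrullDim (R := Localization.AtPrime p)).trans he)).1
  obtain ⟨ε⟩ := nonempty_lc_localizedModule_equiv p p.primeCompl B e
  have hsub : Subsingleton (LocalizedModule p.primeCompl (LocCoh.H p e B)) :=
    subsingleton_of_forall_eq 0 fun z => by
      induction z using LocalizedModule.induction_on with
      | h y t => rw [hzero.elim y 0, LocalizedModule.zero_mk]
  have h8 : Subsingleton (LocCoh.H (p.map (algebraMap B (Localization p.primeCompl))) e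
      (LocalizedModule p.primeCompl B)) := ε.symm.toEquiv.subsingleton
  have hm := Localization.AtPrime.map_eq_maximalIdeal (I := p)
  rw [hm] at h8
  exact not_subsingleton_iff_nontrivial.2 hnz h8

/-- A subring over which a complete ring is finite is complete. -/
theorem isPrecomplete_of_injective {B S : Type u} [CommRing B] [IsNoetherianRing B] [IsLocalRing B]
    [CommRing S] [IsLocalRing S] [IsNoetherianRing S] [Algebra B S] [Module.Finite B S]
    [IsAdicComplete (IsLocalRing.maximalIdeal S) S] (hinj : Function.Injective (algebraMap B S))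
    (hm : (IsLocalRing.maximalIdeal B).map (algebraMap B S) ≤ IsLocalRing.maximalIdeal S) :
    IsPrecomplete (IsLocalRing.maximalIdeal B) B := by
  set m := IsLocalRing.maximalIdeal B
  obtain ⟨c, hc⟩ := m.exists_pow_inf_eq_pow_smul (LinearMap.range (Algebra.linearMap B S))
  have hrad : IsLocalRing.maximalIdeal S ≤ (m.map (algebraMap B S)).radical := by
    rw [Ideal.radical_eq_sInf]
    refine le_sInf fun P ⟨hP, hPp⟩ => ?_
    have h1 : m ≤ P.comap (algebraMap B S) := Ideal.map_le_iff_le_comap.1 hP
    have h2 : (P.comap (algebraMap B S)).IsMaximal := by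
      rw [← (IsLocalRing.maximalIdeal.isMaximal B).eq_of_le (Ideal.IsPrime.ne_top inferInstance) h1]
      exact IsLocalRing.maximalIdeal.isMaximal B
    have : Algebra.IsIntegral B S := Algebra.IsIntegral.of_finite B S
    exact (IsLocalRing.eq_maximalIdeal (Ideal.isMaximal_of_isIntegral_of_isMaximal_comap P h2)).ge
  obtain ⟨N, hN⟩ := Ideal.exists_pow_le_of_le_radical_of_fg hrad (IsNoetherian.noetherian _)
  refine ⟨fun {b} hb => ?_⟩
  have hb' : ∀ {i j}, i ≤ j → b i - b j ∈ m ^ i := fun {i j} hij => by
    have := SModEq.sub_mem.1 (hb hij)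
    rwa [smul_eq_mul, Ideal.mul_top] at this
  have hcau : ∀ {i j : ℕ}, i ≤ j → algebraMap B S (b i) ≡ algebraMap B S (b j)
      [SMOD ((IsLocalRing.maximalIdeal S) ^ i • (⊤ : Submodule S S))] := fun {i j} hij => by
    rw [SModEq.sub_mem, smul_eq_mul, Ideal.mul_top, ← map_sub]
    refine Ideal.pow_right_mono hm i ?_
    rw [← Ideal.map_pow]
    exact Ideal.mem_map_of_mem _ (hb' hij)
  obtain ⟨L, hL⟩ := IsPrecomplete.prec (I := IsLocalRing.maximalIdeal S) inferInstance hcau
  have hLn : ∀ n, L - algebraMap B S (b n) ∈ (m ^ n).map (algebraMap B S) := by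
    intro n
    set k := N * n + n with hk
    have h1 : L - algebraMap B S (b k) ∈ (m ^ n).map (algebraMap B S) := by
      have := SModEq.sub_mem.1 (hL k)
      rw [smul_eq_mul, Ideal.mul_top] at this
      rw [← neg_sub, neg_mem_iff, Ideal.map_pow]
      refine Ideal.pow_right_mono hN n ?_
      rw [← pow_mul]
      exact Ideal.pow_le_pow_right (by omega) this
    rw [show L - algebraMap B S (b n) = (L - algebraMap B S (b k)) + algebraMap B S (b k - b n) by
      rw [map_sub]; ring]
    refine add_mem h1 (Ideal.mem_map_of_mem _ ?_)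
    rw [← neg_sub, neg_mem_iff]
    exact hb' (by omega)
  have hLB : L ∈ LinearMap.range (Algebra.linearMap B S) := by
    have hbot := Ideal.iInf_pow_smul_eq_bot_of_isLocalRing (I := m)
      (M := S ⧸ LinearMap.range (Algebra.linearMap B S)) (Ideal.IsPrime.ne_top')
    rw [← Submodule.Quotient.mk_eq_zero, ← Submodule.mem_bot B, ← hbot, Submodule.mem_iInf]
    intro n
    have h1 : L - algebraMap B S (b n) ∈ m ^ n • (⊤ : Submodule B S) := by
      rw [Ideal.smul_top_eq_map]
      exact hLn n
    have h2 := Submodule.mem_map_of_mem (f := (LinearMap.range (Algebra.linearMap B S)).mkQ) h1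
    rw [Submodule.map_smul''] at h2
    rw [map_sub, show (LinearMap.range (Algebra.linearMap B S)).mkQ (algebraMap B S (b n)) = 0 from
      (Submodule.Quotient.mk_eq_zero _).2 ⟨b n, rfl⟩, sub_zero] at h2
    exact Submodule.smul_mono le_rfl le_top h2
  obtain ⟨l, rfl⟩ := hLB
  refine ⟨l, fun n => ?_⟩
  rw [SModEq.sub_mem, smul_eq_mul, Ideal.mul_top]
  have h1 : algebraMap B S (b (n + c) - l) ∈ m ^ (n + c) • (⊤ : Submodule B S) ⊓
      LinearMap.range (Algebra.linearMap B S) := by
    refine ⟨?_, _, rfl⟩
    rw [map_sub, ← neg_sub, SetLike.mem_coe, neg_mem_iff, Ideal.smul_top_eq_map]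
    exact hLn (n + c)
  rw [hc (n + c) (by omega), show n + c - c = n by omega] at h1
  have h2 := Submodule.smul_mono le_rfl inf_le_right h1
  rw [LinearMap.range_eq_map, ← Submodule.map_smul''] at h2
  obtain ⟨y, hy, hyv⟩ := h2
  obtain rfl : y = b (n + c) - l := hinj hyv
  rw [SetLike.mem_coe, smul_eq_mul, Ideal.mul_top] at hy
  rw [show b n - l = (b n - b (n + c)) + (b (n + c) - l) by ring]
  exact add_mem (hb' (by omega)) hy

end Groth.Agent.Lib.LCFin.HLVT
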