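import Groth.Agent.Lib.LCFin.HLVT2
import Groth.Agent.Lib.LCFin.Annihilator
import Groth.Agent.Lib.LCFin.Artinian
import Groth.Agent.Lib.LCFin.Finite
import Groth.Agent.Lib.LCFin.CanonCompletion
import Groth.Agent.Lib.Cohen.Presentation
import Groth.Agent.Lib.LocalCoh.ExtCompare

/-!
Dimension bounds for duals of local cohomology, cofiniteness of the top local cohomology.
-/

universe u

open CategoryTheory
open scoped TensorProduct
open Groth.Agent.Lib.LocalCoh Groth.Agent.Lib.LCFin.Seq Groth.Agent.Lib.InjHull

namespace Groth.Agent.Lib.LCFin.HLVT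

theorem dim_le_of_gorenstein {R : Type u} [CommRing R] [LocCoh.IsGorensteinLocalRing R]
    {M : Type u} [AddCommGroup M] [Module R M] [Module.Finite R M] {i : ℕ} {q : Ideal R} [q.IsPrime]
    (hq : Module.annihilator R (LocCoh.H (IsLocalRing.maximalIdeal R) i M) ≤ q) :
    ringKrullDim (R ⧸ q) ≤ i := by
  have := Annihilator.isCohenMacaulay (R := R)
  obtain ⟨d, hd⟩ := Depth.CM.supportDim_eq_nat (R := R) R
  have hd' : ringKrullDim R = d := (Module.supportDim_self_eq_ringKrullDim (R := R)).symm.trans hd
  obtain ⟨h, e', hh, he', hsum⟩ := CMDim.exists_dims q hd'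
  rcases le_or_gt i d with hi | hi
  · obtain ⟨ε⟩ := Duality.exists_duality d hd' M (i := i) (j := d - i) (by omega)
    obtain ⟨g, hg⟩ := Gorenstein.exists_isInjectiveHull R d hd'
    rw [ε.annihilator_eq, ← Matlis.annihilator_dual hg] at hq
    by_contra hc
    refine (Annihilator.notMem_support_ext_iff M (d - i) ⟨q, inferInstance⟩ hh).2 (fun j hj => ?_)
      (Module.mem_support_iff_of_finite.2 hq)
    rw [he'] at hc
    have : i < e' := by
      by_contra hlt
      exact hc (by exact_mod_cast (show e' ≤ i by omega))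
    omega
  · rw [he']
    exact_mod_cast (show e' ≤ i by omega)

/-- Primes containing the annihilator of `H^i` have dimension at most `i`. -/
theorem dim_le_of_annihilator_le {A : Type u} [CommRing A] [IsNoetherianRing A] [IsLocalRing A]
    [IsAdicComplete (IsLocalRing.maximalIdeal A) A]
    {M : Type u} [AddCommGroup M] [Module A M] [Module.Finite A M] {i : ℕ} {q : Ideal A} [q.IsPrime]
    (hq : Module.annihilator A (LocCoh.H (IsLocalRing.maximalIdeal A) i M) ≤ q) :
    ringKrullDim (A ⧸ q) ≤ i := by
  obtain ⟨Λ, _, n, g, -, hreg, hg⟩ := Cohen.Presentation.exists_surjective_mvPowerSeries A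
  let P := MvPowerSeries (Fin n) Λ
  have := Goren.Basic.isGorensteinLocalRing_of_isRegular P
  let : Algebra P A := g.toAlgebra
  let : Module P M := Module.compHom M g
  have : IsScalarTower P A M := IsScalarTower.of_algebraMap_smul fun _ _ => rfl
  have : Module.Finite P A := Module.Finite.of_surjective (Algebra.linearMap P A) hg
  have : Module.Finite P M := Module.Finite.trans A M
  obtain ⟨e, he⟩ := Annihilator.exists_H_addEquiv (R := P) hg M i
  have hle : Module.annihilator P (LocCoh.H (IsLocalRing.maximalIdeal P) i M) ≤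
      q.comap (algebraMap P A) := by
    intro r hr
    refine hq (Module.mem_annihilator.2 fun z => e.injective ?_)
    rw [he, map_zero]
    exact Module.mem_annihilator.1 hr _
  refine le_trans (le_of_eq ?_) (dim_le_of_gorenstein hle)
  exact (ringKrullDim_eq_of_ringEquiv (RingEquiv.ofBijective
    (Ideal.quotientMap q (algebraMap P A) le_rfl)
    ⟨Ideal.quotientMap_injective, Ideal.quotientMap_surjective hg⟩)).symm

/-- `Ext` from a finite module into an Artinian module is Artinian. -/
theorem isArtinian_ext {R : Type u} [CommRing R] [IsNoetherianRing R] (H : Type u) [AddCommGroup H]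
    [Module R H] [IsArtinian R H] : ∀ (j : ℕ) (M : Type u) [AddCommGroup M] [Module R M]
      [Module.Finite R M], IsArtinian R (Abelian.Ext (ModuleCat.of R M) (ModuleCat.of R H) j) := by
  intro j
  induction j with
  | zero =>
    intro M _ _ _
    obtain ⟨s, π, hπ⟩ := Module.Finite.exists_fin' R M
    let T : (M →ₗ[R] H) →ₗ[R] (Fin s → H) :=
      LinearMap.pi fun k => LinearMap.applyₗ (π (Pi.single k 1))
    have hT : Function.Injective T := fun a b h => by
      refine LinearMap.ext fun x => ?_
      obtain ⟨v, rfl⟩ := hπ x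
      rw [pi_eq_sum_univ' v, map_sum, map_sum, map_sum]
      refine Finset.sum_congr rfl fun k _ => ?_
      rw [map_smul, map_smul, map_smul]
      exact congrArg _ (congrFun h k)
    exact isArtinian_of_injective (T ∘ₗ (ExtLoc.homEquiv M H).toLinearMap)
      (hT.comp (ExtLoc.homEquiv M H).injective)
  | succ j ih =>
    intro M _ _ _
    obtain ⟨s, π, hπ⟩ := Module.Finite.exists_fin' R M
    have := ih (LinearMap.ker π)
    exact isArtinian_of_surjective _ _ (ExtLoc.extConn_surjective
      (LinearMap.ker π).injective_subtype hπ (LinearMap.exact_subtype_ker_map π) H inferInstance j)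

/-- The top local cohomology at any ideal is cofinite. -/
theorem exists_pow_le_sup_annihilator {R : Type u} [CommRing R] [IsNoetherianRing R] [IsLocalRing R]
    [IsAdicComplete (IsLocalRing.maximalIdeal R) R] (I : Ideal R) (M : Type u) [AddCommGroup M]
    [Module R M] [Module.Finite R M] {n : ℕ} (hn : Module.supportDim R M ≤ n) :
    ∃ N : ℕ, IsLocalRing.maximalIdeal R ^ N ≤ I ⊔ Module.annihilator R (LocCoh.H I n M) := by
  obtain ⟨E, _, _, f, hf⟩ := InjHull.Basic.exists_hull (R := R) (IsLocalRing.ResidueField R)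
  have := Artinian.isArtinian_H_supportDim I M n hn
  have hfin := (Complete.finite_dual_of_isArtinian hf (LocCoh.H I n M)).1
  refine Ideal.exists_pow_le_of_le_radical_of_fg ?_ (IsNoetherian.noetherian _)
  rw [Matlis.annihilator_dual hf, Ideal.radical_eq_sInf]
  refine le_sInf fun q ⟨hq, hprime⟩ => ?_
  obtain ⟨p, hp, hpq⟩ := Ideal.exists_minimalPrimes_le (le_sup_right.trans hq)
  have hass := Module.associatedPrimes.minimalPrimes_annihilator_subset_associatedPrimes R _ hp
  rw [associatedPrimes_dual_eq hf I hn] at hass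
  exact hass.2.2.2.ge.trans (hprime.radical_le_iff.2 (sup_le (le_sup_left.trans hq) hpq))

/-- `Ext(R/I, H^n_I(M))` has finite length. -/
theorem isFiniteLength_ext {R : Type u} [CommRing R] [IsNoetherianRing R] [IsLocalRing R]
    (I : Ideal R) (M : Type u) [AddCommGroup M] [Module R M] [Module.Finite R M] {n : ℕ}
    (hn : Module.supportDim R M ≤ n) (i : ℕ) :
    IsFiniteLength R (Abelian.Ext (ModuleCat.of R (R ⧸ I)) (ModuleCat.of R (LocCoh.H I n M)) i) := by
  set S := AdicCompletion (IsLocalRing.maximalIdeal R) R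
  set H := LocCoh.H I n M
  set X := Abelian.Ext (ModuleCat.of R (R ⧸ I)) (ModuleCat.of R H) i
  have hart : IsArtinian R H := Artinian.isArtinian_H_supportDim I M n hn
  have : IsArtinian R X := isArtinian_ext H i (R ⧸ I)
  have htor : LocCoh.IsPowerTorsion (IsLocalRing.maximalIdeal R) H := InjHull.Artinian.isPowerTorsion_of_isArtinian H
  let ε := LinearEquiv.ofBijective _ (Complete.mk_one_bijective (I := IsLocalRing.maximalIdeal R)
    (Ideal.fg_of_isNoetherianRing _) htor : Function.Bijective (TensorProduct.mk R S H 1))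
  let φ : S → (H →ₗ[R] H) := fun s =>
    ε.symm.toLinearMap ∘ₗ ((LinearMap.lsmul S (S ⊗[R] H) s).restrictScalars R) ∘ₗ ε.toLinearMap
  obtain ⟨c⟩ := nonempty_lcBaseChangeIso (R := R) (I := I) S (ModuleCat.of R M) n
  have hnS : Module.supportDim S (S ⊗[R] M) ≤ n := by
    rcases subsingleton_or_nontrivial M with hM | hM
    · rw [Module.supportDim_eq_bot_of_subsingleton]
      exact bot_le
    · exact (CanonCompletion.supportDim_tensor M).trans_le hn
  obtain ⟨N, hN⟩ := exists_pow_le_sup_annihilator (I.map (algebraMap R S)) (S ⊗[R] M) hnS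
  -- a power of the maximal ideal kills
  have hkill : ∀ r ∈ IsLocalRing.maximalIdeal R ^ N, ∀ x : X, r • x = 0 := by
    intro r hr x
    have hrS : algebraMap R S r ∈ I.map (algebraMap R S) ⊔
        Module.annihilator S (LocCoh.H (I.map (algebraMap R S)) n (S ⊗[R] M)) := by
      refine hN ?_
      rw [AdicCompletion.maximalIdeal_eq_map, ← Ideal.map_pow]
      exact Ideal.mem_map_of_mem _ hr
    obtain ⟨a, ha, b, hb, hab⟩ := Submodule.mem_sup.1 hrS
    have hb0 : φ b = 0 := LinearMap.ext fun h => by
      have h0 : b • ε h = 0 := c.toLinearEquiv.injective (by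
        rw [map_smul, map_zero]
        exact Module.mem_annihilator.1 hb _)
      show ε.symm (b • ε h) = 0
      rw [h0, map_zero]
    let F : (H →ₗ[R] H) →ₗ[R] X :=
      { toFun := fun g => x.comp (Abelian.Ext.mk₀ (ModuleCat.ofHom g)) (add_zero i)
        map_add' := fun g g' => by
          rw [show ModuleCat.ofHom (g + g') = ModuleCat.ofHom g + ModuleCat.ofHom g' from rfl,
            Abelian.Ext.mk₀_add, Abelian.Ext.comp_add]
        map_smul' := fun t g => by
          rw [show ModuleCat.ofHom (t • g) = t • ModuleCat.ofHom g from rfl,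
            Abelian.Ext.mk₀_smul, Abelian.Ext.comp_smul]
          rfl }
    have hI0 : ∀ a' ∈ I, a' • x = 0 := fun a' ha' => by
      rw [← Abelian.Ext.mk₀_id_comp x, ← Abelian.Ext.smul_comp, ← Abelian.Ext.mk₀_smul, show a' • 𝟙 (ModuleCat.of R (R ⧸ I)) = 0 from ModuleCat.hom_ext (LinearMap.ext fun z => by
        obtain ⟨z, rfl⟩ := Ideal.Quotient.mk_surjective z
        show a' • Ideal.Quotient.mk I z = 0
        rw [Algebra.smul_def, Ideal.Quotient.algebraMap_eq, ← map_mul, Ideal.Quotient.eq_zero_iff_mem]
        exact Ideal.mul_mem_right _ _ ha'), Abelian.Ext.mk₀_zero, Abelian.Ext.zero_comp]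
    have hF1 : F LinearMap.id = x := Abelian.Ext.comp_mk₀_id x
    have hFI : ∀ a' ∈ I.map (algebraMap R S), F (φ a') = 0 := by
      intro a' ha'
      rw [Ideal.map] at ha'
      induction ha' using Submodule.span_induction with
      | mem a' ha' =>
        obtain ⟨a₀, ha₀, rfl⟩ := ha'
        rw [show φ (algebraMap R S a₀) = a₀ • LinearMap.id from LinearMap.ext fun h => by
          show ε.symm (algebraMap R S a₀ • ε h) = a₀ • h
          rw [algebraMap_smul, map_smul, ε.symm_apply_apply], map_smul, hF1]
        exact hI0 a₀ ha₀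
      | zero => rw [show φ 0 = 0 from LinearMap.ext fun h => by simp [φ], map_zero]
      | add u v _ _ hu hv =>
        rw [show φ (u + v) = φ u + φ v from LinearMap.ext fun h => by simp [φ, add_smul], map_add,
          hu, hv, add_zero]
      | smul t u hu ih =>
        rw [show φ (t • u) = φ t ∘ₗ φ u from LinearMap.ext fun h => by simp [φ, mul_smul]; exact smul_comm _ _ _]
        show x.comp (Abelian.Ext.mk₀ (ModuleCat.ofHom (φ t ∘ₗ φ u))) (add_zero i) = 0
        rw [ModuleCat.ofHom_comp, ← Abelian.Ext.mk₀_comp_mk₀,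
          ← Abelian.Ext.comp_assoc_of_second_deg_zero,
          show x.comp (Abelian.Ext.mk₀ (ModuleCat.ofHom (φ u))) (add_zero i) = 0 from ih,
          Abelian.Ext.zero_comp]
    have hr1 : r • LinearMap.id = φ a + φ b := LinearMap.ext fun h => by
      show r • h = ε.symm (a • ε h) + ε.symm (b • ε h)
      rw [← map_add, ← add_smul, hab, algebraMap_smul, map_smul, ε.symm_apply_apply]
    rw [← hF1, ← map_smul, hr1, hb0, add_zero]
    exact hFI a ha
  exact Finite.isFiniteLength_of_artinian X N hkill

end Groth.Agent.Lib.LCFin.HLVT
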