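import Groth.Agent.Lib.LCFin.Cd
import Groth.Agent.Lib.Depth.LocalCoh
import Mathlib.Algebra.Module.FinitePresentation
import Mathlib.Algebra.Category.ModuleCat.Projective
import Mathlib.CategoryTheory.Abelian.Projective.Dimension
import Mathlib.RingTheory.Localization.BaseChange

/-!
Elements killing local cohomology below the grade.
-/

universe u

open CategoryTheory
open Groth.Agent.Lib.LocalCoh Groth.Agent.Lib.LCFin.Seq

namespace Groth.Agent.Lib.LCFin.Kill

variable {R : Type u} [CommRing R] (M : Type u) [AddCommGroup M] [Module R M]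

/-- The elements whose homothety factors through a finite free module. -/
def freeIdeal : Ideal R where
  carrier := {r | ∃ (t : ℕ) (ψ : M →ₗ[R] (Fin t → R)) (φ : (Fin t → R) →ₗ[R] M), φ ∘ₗ ψ = r • LinearMap.id}
  zero_mem' := ⟨0, 0, 0, by simp⟩
  add_mem' := by
    rintro a b ⟨t, ψ, φ, h⟩ ⟨t', ψ', φ', h'⟩
    let e := (LinearEquiv.funCongrLeft R R (finSumFinEquiv (m := t) (n := t')))
    refine ⟨t + t', e.symm.toLinearMap ∘ₗ (LinearEquiv.sumArrowLequivProdArrow (Fin t) (Fin t') R R).symm.toLinearMap
      ∘ₗ ψ.prod ψ', φ.coprod φ' ∘ₗ (LinearEquiv.sumArrowLequivProdArrow (Fin t) (Fin t') R R).toLinearMap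
      ∘ₗ e.toLinearMap, ?_⟩
    refine LinearMap.ext fun m => ?_
    simp only [LinearMap.comp_apply, LinearEquiv.coe_coe, LinearEquiv.apply_symm_apply,
      LinearMap.prod_apply, Function.prod_apply, LinearMap.coprod_apply, LinearMap.smul_apply,
      LinearMap.id_apply, add_smul]
    rw [← LinearMap.comp_apply, h, ← LinearMap.comp_apply, h']
    rfl
  smul_mem' := by
    rintro r a ⟨t, ψ, φ, h⟩
    exact ⟨t, ψ, r • φ, by rw [LinearMap.smul_comp, h, smul_smul]; rfl⟩

variable {M}

/-- If the localization is projective, some element of the submonoid factors through a free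
module. -/
theorem exists_mem_freeIdeal [IsNoetherianRing R] [Module.Finite R M] (S : Submonoid R)
    (h : Module.Projective (Localization S) (LocalizedModule S M)) :
    ∃ s ∈ S, s ∈ freeIdeal M := by
  obtain ⟨t, π, hπ⟩ := Module.Finite.exists_fin' R M
  have : Module.FinitePresentation R M := Module.finitePresentation_of_finite R M
  obtain ⟨σ, hσ⟩ := Module.projective_lifting_property (LocalizedModule.map S π) LinearMap.id
    (LocalizedModule.map_surjective S _ hπ)
  obtain ⟨⟨ψ, s⟩, hψ⟩ := IsLocalizedModule.surj S (LocalizedModule.map S (M := M) (N := Fin t → R)) σ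
  -- `π ∘ ψ` and `s • id` agree after localization
  have h1 : LocalizedModule.map S (π ∘ₗ ψ) = LocalizedModule.map S (s.1 • (LinearMap.id : M →ₗ[R] M)) := by
    refine LinearMap.ext fun z => ?_
    have e1 : LocalizedModule.map S (π ∘ₗ ψ) z = LocalizedModule.map S π (LocalizedModule.map S ψ z) := by
      induction z using LocalizedModule.induction_on with
      | h m u => simp [LocalizedModule.map_mk]
    have e2 : LocalizedModule.map S (s.1 • (LinearMap.id : M →ₗ[R] M)) z = s.1 • z := by
      rw [map_smul, LinearMap.smul_apply]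
      congr 1
      induction z using LocalizedModule.induction_on with
      | h m u => simp [LocalizedModule.map_mk]
    rw [e1, e2, ← hψ, LinearMap.smul_apply, Submonoid.smul_def, LinearMap.map_smul_of_tower,
      ← LinearMap.comp_apply, hσ]
    rfl
  obtain ⟨u, hu⟩ := IsLocalizedModule.exists_of_eq (S := S) (f := LocalizedModule.map S (M := M) (N := M)) h1
  refine ⟨u.1 * s.1, S.mul_mem u.2 s.2, t, ψ, u.1 • π, ?_⟩
  rw [LinearMap.smul_comp, mul_smul]
  exact hu

/-- Killing the cohomology of the ring kills, up to the free ideal, that of the module. -/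
theorem smul_eq_zero_of_mem_freeIdeal (I : Ideal R) (i : ℕ) {a r : R} (hr : r ∈ freeIdeal M)
    (ha : ∀ x : LocCoh.H I i R, a • x = 0) (x : LocCoh.H I i M) : (a * r) • x = 0 := by
  obtain ⟨t, ψ, φ, h⟩ := hr
  have h2 : ∀ t, ∀ z : LocCoh.H I i (Fin t → R), a • z = 0 := fun t z => by
    classical
    have hid : (LinearMap.id : (Fin t → R) →ₗ[R] (Fin t → R)) =
        ∑ j : Fin t, LinearMap.toSpanSingleton R _ (Pi.single j 1) ∘ₗ LinearMap.proj j := by
      refine LinearMap.ext fun v => ?_
      rw [LinearMap.id_apply, LinearMap.sum_apply]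
      funext k
      simp [Finset.sum_apply, Pi.single_apply]
    rw [show z = Hmap I i LinearMap.id z by rw [Hmap_id]; rfl, hid]
    let F : ((Fin t → R) →ₗ[R] (Fin t → R)) →+ (LocCoh.H I i (Fin t → R) →ₗ[R] LocCoh.H I i (Fin t → R)) :=
      AddMonoidHom.mk' (Hmap I i) fun f g => congrArg ModuleCat.Hom.hom
        ((localCohomology I i).map_add (f := ModuleCat.ofHom f) (g := ModuleCat.ofHom g))
    rw [show Hmap I i _ = F _ from rfl, map_sum, LinearMap.sum_apply, Finset.smul_sum]
    refine Finset.sum_eq_zero fun j _ => ?_
    show a • Hmap I i _ z = 0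
    rw [Hmap_comp, LinearMap.comp_apply, ← map_smul, ha, map_zero]
  rw [mul_comm, mul_smul, ← Hmap_lsmul,
    show LinearMap.lsmul R M r = φ ∘ₗ ψ from h.symm, Hmap_comp, LinearMap.comp_apply, map_smul, h2,
    map_zero]

variable [IsNoetherianRing R]

theorem subsingleton_H_self (b : Ideal R) (i : ℕ) (h : (i : ℕ∞) < LocCoh.idealDepth b R) :
    Subsingleton (LocCoh.H b i R) :=
  (Depth.LocalCoh.le_idealDepth_iff_H b R (i + 1)).1 (Order.add_one_le_of_lt h) i i.lt_succ_self

variable (M) in
/-- An ideal killing local cohomology below the grade minus `h`, outside only the primes where the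
projective dimension exceeds `h`. -/
theorem exists_killing_ideal [Module.Finite R M] (h : ℕ) : ∃ J : Ideal R,
    (∀ (p : Ideal R) [p.IsPrime], HasProjectiveDimensionLE
      (ModuleCat.of (Localization.AtPrime p) (LocalizedModule p.primeCompl M)) h → ¬ J ≤ p) ∧
    ∀ (b : Ideal R) (i : ℕ), ((i + h : ℕ) : ℕ∞) < LocCoh.idealDepth b R →
      ∀ a ∈ J, ∀ x : LocCoh.H b i M, a • x = 0 := by
  induction h generalizing M with
  | zero =>
    refine ⟨freeIdeal M, fun p _ hp hle => ?_, fun b i hi a ha x => ?_⟩
    · have hproj : Module.Projective (Localization p.primeCompl) (LocalizedModule p.primeCompl M) :=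
        (IsProjective.iff_projective _).2 (projective_iff_hasProjectiveDimensionLT_one.2 hp)
      obtain ⟨s, hs, hsI⟩ := exists_mem_freeIdeal p.primeCompl hproj
      exact hs (hle hsI)
    · have hs := subsingleton_H_self b i hi
      have := smul_eq_zero_of_mem_freeIdeal b i ha (a := 1) (fun z => hs.elim _ _) x
      rwa [one_mul] at this
  | succ h ih =>
    obtain ⟨t, π, hπ⟩ := Module.Finite.exists_fin' R M
    have hι := Submodule.injective_subtype (LinearMap.ker π)
    have hex : Function.Exact (LinearMap.ker π).subtype π := LinearMap.exact_subtype_ker_map π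
    obtain ⟨J, hJ, hkill⟩ := ih (LinearMap.ker π)
    refine ⟨J, fun p _ hp => hJ p ?_, fun b i hi a ha x => ?_⟩
    · let S := p.primeCompl
      have hP : Module.Projective (Localization S) (LocalizedModule S (Fin t → R)) :=
        Module.Projective.of_equiv (LocalizedModule.equivTensorProduct S (Fin t → R)).symm
      have : Projective (ModuleCat.of (Localization S) (LocalizedModule S (Fin t → R))) :=
        (IsProjective.iff_projective _).1 hP
      have hex' : Function.Exact (LocalizedModule.map S (LinearMap.ker π).subtype)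
          (LocalizedModule.map S π) := LocalizedModule.map_exact S _ _ hex
      have hS := Seq.ses_shortExact (R := Localization S) (M := LocalizedModule S (LinearMap.ker π)) (N := LocalizedModule S (Fin t → R)) (P := LocalizedModule S M) (f := LocalizedModule.map S (LinearMap.ker π).subtype)
        (g := LocalizedModule.map S π) (LocalizedModule.map_injective S _ hι)
        (LocalizedModule.map_surjective S _ hπ) hex'
      exact hS.hasProjectiveDimensionLT_X₁ (h + 1)
        (hasProjectiveDimensionLT_of_ge (ModuleCat.of (Localization S) (LocalizedModule S (Fin t → R)))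
          1 _ (by omega)) hp
    · have hF : Subsingleton (LocCoh.H b i (Fin t → R)) :=
        Cd.subsingleton_pi (subsingleton_H_self b i (lt_of_le_of_lt (by exact_mod_cast (by omega : i ≤ i + (h + 1))) hi)) t
      have hinj : Function.Injective (Seq.δ b hι hπ hex i) := by
        rw [← LinearMap.ker_eq_bot, Submodule.eq_bot_iff]
        intro z hz
        obtain ⟨y, rfl⟩ := (exact_map_δ b hι hπ hex i z).1 hz
        rw [hF.elim y 0, map_zero]
      refine hinj ?_
      rw [map_smul, map_zero]
      exact hkill b (i + 1) (by rwa [add_right_comm, add_assoc]) a ha _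

end Groth.Agent.Lib.LCFin.Kill
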