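import Groth.Agent.Lib.LCFin.PuncturedArt
import Groth.Agent.Lib.LCFin.LocFreeKill
import Mathlib.AlgebraicGeometry.QuasiAffine
import Mathlib.AlgebraicGeometry.AffineScheme

/-!
The punctured spectrum is affine when the cohomological dimension is at most one.
-/

set_option autoImplicit false
set_option linter.style.haveILetI false
universe u

open CategoryTheory CategoryTheory.Limits AlgebraicGeometry Opposite TopologicalSpace
open Groth.Agent.Lib.Curves Groth.Agent.Lib.LocalCoh Groth.Agent.Lib.LCFin.PuncturedArt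
open Groth.Agent.H20.TildeSections (Sec toU)

namespace Groth.Agent.Lib.LCFin.PuncturedAffine

variable {A : Type u} [CommRing A] (I : Ideal A)

local notation "U" => LocCoh.puncturedOpen A I

/-- The map on sections of a linear map. -/
noncomputable def secMap {M N : ModuleCat.{u} A} (g : M ⟶ N) : Sec M U →ₗ[A] Sec N U :=
  ((modulesSpecToSheaf.map ((tilde.functor (CommRingCat.of A)).map g)).1.app (op U)).hom

theorem secMap_toU {M N : ModuleCat.{u} A} (g : M ⟶ N) (m : M) :
    secMap I g (toU M U m) = toU N U (g.hom m) :=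
  LinearMap.congr_fun (congrArg ModuleCat.Hom.hom
    (tilde.toOpen_map_app (R := CommRingCat.of A) g U)) m

theorem mapK_toH0 {M N : ModuleCat.{u} A} (g : M ⟶ N) (x : Sec M U) :
    LES.mapK A (rstMap I g) 0 (toH0 I M x) = toH0 I N (secMap I g x) := by
  apply (GlobalSections.h0Equiv (rst I N)).injective
  refine Eq.trans ?_ ((GlobalSections.h0Equiv (rst I N)).apply_symm_apply _).symm
  refine (Sheaf.H.equiv₀_naturality (hT := isTerminalTop) (LES.toAbMap (rstMap I g)) _).symm.trans ?_
  have h0 : GlobalSections.h0Equiv (rst I M) (toH0 I M x) = sec I M x :=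
    (GlobalSections.h0Equiv (rst I M)).apply_symm_apply _
  refine (congrArg ((rstMap I g).app ⊤) h0).trans ?_
  exact (QCoh.Localizing.res_app ((tilde.functor (CommRingCat.of A)).map g) _ _).symm

theorem toH0_injective (M : ModuleCat.{u} A) : Function.Injective (toH0 I M) := by
  intro x y h
  have h' : sec I M x = sec I M y := (GlobalSections.h0Equiv (rst I M)).symm.injective h
  have h2 := congrArg (QCoh.Localizing.res (tilde (R := CommRingCat.of A) M) (U).ι_image_top.ge) h'
  exact (((QCoh.Localizing.res_res _ _ _).trans (QCoh.Localizing.res_self _ _)).symm.trans h2).trans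
    ((QCoh.Localizing.res_res _ _ _).trans (QCoh.Localizing.res_self _ _))

variable [IsNoetherianRing A]

theorem ext_of_toU {M N : ModuleCat.{u} A} {f g : Sec M U →ₗ[A] Sec N U}
    (h : ∀ m, f (toU M U m) = g (toU M U m)) : f = g := by
  refine LinearMap.ext fun x => ?_
  obtain ⟨n, hn⟩ := Groth.Agent.H20.TildeSections.powerTorsion_coker M I (Submodule.Quotient.mk x)
  have hmem : f x - g x ∈ ⨆ n : ℕ, LocCoh.torsionBy (I ^ n) (Sec N U) :=
    Submodule.mem_iSup_of_mem n ((Submodule.mem_torsionBySet_iff _ _).2 fun a => by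
      obtain ⟨m, hm⟩ := (Submodule.Quotient.mk_eq_zero _).1
        ((Submodule.Quotient.mk_smul _ a.1 x).trans (hn a.1 a.2))
      show a.1 • (f x - g x) = 0
      rw [smul_sub, ← map_smul, ← map_smul, ← hm, h m, sub_self])
  rw [Groth.Agent.H20.TildeSections.torsion_sec N I, Submodule.mem_bot] at hmem
  exact sub_eq_zero.1 hmem

variable (h1 : LocCoh.CdLE A I 1)
include h1

theorem secMap_surjective {M N : ModuleCat.{u} A} (g : M ⟶ N) (hg : Function.Surjective g.hom) :
    Function.Surjective (secMap I g) := by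
  intro y
  let S : ShortComplex (ModuleCat.{u} A) := ShortComplex.mk (kernel.ι g) g (kernel.condition _)
  haveI : Epi g := (ModuleCat.epi_iff_surjective g).2 hg
  have hS : S.ShortExact :=
    { exact := ShortComplex.exact_of_f_is_kernel S (kernelIsKernel _)
      mono_f := inferInstanceAs (Mono (kernel.ι g))
      epi_g := inferInstanceAs (Epi g) }
  have hT := shortExact_rst (R := CommRingCat.of A) (U) (S := S) hS
  have hK : Subsingleton (Coh.HH (U : Scheme.{u}) (rst I (kernel g)) 1) := by
    obtain ⟨e⟩ := Groth.Agent.S0356.result A I (kernel g : ModuleCat.{u} A) 1 le_rfl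
    haveI : Subsingleton (LocCoh.H I (1 + 1) (kernel g : ModuleCat.{u} A)) := h1 _ 2 (by omega)
    exact e.toEquiv.subsingleton
  obtain ⟨z, hz⟩ := (LES.exactK₃ A hT 0 1 rfl (toH0 I N y)).1 (hK.elim _ _)
  obtain ⟨x, rfl⟩ := toH0_surjective I M z
  refine ⟨x, toH0_injective I N ?_⟩
  rw [← mapK_toH0]
  exact hz

theorem exists_combination : ∃ (n : ℕ) (f : Fin n → A) (s : Fin n → Sec (ModuleCat.of A A) U),
    (∀ i, f i ∈ I) ∧ ∑ i, f i • s i = toU (ModuleCat.of A A) U 1 := by
  classical
  obtain ⟨n, f, hf⟩ := Submodule.fg_iff_exists_fin_generating_family.1 (IsNoetherian.noetherian I)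
  have hfI : ∀ i, f i ∈ I := fun i => hf ▸ Submodule.subset_span ⟨i, rfl⟩
  let P := ModuleCat.of A (Fin n → A)
  let ψ : (Fin n → A) →ₗ[A] A := Fintype.linearCombination A f
  let Q := ModuleCat.of A (A ⧸ I)
  let π : ModuleCat.of A A ⟶ Q := ModuleCat.ofHom (Submodule.mkQ (I : Submodule A A))
  let K := ModuleCat.of A (I : Submodule A A)
  let ι : K ⟶ ModuleCat.of A A := ModuleCat.ofHom (Submodule.subtype (I : Submodule A A))
  have hψ : ∀ v, ψ v ∈ I := fun v => by
    rw [Fintype.linearCombination_apply]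
    exact I.sum_mem fun i _ => I.mul_mem_left _ (hfI i)
  let g : P ⟶ K := ModuleCat.ofHom (ψ.codRestrict I hψ)
  have hg : Function.Surjective g.hom := by
    rintro ⟨a, ha⟩
    rw [← hf, ← Fintype.range_linearCombination] at ha
    obtain ⟨v, hv⟩ := ha
    exact ⟨v, Subtype.ext hv⟩
  -- sections of `A/I` vanish
  have hQ : Subsingleton (Sec Q U) := by
    have hker : ∀ q : Q, toU Q U q = 0 := fun q => by
      show q ∈ LinearMap.ker (toU Q U)
      rw [Groth.Agent.H20.TildeSections.ker_toU Q I]
      refine Submodule.mem_iSup_of_mem 1 ((Submodule.mem_torsionBySet_iff _ _).2 fun a => ?_)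
      obtain ⟨b, rfl⟩ := Submodule.Quotient.mk_surjective _ q
      refine (Submodule.Quotient.mk_smul _ _ _).symm.trans ((Submodule.Quotient.mk_eq_zero _).2 ?_)
      exact I.mul_mem_right b ((pow_one I).le a.2)
    exact subsingleton_of_forall_eq 0 fun x => LinearMap.congr_fun
      (ext_of_toU I (f := LinearMap.id) (g := 0) fun q => hker q) x
  let S : ShortComplex (ModuleCat.{u} A) := ShortComplex.mk ι π (by ext x; exact (Submodule.Quotient.mk_eq_zero _).2 x.2)
  have hS : S.ShortExact :=
    { exact := (ShortComplex.ShortExact.moduleCat_exact_iff_function_exact _).2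
        (LinearMap.exact_iff.2 ((Submodule.ker_mkQ _).trans (Submodule.range_subtype _).symm))
      mono_f := (ModuleCat.mono_iff_injective _).2 Subtype.val_injective
      epi_g := (ModuleCat.epi_iff_surjective _).2 (Submodule.mkQ_surjective _) }
  have hT := shortExact_rst (R := CommRingCat.of A) (U) (S := S) hS
  obtain ⟨z, hz⟩ := (LES.exactK₂ A hT 0 (toH0 I (ModuleCat.of A A) (toU (ModuleCat.of A A) U 1))).1
    ((toH0_surjective I Q).subsingleton.elim _ _)
  obtain ⟨x, rfl⟩ := toH0_surjective I K z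
  obtain ⟨w, rfl⟩ := secMap_surjective I h1 g hg x
  refine ⟨n, f, fun i => secMap I (ModuleCat.ofHom (LinearMap.proj i) : P ⟶ ModuleCat.of A A) w, hfI, ?_⟩
  have hx : secMap I ι (secMap I g w) = toU (ModuleCat.of A A) U 1 := by
    apply toH0_injective I (ModuleCat.of A A)
    rw [← mapK_toH0]
    exact hz
  rw [← hx]
  have key : (∑ i, f i • secMap I (ModuleCat.ofHom (LinearMap.proj i) : P ⟶ ModuleCat.of A A)) =
      secMap I ι ∘ₗ secMap I g := ext_of_toU I fun m => by
    simp only [LinearMap.coe_sum, Finset.sum_apply, LinearMap.smul_apply, LinearMap.comp_apply]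
    refine Eq.trans ?_ ((congrArg (secMap I ι) (secMap_toU I g m)).trans (secMap_toU I ι (g.hom m))).symm
    refine (Finset.sum_congr rfl fun i _ => (congrArg (f i • ·)
      (secMap_toU I (ModuleCat.ofHom (LinearMap.proj i) : P ⟶ ModuleCat.of A A) m)).trans
        (map_smul (toU (ModuleCat.of A A) U) (f i) _).symm).trans ?_
    refine (map_sum (toU (ModuleCat.of A A) U) _ _).symm.trans (congrArg _ ?_)
    show ∑ i, f i • m i = ψ m
    rw [Fintype.linearCombination_apply]
    exact Finset.sum_congr rfl fun i _ => mul_comm _ _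
  simpa using LinearMap.congr_fun key w

theorem isAffine : IsAffine (U : Scheme.{u}) := by
  obtain ⟨n, f, s, hf, hs⟩ := exists_combination I h1
  let ψ : A →+* Γ((U : Scheme.{u}), ⊤) := Coh.toGlobal ((U : Scheme.{u}) ↘ Spec (CommRingCat.of A))
  let t : Fin n → Γ((U : Scheme.{u}), ⊤) := fun i => sec I (ModuleCat.of A A) (s i)
  have h1' : sec I (ModuleCat.of A A) (toU (ModuleCat.of A A) U 1) = (1 : Γ((U : Scheme.{u}), ⊤)) := by
    refine Eq.trans ?_ (map_one ((Spec (CommRingCat.of A)).presheaf.map (homOfLE (U).ι_image_top.le).op).hom)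
    refine congrArg (sec I (ModuleCat.of A A)) ?_
    exact Subtype.ext (funext fun y => OreLocalization.one_def.symm)
  have hone : ∑ i, ψ (f i) * t i = 1 := by
    rw [← h1', ← hs, map_sum]
    refine Finset.sum_congr rfl fun i _ => ?_
    refine Eq.trans ?_ (sec_smul I (ModuleCat.of A A) (f i) (s i)).symm
    show ψ (f i) * t i = ((U).ι.appIso ⊤).inv (ψ (f i)) •
      (show Γ(tilde (R := CommRingCat.of A) (ModuleCat.of A A), (U).ι ''ᵁ ⊤) from
        sec I (ModuleCat.of A A) (s i))
    rw [Scheme.Opens.ι_appIso]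
    rfl
  refine isAffine_of_isAffineOpen_basicOpen (Set.range fun i => ψ (f i)) ?_ ?_
  · rw [Ideal.eq_top_iff_one, ← hone]
    exact Ideal.sum_mem _ fun i _ => Ideal.mul_mem_right _ _ (Ideal.subset_span ⟨i, rfl⟩)
  · rintro _ ⟨i, rfl⟩
    have hb : (U : Scheme.{u}).basicOpen (ψ (f i)) = (U).ι ⁻¹ᵁ PrimeSpectrum.basicOpen (f i) := by
      rw [← basicOpen_eq_of_affine (R := CommRingCat.of A) (f i)]
      exact ((U).ι.preimage_basicOpen_top _).symm
    show IsAffineOpen ((U : Scheme.{u}).basicOpen (ψ (f i)))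
    rw [hb]
    refine (IsAffineOpen.Spec_basicOpen (R := CommRingCat.of A) (f i)).preimage_of_isOpenImmersion (U).ι ?_
    rw [Scheme.Opens.opensRange_ι]
    exact Groth.Agent.H20.TildeSections.basicOpen_le I (hf i)

end Groth.Agent.Lib.LCFin.PuncturedAffine
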