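import Groth.Agent.Lib.LocalCoh.Basic
import Groth.Agent.Lib.LCFin.Seq
import Groth.Agent.Lib.LCFin.ExtLoc
import Mathlib.Algebra.Homology.DerivedCategory.Ext.EnoughInjectives

/-!
Transition maps of `Ext` above the cohomological dimension.
-/

universe u

open CategoryTheory Opposite
open Groth.Agent.Lib.LocalCoh Groth.Agent.Lib.LCFin.Seq

namespace Groth.Agent.Lib.LCFin.TransitionZero

variable {A : Type u} [CommRing A] [IsNoetherianRing A]

/-- A universal class. -/
theorem exists_universal : ∀ (j : ℕ) (L : Type u) [AddCommGroup L] [Module A L] [Module.Finite A L],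
    ∃ (K : ModuleCat.{u} A) (v : Abelian.Ext (ModuleCat.of A L) K j),
      ∀ (N : ModuleCat.{u} A) (x : Abelian.Ext (ModuleCat.of A L) N j),
        ∃ g : K ⟶ N, v.comp (Abelian.Ext.mk₀ g) (add_zero j) = x := by
  intro j
  induction j with
  | zero =>
    intro L _ _ _
    refine ⟨ModuleCat.of A L, Abelian.Ext.mk₀ (𝟙 _), fun N x => ?_⟩
    obtain ⟨g, rfl⟩ := exists_mk₀ x
    exact ⟨g, by simp⟩
  | succ j ih =>
    intro L _ _ _
    obtain ⟨s, π, hπ⟩ := Module.Finite.exists_fin' A L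
    obtain ⟨K, v, hv⟩ := ih (LinearMap.ker π)
    have hι := (LinearMap.ker π).injective_subtype
    have hex := LinearMap.exact_subtype_ker_map π
    refine ⟨K, (ses_shortExact hι hπ hex).extClass.comp v (add_comm 1 j), fun N x => ?_⟩
    obtain ⟨y, rfl⟩ := ExtLoc.extConn_surjective hι hπ hex N inferInstance j x
    obtain ⟨g, rfl⟩ := hv N y
    exact ⟨g, Abelian.Ext.comp_assoc_of_third_deg_zero _ _ _ _⟩

/-- Transition maps above the cohomological dimension vanish. -/
theorem exists_transition_zero (I : Ideal A) (e : ℕ) (he : LocCoh.CdLE A I e) (n : ℕ) :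
    ∃ (m : ℕ) (hm : n < m), ∀ (i : ℕ), e < i → ∀ (N : ModuleCat.{u} A)
      (x : Abelian.Ext (ModuleCat.of A (A ⧸ I ^ n)) N i),
        (Abelian.Ext.mk₀ (ModuleCat.ofHom (Submodule.mapQ (I ^ m) (I ^ n) LinearMap.id
          (Ideal.pow_le_pow_right (Nat.le_of_lt hm))))).comp x (zero_add i) = 0 := by
  obtain ⟨K, v, hv⟩ := exists_universal (A := A) (e + 1) (A ⧸ I ^ n)
  have : Subsingleton ((colimExt (quotSys I) (e + 1)).obj K) :=
    ((lcIso I (e + 1)).app K).symm.toLinearEquiv.toEquiv.subsingleton_congr.2 (he K (e + 1) e.lt_succ_self)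
  obtain ⟨k', g, hg⟩ := (colimExt.ι_eq_zero_iff (quotSys I) (e + 1) K (op (op n)) v).1
    (Subsingleton.elim _ _)
  obtain ⟨⟨k⟩⟩ := k'
  have hnk : n ≤ k := g.unop.unop.le
  let g₀ : ModuleCat.of A (A ⧸ I ^ k) ⟶ ModuleCat.of A (A ⧸ I ^ n) := ((quotSys I).map g).unop
  have hg' : (Abelian.Ext.mk₀ g₀).comp v (zero_add (e + 1)) = 0 := hg
  refine ⟨k + 1, by omega, fun i hi => ?_⟩
  obtain ⟨t, rfl⟩ : ∃ t, i = e + 1 + t := ⟨i - (e + 1), by omega⟩
  clear hi
  induction t with
  | zero =>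
    intro N x
    obtain ⟨h, rfl⟩ := hv N x
    rw [show ModuleCat.ofHom (Submodule.mapQ (I ^ (k + 1)) (I ^ n) LinearMap.id
          (Ideal.pow_le_pow_right (by omega : n ≤ k + 1))) =
        ModuleCat.ofHom (Submodule.mapQ (I ^ (k + 1)) (I ^ k) LinearMap.id
          (Ideal.pow_le_pow_right k.le_succ)) ≫ g₀ from
      ModuleCat.hom_ext (Submodule.linearMap_qext _ (LinearMap.ext fun _ => rfl)),
      ← Abelian.Ext.mk₀_comp_mk₀]
    rw [Abelian.Ext.comp_assoc_of_second_deg_zero, ← Abelian.Ext.comp_assoc_of_third_deg_zero _ v]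
    rw [hg']
    rw [Abelian.Ext.zero_comp, Abelian.Ext.comp_zero]
  | succ t ih =>
    intro N x
    let S := ShortComplex.mk (Injective.ι N) (Limits.cokernel.π (Injective.ι N))
      (Limits.cokernel.condition _)
    have hS : S.ShortExact :=
      { exact := ShortComplex.exact_of_g_is_cokernel _ (Limits.cokernelIsCokernel _) }
    have : Injective S.X₂ := inferInstanceAs (Injective (Injective.under N))
    obtain ⟨y, hy⟩ := Abelian.Ext.covariant_sequence_exact₁ _ hS x
      (Abelian.Ext.eq_zero_of_injective (n := e + 1 + t) _) (n₀ := e + 1 + t) rfl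
    rw [← hy, ← Abelian.Ext.comp_assoc (a₁₂ := e + 1 + t) _ _ _ (zero_add _) rfl (by omega),
      ih S.X₃ y, Abelian.Ext.zero_comp]

end Groth.Agent.Lib.LCFin.TransitionZero
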